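import Groth.Prelude.Def_FlatMod2
import Groth.Prelude.Def_Coh
import Mathlib.AlgebraicGeometry.Properties
import Mathlib.Algebra.Category.ModuleCat.Biproducts
import Mathlib.CategoryTheory.Preadditive.AdditiveFunctor
import Mathlib.LinearAlgebra.InvariantBasisNumber
import Mathlib.LinearAlgebra.FreeModule.StrongRankCondition

/-! A monomorphism of finite locally free modules on an irreducible scheme does not increase the rank. -/

set_option autoImplicit false
universe u
open CategoryTheory CategoryTheory.Limits AlgebraicGeometry Opposite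

namespace Groth.Misc15

noncomputable def sectionsFunctor (X : Scheme.{u}) (U : X.Opens) : X.Modules ⥤ ModuleCat.{u} Γ(X, U) where
  obj M := ModuleCat.of Γ(X, U) Γ(M, U)
  map {M N} f := ModuleCat.ofHom
    { toFun := fun x => f.app U x
      map_add' := fun x y => map_add (f.app U).hom x y
      map_smul' := fun r x => Scheme.Modules.Hom.app_smul f r x }
  map_id M := by ext x; rfl
  map_comp f g := by ext x; rfl

instance sectionsFunctor_additive (X : Scheme.{u}) (U : X.Opens) : (sectionsFunctor X U).Additive where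
  map_add := by intros; ext x; rfl

lemma app_injective_of_mono {X : Scheme.{u}} {M N : X.Modules} (f : M ⟶ N) [Mono f] (U : X.Opens) :
    Function.Injective (f.app U) := by
  have h : Mono f.mapPresheaf := inferInstanceAs (Mono ((Scheme.Modules.toPresheaf X).map f))
  have h' : Mono (f.mapPresheaf.app (op U)) := inferInstance
  exact (AddCommGrpCat.mono_iff_injective _).mp h'

lemma mono_of_app_injective {X : Scheme.{u}} {M N : X.Modules} (f : M ⟶ N)
    (h : ∀ U : X.Opens, Function.Injective (f.app U)) : Mono f := by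
  apply (Scheme.Modules.toPresheaf X).mono_of_mono_map
  have : ∀ U, Mono (((Scheme.Modules.toPresheaf X).map f).app U) := fun U => (AddCommGrpCat.mono_iff_injective _).mpr (h U.unop)
  exact NatTrans.mono_of_mono_app _

lemma restrictFunctor_map_mono {X Y : Scheme.{u}} (g : X ⟶ Y) [IsOpenImmersion g] {M N : Y.Modules}
    (f : M ⟶ N) [Mono f] : Mono ((Scheme.Modules.restrictFunctor g).map f) :=
  mono_of_app_injective _ fun U => app_injective_of_mono f (g ''ᵁ U)

attribute [local instance] HasFiniteBiproducts.of_hasFiniteProducts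

noncomputable def sectionsFreeEquiv (X : Scheme.{u}) (n : ℕ) :
    (Fin n → Γ(X, (⊤ : X.Opens))) ≃ₗ[Γ(X, (⊤ : X.Opens))]
      (sectionsFunctor X ⊤).obj (FlatMod.freeMod X n) :=
  (((sectionsFunctor X ⊤).mapIso (biproduct.isoCoproduct fun _ : Fin n => Coh.structureModule X)).symm ≪≫
    (sectionsFunctor X ⊤).mapBiproduct _ ≪≫ ModuleCat.biproductIsoPi _).toLinearEquiv.symm

noncomputable def restrictFreeIso {X Y : Scheme.{u}} (g : X ⟶ Y) [IsOpenImmersion g] (n : ℕ) :
    (FlatMod.freeMod Y n).restrict g ≅ FlatMod.freeMod X n :=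
  PreservesCoproduct.iso (Scheme.Modules.restrictFunctor g) _ ≪≫
    Sigma.mapIso fun _ => Scheme.Modules.restrictUnitIso g

lemma nonempty_restrict_free {X : Scheme.{u}} {M : X.Modules} {n : ℕ} {U W : X.Opens} (hWU : W ≤ U)
    (e : M.restrict U.ι ≅ FlatMod.freeMod (↑U) n) :
    Nonempty (M.restrict W.ι ≅ FlatMod.freeMod (↑W) n) :=
  ⟨(Scheme.Modules.restrictFunctorCongr (X.homOfLE_ι hWU).symm).app M ≪≫
    (Scheme.Modules.restrictFunctorComp (X.homOfLE hWU) U.ι).app M ≪≫
    (Scheme.Modules.restrictFunctor (X.homOfLE hWU)).mapIso e ≪≫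
    restrictFreeIso _ n⟩

theorem rank_le_of_mono {X : Scheme.{u}} [IrreducibleSpace X] {F E : X.Modules} {r n : ℕ}
    (hF : FlatMod.IsFinLocFreeOfRank r F) (hE : FlatMod.IsFinLocFreeOfRank n E)
    (i : F ⟶ E) [Mono i] : r ≤ n := by
  obtain ⟨x⟩ := (inferInstance : Nonempty X)
  obtain ⟨U, hxU, ⟨eF⟩⟩ := hF x
  obtain ⟨U', hxU', ⟨eE⟩⟩ := hE x
  obtain ⟨a⟩ := nonempty_restrict_free (W := U ⊓ U') inf_le_left eF
  obtain ⟨b⟩ := nonempty_restrict_free (W := U ⊓ U') inf_le_right eE
  have : Nonempty (↑(U ⊓ U') : Scheme.{u}) := ⟨⟨x, hxU, hxU'⟩⟩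
  have hm := restrictFunctor_map_mono (U ⊓ U').ι i
  let m : FlatMod.freeMod (↑(U ⊓ U')) r ⟶ FlatMod.freeMod (↑(U ⊓ U')) n :=
    a.inv ≫ (Scheme.Modules.restrictFunctor (U ⊓ U').ι).map i ≫ b.hom
  have hinj := app_injective_of_mono m ⊤
  let L := (sectionsFreeEquiv _ n).symm.toLinearMap ∘ₗ
    ((sectionsFunctor _ ⊤).map m).hom ∘ₗ (sectionsFreeEquiv _ r).toLinearMap
  have : Nonempty (⊤ : (↑(U ⊓ U') : Scheme.{u}).Opens) := ⟨⟨⟨x, hxU, hxU'⟩, trivial⟩⟩
  have : Nontrivial Γ((↑(U ⊓ U') : Scheme.{u}), ⊤) := inferInstance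
  exact le_of_fin_injective Γ((↑(U ⊓ U') : Scheme.{u}), ⊤) L
    ((sectionsFreeEquiv _ n).symm.injective.comp (hinj.comp (sectionsFreeEquiv _ r).injective))

end Groth.Misc15
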