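import Groth.Prelude.Def_CohB1
import Mathlib

/-!
# Charts and points of projective space

The standard affine charts `A^n_R ⟶ P^n_R` of `CohB1.ProjSpaceOver n (Spec R)`, points given by
homogeneous coordinates, and points of `P^n` with values in a field.
-/

set_option autoImplicit false

universe u

open CategoryTheory CategoryTheory.Limits AlgebraicGeometry
open scoped TensorProduct

namespace Groth.Misc15.ProjPts

/-- the base ring `ℤ` lifted to the universe -/
abbrev Z : Type u := ULift.{u} ℤ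

variable {n : ℕ}

/-- the grading of the homogeneous coordinate ring over `ℤ` -/
noncomputable abbrev gr (n : ℕ) : ℕ → Submodule Z.{u} (MvPolynomial (Fin (n + 1)) Z.{u}) := CohB1.polyGrading n Z.{u}

lemma X_mem (i : Fin (n + 1)) : (MvPolynomial.X i : MvPolynomial (Fin (n + 1)) Z.{u}) ∈ gr n 1 :=
  (MvPolynomial.mem_homogeneousSubmodule 1 _).mpr (MvPolynomial.isHomogeneous_X Z.{u} i)

section Eval
variable {R S : Type u} [CommRing R] [CommRing S]

/-- the ring map from the integers -/
def θ (R : Type u) [CommRing R] : Z.{u} →+* R := (Int.castRingHom R).comp ULift.ringEquiv.toRingHom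

lemma hom_eq_θ (φ : Z.{u} →+* R) : φ = θ R := by
  refine RingHom.ext fun ⟨z⟩ => ?_
  exact RingHom.congr_fun (RingHom.ext_int (φ.comp ULift.ringEquiv.symm.toRingHom) (Int.castRingHom R)) z

/-- evaluation at a tuple -/
noncomputable def ev (c : Fin (n + 1) → R) : MvPolynomial (Fin (n + 1)) Z.{u} →+* R :=
  MvPolynomial.eval₂Hom (θ R) c

@[simp] lemma ev_X (c : Fin (n + 1) → R) (i : Fin (n + 1)) : ev c (MvPolynomial.X i) = c i :=
  MvPolynomial.eval₂Hom_X' _ _ _

lemma comp_ev (φ : R →+* S) (c : Fin (n + 1) → R) : φ.comp (ev c) = ev (φ ∘ c) := by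
  refine MvPolynomial.ringHom_ext (fun r => ?_) fun i => ?_
  · exact RingHom.congr_fun (hom_eq_θ ((φ.comp (ev c)).comp MvPolynomial.C)) r |>.trans
      (by simp [ev])
  · simp

lemma ev_smul (a : R) (c : Fin (n + 1) → R) {d : ℕ} {p : MvPolynomial (Fin (n + 1)) Z.{u}}
    (hp : p.IsHomogeneous d) : ev (fun i => a * c i) p = a ^ d * ev c p := by
  simp only [ev, MvPolynomial.coe_eval₂Hom, MvPolynomial.eval₂_eq', Finset.mul_sum]
  refine Finset.sum_congr rfl fun x hx => ?_
  have hdeg : ∑ i, x i = d := by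
    rw [← Finsupp.degree_eq_sum, Finsupp.degree_eq_weight_one]
    exact hp (MvPolynomial.mem_support_iff.mp hx)
  simp only [mul_pow, Finset.prod_mul_distrib, Finset.prod_pow_eq_pow_sum, hdeg]
  ring

variable {f g : MvPolynomial (Fin (n + 1)) Z.{u}}

/-- evaluation of degree-zero fractions at a tuple -/
noncomputable def evAway (f : MvPolynomial (Fin (n + 1)) Z.{u}) (c : Fin (n + 1) → R) (h : IsUnit (ev c f)) :
    HomogeneousLocalization.Away (gr n) f →+* R :=
  (IsLocalization.Away.lift (S := Localization.Away f) f h).comp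
    (algebraMap (HomogeneousLocalization.Away (gr n) f) (Localization.Away f))

lemma evAway_lift (c : Fin (n + 1) → R) (h : IsUnit (ev c f)) (x : HomogeneousLocalization.Away (gr n) f) :
    evAway f c h x = IsLocalization.Away.lift (S := Localization.Away f) f h x.val := rfl

lemma lift_mk (c : Fin (n + 1) → R) (h : IsUnit (ev c f)) (p : MvPolynomial (Fin (n + 1)) Z.{u}) (d : ℕ) :
    IsLocalization.Away.lift (S := Localization.Away f) f h (Localization.mk p ⟨f ^ d, d, rfl⟩) * ev c f ^ d =
      ev c p := by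
  rw [← map_pow, ← IsLocalization.Away.lift_eq f h (f ^ d) (S := Localization.Away f), ← map_mul,
    Localization.mk_eq_mk', IsLocalization.mk'_spec, IsLocalization.Away.lift_eq]

lemma comp_evAway (φ : R →+* S) (c : Fin (n + 1) → R) (h : IsUnit (ev c f)) (h' : IsUnit (ev (φ ∘ c) f)) :
    φ.comp (evAway f c h) = evAway f (φ ∘ c) h' := by
  rw [evAway, evAway, ← RingHom.comp_assoc]
  congr 1
  refine IsLocalization.ringHom_ext (Submonoid.powers f) (RingHom.ext fun p => ?_)
  simp only [RingHom.comp_apply, IsLocalization.Away.lift_eq, ← comp_ev]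

lemma evAway_awayMap (hg : g ∈ gr n 1) (x : MvPolynomial (Fin (n + 1)) Z.{u})
    (hx : x = f * g) (c : Fin (n + 1) → R) (h : IsUnit (ev c f)) (h' : IsUnit (ev c x)) :
    (evAway x c h').comp (HomogeneousLocalization.awayMap (gr n) hg hx) = evAway f c h := by
  refine RingHom.ext fun a => ?_
  obtain ⟨⟨N, ⟨p, hp⟩, ⟨b, hb⟩, ⟨d, (rfl : _ = b)⟩⟩, rfl⟩ := HomogeneousLocalization.mk_surjective a
  rw [RingHom.comp_apply, evAway_lift, evAway_lift, HomogeneousLocalization.val_awayMap_mk,
    HomogeneousLocalization.val_mk]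
  refine (h'.pow d).mul_left_injective ?_
  simp only
  subst hx
  rw [lift_mk, map_mul, map_pow, map_mul (ev c) f g, mul_pow, ← mul_assoc, lift_mk]

/-- the basic open chart of `f` -/
noncomputable def aw (f : MvPolynomial (Fin (n + 1)) Z.{u}) {d : ℕ} (hf : f ∈ gr n d) (hd : 0 < d) :
    Spec (CommRingCat.of (HomogeneousLocalization.Away (gr n) f)) ⟶ CohB1.ProjSpace n Z.{u} :=
  Proj.awayι (gr n) f hf hd

lemma aw_awayMap {g x : MvPolynomial (Fin (n + 1)) Z.{u}} (hf : f ∈ gr n 1) (hg : g ∈ gr n 1) (hx : x = f * g)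
    (hxm : x ∈ gr n (1 + 1)) :
    Spec.map (CommRingCat.ofHom (HomogeneousLocalization.awayMap (gr n) hg hx)) ≫ aw f hf one_pos =
      aw x hxm (Nat.add_pos_left one_pos 1) :=
  Proj.SpecMap_awayMap_awayι (gr n) hf one_pos hg hx

/-- the basic open of a coordinate -/
noncomputable def D (i : Fin (n + 1)) : (CohB1.ProjSpace n Z.{u}).Opens :=
  Proj.basicOpen (gr n) (MvPolynomial.X i)

/-- the point with given homogeneous coordinates on which `f` is invertible -/
noncomputable def pt (f : MvPolynomial (Fin (n + 1)) Z.{u}) (hf : f ∈ gr n 1) (c : Fin (n + 1) → R)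
    (h : IsUnit (ev c f)) : Spec (CommRingCat.of R) ⟶ CohB1.ProjSpace n Z.{u} :=
  Spec.map (CommRingCat.ofHom (evAway f c h)) ≫ aw f hf one_pos

lemma pt_comp (φ : R →+* S) (hf : f ∈ gr n 1) (c : Fin (n + 1) → R) (h : IsUnit (ev c f))
    (h' : IsUnit (ev (φ ∘ c) f)) :
    Spec.map (CommRingCat.ofHom φ) ≫ pt f hf c h = pt f hf (φ ∘ c) h' := by
  rw [pt, pt, ← Category.assoc, ← Spec.map_comp, ← CommRingCat.ofHom_comp, comp_evAway φ c h h']

lemma pt_change (hf : f ∈ gr n 1) (hg : g ∈ gr n 1) (c : Fin (n + 1) → R) (h : IsUnit (ev c f))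
    (h' : IsUnit (ev c g)) : pt f hf c h = pt g hg c h' := by
  have hu : IsUnit (ev c (f * g)) := by rw [map_mul]; exact h.mul h'
  have key : ∀ {a b : MvPolynomial (Fin (n + 1)) Z.{u}} (ha : a ∈ gr n 1) (hb : b ∈ gr n 1) (hab : f * g = a * b)
      (hau : IsUnit (ev c a)),
      pt a ha c hau = Spec.map (CommRingCat.ofHom (evAway (f * g) c hu)) ≫
        aw (f * g) (SetLike.mul_mem_graded hf hg) (Nat.add_pos_left one_pos 1) := by
    intro a b ha hb hab hau
    rw [pt, ← evAway_awayMap hb (f * g) hab c hau hu, CommRingCat.ofHom_comp, Spec.map_comp, Category.assoc,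
      aw_awayMap ha hb hab (SetLike.mul_mem_graded hf hg)]
  rw [key hf hg rfl h, key hg hf (mul_comm f g) h']

end Eval

section Chart

variable (i : Fin (n + 1))

/-- coordinates of the universal point of the `i`-th chart -/
noncomputable def coord (R : Type u) [CommRing R] : Fin (n + 1) → MvPolynomial (Fin n) R :=
  Fin.insertNth i 1 (fun j => MvPolynomial.X j)

lemma coord_unit (R : Type u) [CommRing R] : IsUnit (ev (coord i R) (MvPolynomial.X i)) := by
  rw [ev_X, coord, Fin.insertNth_apply_same]; exact isUnit_one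

/-- dehomogenisation -/
noncomputable def dehom : HomogeneousLocalization.Away (gr n) (MvPolynomial.X i : MvPolynomial _ Z.{u}) →+*
    MvPolynomial (Fin n) Z.{u} := evAway _ _ (coord_unit i Z.{u})

/-- homogenisation -/
noncomputable def hom' : MvPolynomial (Fin n) Z.{u} →+*
    HomogeneousLocalization.Away (gr n) (MvPolynomial.X i : MvPolynomial _ Z.{u}) :=
  MvPolynomial.eval₂Hom (θ _) fun j =>
    HomogeneousLocalization.Away.mk (gr n) (X_mem i) 1 (MvPolynomial.X (i.succAbove j))
      (by rw [one_nsmul]; exact X_mem _)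

lemma dehom_hom' (x : MvPolynomial (Fin n) Z.{u}) : dehom i (hom' i x) = x := by
  suffices h : (dehom i).comp (hom' i) = RingHom.id _ from RingHom.congr_fun h x
  refine MvPolynomial.ringHom_ext (fun r => RingHom.congr_fun ((hom_eq_θ (((dehom i).comp (hom' i)).comp
    MvPolynomial.C)).trans (hom_eq_θ MvPolynomial.C).symm) r) fun j => ?_
  rw [RingHom.comp_apply, hom', MvPolynomial.eval₂Hom_X', dehom, evAway_lift,
    HomogeneousLocalization.Away.val_mk, RingHom.id_apply]
  have := lift_mk (coord i Z.{u}) (coord_unit i Z.{u}) (MvPolynomial.X (i.succAbove j)) 1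
  have hc : coord i Z.{u} i = 1 := by simp [coord]
  rw [ev_X, ev_X, hc, one_pow, mul_one] at this
  refine this.trans ?_
  simp [coord]

/-- fractions recovered from their dehomogenisation -/
noncomputable def back : MvPolynomial (Fin n) Z.{u} →+*
    Localization.Away (MvPolynomial.X i : MvPolynomial (Fin (n + 1)) Z.{u}) :=
  MvPolynomial.eval₂Hom (θ _) fun j =>
    Localization.mk (MvPolynomial.X (i.succAbove j)) ⟨MvPolynomial.X i ^ 1, 1, rfl⟩

lemma back_dehom (x : HomogeneousLocalization.Away (gr n) (MvPolynomial.X i : MvPolynomial _ Z.{u})) :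
    back i (dehom i x) = x.val := by
  obtain ⟨d, p, hp, rfl⟩ := HomogeneousLocalization.Away.mk_surjective (gr n) (X_mem i) x
  rw [dehom, evAway_lift, HomogeneousLocalization.Away.val_mk]
  have h1 := lift_mk (coord i Z.{u}) (coord_unit i Z.{u}) p d
  have hc : coord i Z.{u} i = 1 := by simp [coord]
  rw [ev_X, hc, one_pow, mul_one] at h1
  rw [h1]
  let al : MvPolynomial (Fin (n + 1)) Z.{u} →+*
      Localization.Away (MvPolynomial.X i : MvPolynomial (Fin (n + 1)) Z.{u}) := algebraMap _ _
  let w : Localization.Away (MvPolynomial.X i : MvPolynomial (Fin (n + 1)) Z.{u}) :=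
    Localization.mk 1 ⟨MvPolynomial.X i ^ 1, 1, rfl⟩
  have hb : back i ∘ coord i Z.{u} = fun l => w * al (MvPolynomial.X l) := by
    funext l
    simp only [w, al, ← Localization.mk_one_eq_algebraMap, Localization.mk_mul, one_mul, mul_one]
    rcases Fin.eq_self_or_eq_succAbove i l with rfl | ⟨j, rfl⟩
    · simp only [Function.comp_apply, coord, Fin.insertNth_apply_same, map_one]
      symm
      rw [← Localization.mk_one, Localization.mk_eq_mk_iff, Localization.r_iff_exists]
      exact ⟨1, by simp⟩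
    · simp only [Function.comp_apply, coord, Fin.insertNth_apply_succAbove, back, MvPolynomial.eval₂Hom_X']
  have hid : ev (fun l => al (MvPolynomial.X l)) = al := MvPolynomial.ringHom_ext
    (fun r => RingHom.congr_fun ((hom_eq_θ ((ev _).comp MvPolynomial.C)).trans (hom_eq_θ (al.comp MvPolynomial.C)).symm) r)
    fun l => by simp
  rw [← RingHom.comp_apply, comp_ev, hb, ev_smul w _ (d := d) (by simpa using (MvPolynomial.mem_homogeneousSubmodule _ _).mp hp), hid]
  simp only [w, al, Localization.mk_pow, ← Localization.mk_one_eq_algebraMap, Localization.mk_mul, one_pow, one_mul, mul_one]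
  exact congrArg (Localization.mk p) (Subtype.ext (by simp))

lemma dehom_bijective : Function.Bijective (dehom.{u} i) :=
  ⟨fun a b h => HomogeneousLocalization.val_injective _ (by rw [← back_dehom i a, h, back_dehom]),
    fun x => ⟨hom' i x, dehom_hom' i x⟩⟩

variable (R : Type u) [CommRing R]

/-- the universal point of a chart -/
noncomputable abbrev chartPt : Spec (CommRingCat.of (MvPolynomial (Fin n) R)) ⟶ CohB1.ProjSpace n Z.{u} :=
  pt (MvPolynomial.X i) (X_mem i) (coord i R) (coord_unit i R)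

/-- the projection `P^n_R ⟶ P^n_ℤ` -/
noncomputable def toZ : CohB1.ProjSpaceOver n (Spec (CommRingCat.of R)) ⟶ CohB1.ProjSpace n Z.{u} :=
  pullback.fst _ _

/-- the chart `A^n_R ⟶ P^n_R` -/
noncomputable def chart : Spec (CommRingCat.of (MvPolynomial (Fin n) R)) ⟶
    CohB1.ProjSpaceOver n (Spec (CommRingCat.of R)) :=
  pullback.lift (chartPt i R) (Spec.map (CommRingCat.ofHom MvPolynomial.C)) (specULiftZIsTerminal.hom_ext _ _)

@[reassoc (attr := simp)] lemma chart_fst : chart i R ≫ toZ R = chartPt i R :=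
  pullback.lift_fst _ _ _

@[reassoc (attr := simp)] lemma chart_toBase :
    chart i R ≫ CohB1.ProjSpaceOver.toBase n (Spec (CommRingCat.of R)) = Spec.map (CommRingCat.ofHom MvPolynomial.C) :=
  pullback.lift_snd _ _ _

lemma isPullback_chart :
    IsPullback (chart i R)
      (Spec.map (CommRingCat.ofHom (MvPolynomial.map (θ R))))
      (toZ R)
      (chartPt i Z.{u}) := by
  let _ : Algebra Z.{u} R :=
    { (θ R).toAlgebra with
      toSMul := inferInstance
      smul_def' := fun r x => show r.down • x = θ R r * x by rw [zsmul_eq_mul]; rfl }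
  have hsq : IsPullback (Spec.map (CommRingCat.ofHom (MvPolynomial.map (θ R))))
      (Spec.map (CommRingCat.ofHom MvPolynomial.C))
      (Spec.map (CommRingCat.ofHom (algebraMap Z.{u} (MvPolynomial (Fin n) Z.{u}))))
      (Spec.map (CommRingCat.ofHom (algebraMap Z.{u} R))) := by
    let e := (Algebra.TensorProduct.comm Z.{u} (MvPolynomial (Fin n) Z.{u}) R).toRingEquiv.trans
      (MvPolynomial.algebraTensorAlgEquiv Z.{u} R (σ := Fin n)).toRingEquiv
    refine IsPullback.of_iso_pullback ⟨?_⟩
      ((asIso (Spec.map e.toCommRingCatIso.hom)) ≪≫ (pullbackSpecIso Z.{u} (MvPolynomial (Fin n) Z.{u}) R).symm) ?_ ?_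
    · rw [← Spec.map_comp, ← Spec.map_comp, ← CommRingCat.ofHom_comp, ← CommRingCat.ofHom_comp]
      congr 2
      exact (hom_eq_θ _).trans (hom_eq_θ _).symm
    · rw [Iso.trans_hom, Iso.symm_hom, asIso_hom, Category.assoc]
      erw [pullbackSpecIso_inv_fst]
      rw [← Spec.map_comp]
      congr 1
      refine CommRingCat.hom_ext (RingHom.ext fun p => ?_)
      show e (p ⊗ₜ[Z.{u}] (1 : R)) = MvPolynomial.map (θ R) p
      simp [e, MvPolynomial.algebraTensorAlgEquiv_tmul, hom_eq_θ (algebraMap Z.{u} R)]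
    · rw [Iso.trans_hom, Iso.symm_hom, asIso_hom, Category.assoc]
      erw [pullbackSpecIso_inv_snd]
      rw [← Spec.map_comp]
      congr 1
      refine CommRingCat.hom_ext (RingHom.ext fun r => ?_)
      show e ((1 : MvPolynomial (Fin n) Z.{u}) ⊗ₜ[Z.{u}] r) = MvPolynomial.C r
      simp [e, MvPolynomial.algebraTensorAlgEquiv_tmul, Algebra.smul_def]
  have hfst : Spec.map (CommRingCat.ofHom (MvPolynomial.map (θ R))) ≫ chartPt i Z.{u} = chartPt i R := by
    have hc : (MvPolynomial.map (θ R)) ∘ coord i Z.{u} = coord i R := by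
      funext l
      rcases Fin.eq_self_or_eq_succAbove i l with rfl | ⟨j, rfl⟩ <;> simp [coord]
    have h' : IsUnit (ev ((MvPolynomial.map (θ R)) ∘ coord i Z.{u}) (MvPolynomial.X i)) := by
      rw [hc]; exact coord_unit i R
    rw [pt_comp _ _ _ _ h']
    congr
  have big : IsPullback (Spec.map (CommRingCat.ofHom (MvPolynomial.map (θ R))))
      (chart i R ≫ CohB1.ProjSpaceOver.toBase n (Spec (CommRingCat.of R)))
      (chartPt i Z.{u} ≫ CohB1.ProjSpace.toSpec n Z.{u})
      (specULiftZIsTerminal.from (Spec (CommRingCat.of R))) := by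
    rw [chart_toBase]
    convert hsq using 1 <;> exact specULiftZIsTerminal.hom_ext _ _
  exact (IsPullback.of_bot big (hfst.trans (chart_fst i R).symm)
    (IsPullback.of_hasPullback (CohB1.ProjSpace.toSpec n Z.{u}) (specULiftZIsTerminal.from (Spec (CommRingCat.of R))))).flip

instance isOpenImmersion_chartPt : IsOpenImmersion (chartPt i Z.{u}) := by
  have : IsIso (CommRingCat.ofHom (dehom.{u} i)) :=
    (ConcreteCategory.isIso_iff_bijective _).mpr (dehom_bijective i)
  have : IsOpenImmersion (aw (MvPolynomial.X i : MvPolynomial _ Z.{u}) (X_mem i) one_pos) :=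
    inferInstanceAs (IsOpenImmersion (Proj.awayι (gr n) _ (X_mem i) one_pos))
  exact inferInstanceAs (IsOpenImmersion (Spec.map (CommRingCat.ofHom (dehom.{u} i)) ≫ aw _ (X_mem i) one_pos))

instance isOpenImmersion_chart : IsOpenImmersion (chart i R) :=
  MorphismProperty.of_isPullback (P := @IsOpenImmersion) (isPullback_chart i R).flip inferInstance

lemma range_aw : Set.range (aw (MvPolynomial.X i : MvPolynomial _ Z.{u}) (X_mem i) one_pos) = (D i : Set _) :=
  congrArg SetLike.coe (Proj.opensRange_awayι (gr n) _ (X_mem i) one_pos)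

lemma range_chartPt : Set.range (chartPt i Z.{u}) = (D i : Set (CohB1.ProjSpace n Z.{u})) := by
  have : IsIso (CommRingCat.ofHom (dehom.{u} i)) :=
    (ConcreteCategory.isIso_iff_bijective _).mpr (dehom_bijective i)
  show Set.range (Spec.map (CommRingCat.ofHom (dehom.{u} i)) ≫ aw _ (X_mem i) one_pos) = _
  have hs : Function.Surjective (Spec.map (CommRingCat.ofHom (dehom.{u} i))) :=
    (Spec.map (CommRingCat.ofHom (dehom.{u} i))).homeomorph.surjective
  rw [Scheme.Hom.comp_base, TopCat.coe_comp, Set.range_comp, Set.range_eq_univ.mpr hs, Set.image_univ, range_aw]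

lemma chart_mem_iff (x : CohB1.ProjSpaceOver n (Spec (CommRingCat.of R))) :
    x ∈ Set.range (chart i R) ↔
      toZ R x ∈ D i := by
  rw [← SetLike.mem_coe, ← range_chartPt]
  constructor
  · rintro ⟨y, rfl⟩
    refine ⟨Spec.map (CommRingCat.ofHom (MvPolynomial.map (θ R))) y, ?_⟩
    rw [← Scheme.Hom.comp_apply, ← Scheme.Hom.comp_apply, (isPullback_chart i R).w]
  · rintro ⟨y, hy⟩
    obtain ⟨o, ho, -⟩ := Scheme.exists_preimage_of_isPullback (isPullback_chart i R) x y hy.symm
    exact ⟨o, ho⟩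

lemma iSup_basicOpen_X : (⨆ i : Fin (n + 1), D.{u} i) = ⊤ := by
  show (⨆ i : Fin (n + 1), Proj.basicOpen (gr.{u} n) (MvPolynomial.X i)) = ⊤
  refine Proj.iSup_basicOpen_eq_top _ _ ?_
  intro p hp
  have h0 : MvPolynomial.coeff 0 p = 0 := by
    have h : GradedRing.proj (gr.{u} n) 0 p = 0 := hp
    have h2 := congrArg (MvPolynomial.coeff 0) h
    rw [show GradedRing.proj (gr.{u} n) 0 p = MvPolynomial.homogeneousComponent 0 p from
      MvPolynomial.decomposition.decompose'_apply p 0, MvPolynomial.coeff_homogeneousComponent] at h2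
    simpa using h2
  have hX : p ∈ Ideal.span (MvPolynomial.X '' (Set.univ : Set (Fin (n + 1)))) := by
    refine MvPolynomial.mem_ideal_span_X_image.mpr fun x hx => ?_
    by_contra hne
    simp only [Set.mem_univ, true_and, not_exists, not_not] at hne
    rw [show x = 0 from Finsupp.ext hne] at hx
    exact MvPolynomial.mem_support_iff.mp hx h0
  rwa [Set.image_univ] at hX

lemma exists_chart_mem (x : CohB1.ProjSpaceOver n (Spec (CommRingCat.of R))) :
    ∃ i, x ∈ Set.range (chart i R) := by
  have hx : toZ R x ∈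
      (⨆ i : Fin (n + 1), D.{u} i) := by
    rw [iSup_basicOpen_X]; trivial
  obtain ⟨i, hi⟩ := TopologicalSpace.Opens.mem_iSup.mp hx
  exact ⟨i, (chart_mem_iff i R x).mpr hi⟩

lemma chart_inter (i j : Fin (n + 1)) [Nontrivial R] :
    (Set.range (chart i R) ∩ Set.range (chart j R)).Nonempty := by
  obtain ⟨m, hm⟩ := Ideal.exists_maximal R
  let K := R ⧸ m
  let _ : Field K := Ideal.Quotient.field m
  classical
  let c : Fin (n + 1) → K := fun _ => 1
  let q : Spec (CommRingCat.of K) ⟶ Spec (CommRingCat.of R) := Spec.map (CommRingCat.ofHom (Ideal.Quotient.mk m))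
  have hu : ∀ l, IsUnit (ev c (MvPolynomial.X l)) := fun l => by rw [ev_X]; exact isUnit_one
  let P : Spec (CommRingCat.of K) ⟶ CohB1.ProjSpaceOver n (Spec (CommRingCat.of R)) :=
    pullback.lift (pt (MvPolynomial.X i) (X_mem i) c (hu i)) q (specULiftZIsTerminal.hom_ext _ _)
  have hP : ∀ l, Set.range P ⊆ Set.range (chart l R) := by
    intro l
    rintro _ ⟨z, rfl⟩
    rw [chart_mem_iff, ← Scheme.Hom.comp_apply, show P ≫ toZ R = pt (MvPolynomial.X i) (X_mem i) c (hu i) from
      pullback.lift_fst _ _ _, pt_change (X_mem i) (X_mem l) c (hu i) (hu l), pt, Scheme.Hom.comp_apply,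
      ← SetLike.mem_coe, ← range_aw]
    exact ⟨_, rfl⟩
  obtain ⟨z⟩ := (inferInstance : Nonempty (PrimeSpectrum K))
  exact ⟨P z, hP i ⟨z, rfl⟩, hP j ⟨z, rfl⟩⟩

theorem irreducibleSpace_projSpaceOver [IsDomain R] :
    IrreducibleSpace (CohB1.ProjSpaceOver n (Spec (CommRingCat.of R))) := by
  have hirr : ∀ i : Fin (n + 1), IsPreirreducible (Set.range (chart i R)) := fun i => by
    rw [← Set.image_univ]
    exact (IrreducibleSpace.isIrreducible_univ _).isPreirreducible.image _ (chart i R).continuous.continuousOn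
  have hne : Nonempty (CohB1.ProjSpaceOver n (Spec (CommRingCat.of R))) :=
    ⟨(chart_inter R (0 : Fin (n + 1)) 0).some⟩
  refine @IrreducibleSpace.mk _ _ ⟨fun u v hu hv ⟨x, _, hx⟩ ⟨y, _, hy⟩ => ?_⟩ hne
  obtain ⟨i, hi⟩ := exists_chart_mem R x
  obtain ⟨j, hj⟩ := exists_chart_mem R y
  obtain ⟨z, hz1, hz2⟩ := chart_inter R i j
  have ho : ∀ l : Fin (n + 1), IsOpen (Set.range (chart l R)) := fun l => (chart l R).opensRange.2
  obtain ⟨w, hwi, hwu, hwj⟩ := hirr i u _ hu (ho j) ⟨x, hi, hx⟩ ⟨z, hz1, hz2⟩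
  obtain ⟨w', -, ⟨hw'u, -⟩, hw'v⟩ := hirr j (u ∩ Set.range (chart j R)) v (hu.inter (ho j)) hv
    ⟨w, hwj, hwu, hwj⟩ ⟨y, hj, hy⟩
  exact ⟨w', trivial, hw'u, hw'v⟩

/-- a point with values in a field lies in some chart -/
theorem exists_coords (K : Type u) [Field K] (a : Spec (CommRingCat.of K) ⟶ CohB1.ProjSpace n Z.{u}) :
    ∃ (i : Fin (n + 1)) (c : Fin (n + 1) → K) (hc : c i = 1),
      a = pt (MvPolynomial.X i) (X_mem i) c (by rw [ev_X, hc]; exact isUnit_one) := by
  have z : PrimeSpectrum K := ⟨⊥, Ideal.isPrime_bot⟩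
  obtain ⟨i, hi⟩ : ∃ i, a z ∈ D i := by
    have : a z ∈ (⨆ i : Fin (n + 1), D.{u} i) := by
      rw [iSup_basicOpen_X]; trivial
    exact TopologicalSpace.Opens.mem_iSup.mp this
  have hr : Set.range a ⊆ Set.range (chartPt i Z.{u}) := by
    rintro _ ⟨w, rfl⟩
    rw [range_chartPt, Subsingleton.elim (α := PrimeSpectrum K) w z]
    exact hi
  set b := IsOpenImmersion.lift (chartPt i Z.{u}) a hr
  have hb : b ≫ chartPt i Z.{u} = a := IsOpenImmersion.lift_fac _ _ _
  obtain ⟨φ, hφ⟩ : ∃ φ : MvPolynomial (Fin n) Z.{u} →+* K, b = Spec.map (CommRingCat.ofHom φ) :=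
    ⟨(Spec.preimage b).hom, (Spec.map_preimage b).symm⟩
  refine ⟨i, φ ∘ coord i Z.{u}, by simp [coord], ?_⟩
  rw [← hb, hφ, chartPt, pt_comp]

end Chart

end Groth.Misc15.ProjPts
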