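import Mathlib
import Groth.Agent.Gorenstein.Regular
import Groth.Agent.Gorenstein.RingEquiv

/-! Gorenstein localizations: birational regular overrings and principal prime quotients. -/

set_option autoImplicit false

universe u

open IsLocalRing

namespace Groth.Misc15.GorLoc

variable {R S : Type u} [CommRing R] [CommRing S]

/-- Extension of a prime not containing `t` along a map inverting-up-to-powers of `t`. -/
def extPrime (ι : R →+* S) (t : R) (h : ∀ s, ∃ N r, ι t ^ N * s = ι r) (p : Ideal R) :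
    Ideal S where
  carrier := {s | ∃ N r, r ∈ p ∧ ι t ^ N * s = ι r}
  add_mem' := by
    rintro a b ⟨N, r, hr, hN⟩ ⟨M, e, he, hM⟩
    refine ⟨N + M, t ^ M * r + t ^ N * e, add_mem (p.mul_mem_left _ hr) (p.mul_mem_left _ he), ?_⟩
    rw [map_add, map_mul, map_mul, map_pow, map_pow, ← hN, ← hM, pow_add]; ring
  zero_mem' := ⟨0, 0, zero_mem _, by simp⟩
  smul_mem' := by
    rintro c a ⟨N, r, hr, hN⟩
    obtain ⟨M, e, hM⟩ := h c
    refine ⟨M + N, e * r, p.mul_mem_left _ hr, ?_⟩
    rw [smul_eq_mul, map_mul, ← hN, ← hM, pow_add]; ring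

variable {ι : R →+* S} {t : R} {h : ∀ s, ∃ N r, ι t ^ N * s = ι r} {p : Ideal R}

theorem map_mem_extPrime_iff (hι : Function.Injective ι) [p.IsPrime] (ht : t ∉ p) {r : R} :
    ι r ∈ extPrime ι t h p ↔ r ∈ p := by
  refine ⟨?_, fun hr => ⟨0, r, hr, by simp⟩⟩
  rintro ⟨N, e, he, hN⟩
  rw [← map_pow, ← map_mul] at hN
  rw [← hι hN] at he
  exact (Ideal.IsPrime.mem_or_mem ‹_› he).resolve_left fun h' =>
    ht (Ideal.IsPrime.mem_of_pow_mem ‹_› N h')

theorem isPrime_extPrime (hι : Function.Injective ι) [p.IsPrime] (ht : t ∉ p) :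
    (extPrime ι t h p).IsPrime := by
  refine ⟨fun htop => ?_, fun {a b} hab => ?_⟩
  · have : ι 1 ∈ extPrime ι t h p := by rw [htop]; trivial
    rw [map_mem_extPrime_iff hι ht] at this
    exact ‹p.IsPrime›.one_notMem this
  obtain ⟨N, r, hr, hN⟩ := hab
  obtain ⟨L, a', ha⟩ := h a
  obtain ⟨M, b', hb⟩ := h b
  have he : t ^ N * (a' * b') = t ^ (L + M) * r := hι (by
    simp only [map_mul, map_pow, ← ha, ← hb, ← hN]; ring)
  have : t ^ N * (a' * b') ∈ p := he ▸ p.mul_mem_left _ hr
  have hab' := (Ideal.IsPrime.mem_or_mem ‹_› this).resolve_left fun h' =>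
    ht (Ideal.IsPrime.mem_of_pow_mem ‹_› N h')
  rcases Ideal.IsPrime.mem_or_mem ‹_› hab' with h' | h'
  · exact Or.inl ⟨L, a', h', ha⟩
  · exact Or.inr ⟨M, b', h', hb⟩

/-- Regular local rings are Gorenstein. -/
theorem gor_of_regular (A : Type u) [CommRing A] [IsRegularLocalRing A] :
    LocCoh.IsGorensteinLocalRing A :=
  (GrothGoren.isGorenstein_iff A).2 (GrothGoren.exists_injLT_of_regular _ A le_rfl)

/-- If `S ⊇ R` is regular and `S ⊆ R[1/t]`, then `R` is Gorenstein at primes not containing `t`. -/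
theorem gor_of_birational [IsNoetherianRing R] [IsRegularRing S] (ι : R →+* S)
    (hι : Function.Injective ι) (t : R) (h : ∀ s, ∃ N r, ι t ^ N * s = ι r) (p : Ideal R)
    [p.IsPrime] (ht : t ∉ p) : LocCoh.IsGorensteinLocalRing (Localization.AtPrime p) := by
  haveI := isPrime_extPrime (h := h) hι ht
  set q := extPrime ι t h p
  letI : Algebra R (Localization.AtPrime q) :=
    ((algebraMap S (Localization.AtPrime q)).comp ι).toAlgebra
  haveI : IsLocalization.AtPrime (Localization.AtPrime q) p := by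
    refine ⟨fun y => ?_, fun z => ?_, fun {x y} hxy => ?_⟩
    · exact IsLocalization.map_units (Localization.AtPrime q)
        (⟨ι y.1, fun hy => y.2 ((map_mem_extPrime_iff hι ht).1 hy)⟩ : q.primeCompl)
    · obtain ⟨⟨s, d⟩, hsd⟩ := IsLocalization.surj q.primeCompl z
      obtain ⟨N, r, hr⟩ := h s
      obtain ⟨M, e, he⟩ := h d
      have hep : e ∉ p := fun he' => d.2 ⟨M, e, he', he⟩
      refine ⟨(t ^ M * r, ⟨t ^ N * e, fun h' => ?_⟩), ?_⟩
      · exact ((Ideal.IsPrime.mem_or_mem ‹_› h').elim
          (fun h'' => ht (Ideal.IsPrime.mem_of_pow_mem ‹_› N h'')) hep)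
      · show z * algebraMap S _ (ι (t ^ N * e)) = algebraMap S _ (ι (t ^ M * r))
        rw [map_mul ι, map_mul ι, map_pow, map_pow, ← hr, ← he, map_mul, map_mul, map_mul, map_mul,
          ← hsd]
        ring
    · obtain ⟨c, hc⟩ := (IsLocalization.eq_iff_exists q.primeCompl _).1
        (show algebraMap S (Localization.AtPrime q) (ι x) = algebraMap S _ (ι y) from hxy)
      obtain ⟨M, e, he⟩ := h c
      have hep : e ∉ p := fun he' => c.2 ⟨M, e, he', he⟩
      refine ⟨⟨e, hep⟩, hι ?_⟩
      show ι (e * x) = ι (e * y)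
      rw [map_mul, map_mul, ← he, mul_assoc, mul_assoc, hc]
  have e : Localization.AtPrime q ≃+* Localization.AtPrime p :=
    (IsLocalization.algEquiv p.primeCompl (Localization.AtPrime q)
      (Localization.AtPrime p)).toRingEquiv
  exact (GrothGoren.isGorenstein_iff _).2 ((GrothGoren.exists_injLT_iff_of_ringEquiv e).1
    ((GrothGoren.isGorenstein_iff _).1 (gor_of_regular _)))

/-- Gorenstein at a prime over a principal prime quotient. -/
theorem gor_quotient_iff [IsNoetherianRing R] [IsDomain R] (π : R →+* S)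
    (hπ : Function.Surjective π) (t : R) (ht0 : t ≠ 0) (hker : RingHom.ker π = Ideal.span {t})
    (q : Ideal S) [q.IsPrime] :
    LocCoh.IsGorensteinLocalRing (Localization.AtPrime (q.comap π)) ↔
      LocCoh.IsGorensteinLocalRing (Localization.AtPrime q) := by
  haveI : IsNoetherianRing S := isNoetherianRing_of_surjective R S π hπ
  set p := q.comap π with hp
  let g : R →+* Localization.AtPrime q := (algebraMap S _).comp π
  have hu : ∀ y : p.primeCompl, IsUnit (g y) := fun y =>
    IsLocalization.map_units (Localization.AtPrime q) (⟨π y, y.2⟩ : q.primeCompl)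
  let F : Localization.AtPrime p →+* Localization.AtPrime q := IsLocalization.lift hu
  have hF : Function.Surjective F := by
    intro z
    obtain ⟨⟨s, d⟩, hsd⟩ := IsLocalization.surj q.primeCompl z
    obtain ⟨r, rfl⟩ := hπ s
    obtain ⟨e, he⟩ := hπ d.1
    have hep : e ∈ p.primeCompl := fun h' => d.2 (he ▸ h')
    refine ⟨IsLocalization.mk' _ r ⟨e, hep⟩, ?_⟩
    rw [IsLocalization.lift_mk'_spec]
    show algebraMap S _ (π r) = algebraMap S _ (π e) * z
    rw [he, mul_comm]; exact hsd.symm
  set t' := algebraMap R (Localization.AtPrime p) t with ht'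
  have hπt : π t = 0 := by
    rw [← RingHom.mem_ker, hker]; exact Ideal.mem_span_singleton_self t
  have hkerF : RingHom.ker F = Ideal.span {t'} := by
    refine le_antisymm (fun x hx => ?_) ?_
    · obtain ⟨r, s, rfl⟩ := IsLocalization.exists_mk'_eq p.primeCompl x
      rw [RingHom.mem_ker, IsLocalization.lift_mk'_spec, mul_zero] at hx
      obtain ⟨c, hc⟩ := (IsLocalization.map_eq_zero_iff q.primeCompl _ _).1 hx
      obtain ⟨e, he⟩ := hπ c.1
      have : e * r ∈ Ideal.span {t} := by rw [← hker, RingHom.mem_ker, map_mul, he, hc]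
      obtain ⟨w, hw⟩ := Ideal.mem_span_singleton.1 this
      have hep : e ∈ p.primeCompl := fun h' => c.2 (he ▸ h')
      rw [Ideal.mem_span_singleton]
      refine ⟨IsLocalization.mk' _ w ((⟨e, hep⟩ : p.primeCompl) * s), ?_⟩
      rw [ht', IsLocalization.mul_mk'_eq_mk'_of_mul, ← hw]
      rw [IsLocalization.mk'_eq_iff_eq]
      congr 1
      simp only [Submonoid.coe_mul]
      ring
    · rw [Ideal.span_le, Set.singleton_subset_iff]
      show F t' = 0
      rw [ht', IsLocalization.lift_eq]
      simp [g, hπt]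
  have htm : t' ∈ maximalIdeal (Localization.AtPrime p) :=
    (IsLocalization.AtPrime.to_map_mem_maximal_iff _ p t).2 (by simp [p, hπt])
  have hreg : IsSMulRegular (Localization.AtPrime p) t' := by
    haveI : IsDomain (Localization.AtPrime p) :=
      IsLocalization.isDomain_localization (Ideal.primeCompl_le_nonZeroDivisors p)
    refine (isRegular_of_ne_zero ?_).left
    rw [ht', Ne, IsLocalization.to_map_eq_zero_iff _ (Ideal.primeCompl_le_nonZeroDivisors p)]
    exact ht0
  let eq : (Localization.AtPrime p ⧸ Ideal.span {t'}) ≃+* Localization.AtPrime q :=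
    (Ideal.quotEquivOfEq hkerF.symm).trans (RingHom.quotientKerEquivOfSurjective hF)
  haveI : IsLocalRing (Localization.AtPrime p ⧸ Ideal.span {t'}) := eq.symm.isLocalRing
  rw [GrothGoren.isGorenstein_iff, GrothGoren.isGorenstein_iff,
    GrothGoren.exists_injLT_quotient_iff _ htm hreg,
    GrothGoren.exists_injLT_iff_of_ringEquiv eq]

end Groth.Misc15.GorLoc
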