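import Mathlib
import Groth.Agent.Misc15.ProjPts
import Groth.Agent.Variety2.ProjBasics
import Groth.Agent.PropsBasic2.StalkFlat

/-! Local rings of the projective line over the generic point, and extension of rational maps. -/

set_option autoImplicit false

universe u

open CategoryTheory CategoryTheory.Limits AlgebraicGeometry Groth.Misc15.ProjPts

namespace Groth.Misc15.P1Stalk

/-- A flat preimmersion induces isomorphisms of local rings. -/
theorem stalkMap_bijective {X Y : Scheme.{u}} (i : X ⟶ Y) [Flat i] [IsPreimmersion i] (x : X) :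
    Function.Bijective (i.stalkMap x) := by
  refine ⟨?_, i.stalkMap_surjective x⟩
  algebraize [(i.stalkMap x).hom]
  haveI : Module.Flat (Y.presheaf.stalk (i x)) (X.presheaf.stalk x) := Flat.stalkMap i x
  haveI : IsLocalHom (algebraMap (Y.presheaf.stalk (i x)) (X.presheaf.stalk x)) := i.toLRSHom.prop x
  haveI : Module.FaithfullyFlat (Y.presheaf.stalk (i x)) (X.presheaf.stalk x) :=
    Module.FaithfullyFlat.of_flat_of_isLocalHom
  exact FaithfulSMul.algebraMap_injective (Y.presheaf.stalk (i x)) (X.presheaf.stalk x)

instance isReduced_projSpaceOver (n : ℕ) (R : Type u) [CommRing R] [IsReduced R] :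
    IsReduced (CohB1.ProjSpaceOver n (Spec (CommRingCat.of R))) := by
  haveI : ∀ x : CohB1.ProjSpaceOver n (Spec (CommRingCat.of R)),
      _root_.IsReduced ((CohB1.ProjSpaceOver n (Spec (CommRingCat.of R))).presheaf.stalk x) := fun x => by
    obtain ⟨i, y, rfl⟩ := exists_chart_mem R x
    exact isReduced_of_injective ((chart i R).stalkMap y).hom
      ((ConcreteCategory.bijective_of_isIso ((chart i R).stalkMap y)).1)
  exact isReduced_of_isReduced_stalk _

instance isIntegral_projSpaceOver (n : ℕ) (R : Type u) [CommRing R] [IsDomain R] :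
    IsIntegral (CohB1.ProjSpaceOver n (Spec (CommRingCat.of R))) := by
  haveI := irreducibleSpace_projSpaceOver (n := n) R
  exact isIntegral_of_irreducibleSpace_of_isReduced _

theorem valuationRing_stalk_P1 (K : Type u) [Field K]
    (x : CohB1.ProjSpaceOver 1 (Spec (CommRingCat.of K))) :
    PreValuationRing ((CohB1.ProjSpaceOver 1 (Spec (CommRingCat.of K))).presheaf.stalk x) := by
  obtain ⟨i, y, rfl⟩ := exists_chart_mem K x
  haveI : IsPrincipalIdealRing (MvPolynomial (Fin 1) K) :=
    IsPrincipalIdealRing.of_surjective (MvPolynomial.uniqueAlgEquiv K (Fin 1)).symm.toRingEquiv.toRingHom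
      (MvPolynomial.uniqueAlgEquiv K (Fin 1)).symm.surjective
  let p : Ideal (MvPolynomial (Fin 1) K) := PrimeSpectrum.asIdeal y
  haveI : IsPrincipalIdealRing (Localization.AtPrime p) :=
    ⟨fun J => by
      obtain ⟨a, ha⟩ := (IsPrincipalIdealRing.principal (J.under (MvPolynomial (Fin 1) K))).principal
      rw [← IsLocalization.map_under p.primeCompl (Localization.AtPrime p) J]
      refine ⟨⟨algebraMap _ _ a, ?_⟩⟩
      show Ideal.map _ (J.under (MvPolynomial (Fin 1) K)) = _
      rw [ha, ← Ideal.span, Ideal.map_span, Set.image_singleton]⟩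
  haveI : ValuationRing (Localization.AtPrime p) := inferInstance
  let e : Localization.AtPrime p ≃+* (Spec (CommRingCat.of (MvPolynomial (Fin 1) K))).presheaf.stalk y :=
    (StructureSheaf.stalkIso (MvPolynomial (Fin 1) K) y).toRingEquiv
  let φ : Localization.AtPrime p →+* (CohB1.ProjSpaceOver 1 (Spec (CommRingCat.of K))).presheaf.stalk
      ((chart i K) y) :=
    (inv ((chart i K).stalkMap y)).hom.comp e.toRingHom
  show PreValuationRing _
  exact Function.Surjective.preValuationRing (f := φ.toMonoidWithZeroHom.toMulHom)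
    ((ConcreteCategory.bijective_of_isIso (inv ((chart i K).stalkMap y))).2.comp e.surjective)

/-- A partial map into a proper scheme extends over every point with a valuation local ring. -/
theorem mem_domain_of_preValuationRing {C X S : Scheme.{u}} [IsIntegral C] (sC : C ⟶ S) (sX : X ⟶ S)
    [IsProper sX] (g : C.PartialMap X) (hg : g.hom ≫ sX = g.domain.ι ≫ sC)
    (x : C) [PreValuationRing (C.presheaf.stalk x)] : x ∈ g.toRationalMap.domain := by
  haveI hdom : IsDomain (C.presheaf.stalk x) := inferInstance
  haveI : ValuationRing (C.presheaf.stalk x) := {}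
  have hex : ValuativeCriterion.Existence sX := by
    have : UniversallyClosed sX := inferInstance
    rw [UniversallyClosed.eq_valuativeCriterion] at this
    exact this.1
  have hsp : genericPoint C ⤳ x := genericPoint_specializes x
  have halg : Spec.map (CommRingCat.ofHom (algebraMap (C.presheaf.stalk x) C.functionField)) ≫
      C.fromSpecStalk x = C.fromSpecStalk (genericPoint C) :=
    C.SpecMap_stalkSpecializes_fromSpecStalk hsp
  let sq : ValuativeCommSq sX :=
    { R := C.presheaf.stalk x
      domain := hdom
      K := C.functionField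
      i₁ := g.fromFunctionField
      i₂ := C.fromSpecStalk x ≫ sC
      commSq := ⟨by
        refine Eq.trans ?_ (((reassoc_of% halg) sC).symm)
        simp only [Scheme.PartialMap.fromFunctionField, Scheme.PartialMap.fromSpecStalkOfMem,
          Category.assoc, hg, Scheme.Opens.fromSpecStalkOfMem_ι_assoc]⟩ }
  obtain ⟨l, hl1, hl2⟩ : ∃ l : Spec (C.presheaf.stalk x) ⟶ X,
      Spec.map (CommRingCat.ofHom (algebraMap (C.presheaf.stalk x) C.functionField)) ≫ l =
        g.fromFunctionField ∧ l ≫ sX = C.fromSpecStalk x ≫ sC :=
    ⟨_, (hex sq).exists_lift.some.fac_left, (hex sq).exists_lift.some.fac_right⟩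
  let g' := Scheme.PartialMap.ofFromSpecStalk sC sX l hl2
  refine Scheme.RationalMap.mem_domain.2
    ⟨g', Scheme.PartialMap.mem_domain_ofFromSpecStalk sC sX l hl2, ?_⟩
  refine Scheme.RationalMap.eq_of_fromFunctionField_eq _ _ ?_
  rw [Scheme.RationalMap.fromFunctionField_toRationalMap,
    Scheme.RationalMap.fromFunctionField_toRationalMap]
  refine Eq.trans ?_ hl1
  conv_rhs => rw [← Scheme.PartialMap.fromSpecStalkOfMem_ofFromSpecStalk sC sX l hl2]
  simp only [Scheme.PartialMap.fromFunctionField, Scheme.PartialMap.fromSpecStalkOfMem]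
  rw [← Category.assoc]
  congr 1
  rw [← cancel_mono g'.domain.ι, Category.assoc, Scheme.Opens.fromSpecStalkOfMem_ι,
    Scheme.Opens.fromSpecStalkOfMem_ι]
  exact halg.symm

end Groth.Misc15.P1Stalk
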