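import Mathlib

/-! Replacing a formal arc in affine space by a rational curve. -/

set_option autoImplicit false

universe u

namespace Groth.Misc15.Approx

variable {k : Type u} [Field k]

/-- Evaluation extended to a localization away from a non-root. -/
noncomputable def evAway {P L : Type u} [CommRing P] [Algebra k P] [Field L] [Algebra k L]
    (ε : P →ₐ[k] L) (g : P) (hg : ε g ≠ 0) : Localization.Away g →ₐ[k] L :=
  IsLocalization.liftAlgHom (M := Submonoid.powers g) (f := ε) (by
    rintro ⟨_, m, rfl⟩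
    simpa using (isUnit_iff_ne_zero.2 hg).pow m)

theorem evAway_algebraMap {P L : Type u} [CommRing P] [Algebra k P] [Field L] [Algebra k L]
    (ε : P →ₐ[k] L) (g : P) (hg : ε g ≠ 0) (p : P) :
    evAway ε g hg (algebraMap P _ p) = ε p := by
  simp [evAway]

theorem evAway_eq_div {P L : Type u} [CommRing P] [Algebra k P] [Field L] [Algebra k L]
    (ε : P →ₐ[k] L) (g : P) (hg : ε g ≠ 0) (z : Localization.Away g) (m : ℕ) (p : P)
    (h : z * algebraMap P _ (g ^ m) = algebraMap P _ p) :
    evAway ε g hg z = ε p / ε g ^ m := by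
  rw [eq_div_iff (pow_ne_zero _ hg), ← map_pow, ← evAway_algebraMap ε g hg, ← map_mul, h,
    evAway_algebraMap]

/-- Homogenisation. -/
theorem exists_homog {n : ℕ} (p : MvPolynomial (Fin n) k) :
    ∃ (s : ℕ) (H : MvPolynomial (Option (Fin n)) k), ∀ (L : Type u) [Field L] [Algebra k L]
      (N : Fin n → L) (D : L), D ≠ 0 →
        MvPolynomial.aeval (fun i => N i / D) p * D ^ s =
          MvPolynomial.aeval (fun o => o.elim D N) H := by
  induction p using MvPolynomial.induction_on with
  | C a => exact ⟨0, MvPolynomial.C a, fun L _ _ N D _ => by simp⟩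
  | add p q hp hq =>
    obtain ⟨s, H, hH⟩ := hp
    obtain ⟨s', H', hH'⟩ := hq
    refine ⟨s + s', H * MvPolynomial.X none ^ s' + H' * MvPolynomial.X none ^ s,
      fun L _ _ N D hD => ?_⟩
    simp only [map_add, map_mul, map_pow, MvPolynomial.aeval_X, Option.elim_none]
    rw [← hH L N D hD, ← hH' L N D hD, pow_add]; ring
  | mul_X p i hp =>
    obtain ⟨s, H, hH⟩ := hp
    refine ⟨s + 1, H * MvPolynomial.X (some i), fun L _ _ N D hD => ?_⟩
    simp only [map_mul, MvPolynomial.aeval_X, Option.elim_some]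
    rw [← hH L N D hD, pow_succ]
    field_simp

variable {K : Type u} [Field K] [Algebra k K]

open PowerSeries in
theorem aeval_congr {σ : Type} {a b : σ → K⟦X⟧} {N : ℕ}
    (h : ∀ i, (PowerSeries.X : K⟦X⟧) ^ N ∣ a i - b i) (H : MvPolynomial σ k) :
    (PowerSeries.X : K⟦X⟧) ^ N ∣ MvPolynomial.aeval a H - MvPolynomial.aeval b H := by
  induction H using MvPolynomial.induction_on with
  | C c => simp
  | add p q hp hq => rw [map_add, map_add, add_sub_add_comm]; exact dvd_add hp hq
  | mul_X p i hp =>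
    simp only [map_mul, MvPolynomial.aeval_X]
    rw [show MvPolynomial.aeval a p * a i - MvPolynomial.aeval b p * b i =
      (MvPolynomial.aeval a p - MvPolynomial.aeval b p) * a i +
        MvPolynomial.aeval b p * (a i - b i) by ring]
    exact dvd_add (dvd_mul_of_dvd_left hp _) (dvd_mul_of_dvd_right (h i) _)

/-- The inclusion of polynomials in power series. -/
noncomputable def toPS (k K : Type u) [Field k] [Field K] [Algebra k K] :
    Polynomial K →ₐ[k] PowerSeries K :=
  (IsScalarTower.toAlgHom K (Polynomial K) (PowerSeries K)).restrictScalars k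

theorem toPS_apply (p : Polynomial K) : toPS k K p = (p : PowerSeries K) := rfl

open Polynomial in
theorem split_fraction {U' V' : K[X]} {U φ : PowerSeries K} {N e : ℕ} (he : e < N)
    (hlow : ∀ d < e, PowerSeries.coeff d U = 0) (htop : PowerSeries.coeff e U ≠ 0)
    (hU : (PowerSeries.X : PowerSeries K) ^ N ∣ (U' : PowerSeries K) - U)
    (hV : (PowerSeries.X : PowerSeries K) ^ N ∣ (V' : PowerSeries K) - φ * U) :
    ∃ u v : K[X], U' = X ^ e * u ∧ V' = X ^ e * v ∧ u.eval 0 ≠ 0 ∧
      v.eval 0 = PowerSeries.constantCoeff φ * u.eval 0 := by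
  have hUc : ∀ d < N, U'.coeff d = PowerSeries.coeff d U := fun d hd => by
    have := PowerSeries.X_pow_dvd_iff.1 hU d hd
    rwa [map_sub, sub_eq_zero, Polynomial.coeff_coe] at this
  have hUe : (PowerSeries.X : PowerSeries K) ^ e ∣ U := PowerSeries.X_pow_dvd_iff.2 hlow
  obtain ⟨w, rfl⟩ := hUe
  obtain ⟨u, rfl⟩ : (Polynomial.X : K[X]) ^ e ∣ U' :=
    Polynomial.X_pow_dvd_iff.2 fun d hd => by rw [hUc d (by omega), hlow d hd]
  have hVc : ∀ d < N, V'.coeff d =
      PowerSeries.coeff d ((PowerSeries.X : PowerSeries K) ^ e * (φ * w)) := fun d hd => by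
    have := PowerSeries.X_pow_dvd_iff.1 hV d hd
    rwa [map_sub, sub_eq_zero, Polynomial.coeff_coe, mul_left_comm] at this
  obtain ⟨v, rfl⟩ : (Polynomial.X : K[X]) ^ e ∣ V' :=
    Polynomial.X_pow_dvd_iff.2 fun d hd => by
      rw [hVc d (by omega), PowerSeries.coeff_X_pow_mul', if_neg (by omega)]
  have hu := hUc e he
  have hv := hVc e he
  rw [Polynomial.coeff_X_pow_mul', if_pos le_rfl, Nat.sub_self, PowerSeries.coeff_X_pow_mul',
    if_pos le_rfl, Nat.sub_self, PowerSeries.coeff_zero_eq_constantCoeff] at hu hv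
  have hw : PowerSeries.constantCoeff w ≠ 0 := by
    rwa [PowerSeries.coeff_X_pow_mul', if_pos le_rfl, Nat.sub_self,
      PowerSeries.coeff_zero_eq_constantCoeff] at htop
  refine ⟨u, v, rfl, rfl, ?_, ?_⟩
  · rw [← Polynomial.coeff_zero_eq_eval_zero, hu]; exact hw
  · rw [← Polynomial.coeff_zero_eq_eval_zero, ← Polynomial.coeff_zero_eq_eval_zero, hu, hv, map_mul]

/-- A formal arc inside an open of affine space can be replaced by a rational curve. -/
theorem approx [Infinite K] {n : ℕ} {R : Type u} [CommRing R] [Algebra k R]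
    [Algebra.FiniteType k R] (g : MvPolynomial (Fin n) k) (β : R →ₐ[k] Localization.Away g)
    (x : R →ₐ[k] K) (φ : R →ₐ[k] PowerSeries K)
    (hx : ∀ r, PowerSeries.constantCoeff (φ r) = x r)
    (c : Fin n → FractionRing (PowerSeries K)) (hg : MvPolynomial.aeval c g ≠ 0)
    (hc : ∀ r, evAway (MvPolynomial.aeval c) g hg (β r) =
      algebraMap (PowerSeries K) (FractionRing (PowerSeries K)) (φ r)) :
    ∃ (t0 : K) (d : Polynomial K)
      (hd0 : (Polynomial.aeval (0 : K)).restrictScalars k d ≠ 0)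
      (hdt : (Polynomial.aeval t0).restrictScalars k d ≠ 0)
      (h0 : R →ₐ[k] Localization.Away d) (e : Fin n → K) (he : MvPolynomial.aeval e g ≠ 0),
      (evAway ((Polynomial.aeval (0 : K)).restrictScalars k) d hd0).comp h0 = x ∧
      (evAway ((Polynomial.aeval t0).restrictScalars k) d hdt).comp h0 =
        (evAway (MvPolynomial.aeval e) g he).comp β := by
  classical
  let L := FractionRing (PowerSeries K)
  let ι : PowerSeries K →ₐ[k] L := IsScalarTower.toAlgHom k (PowerSeries K) L
  have hι : Function.Injective ι := IsFractionRing.injective (PowerSeries K) L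
  obtain ⟨⟨D, hD⟩, hDint⟩ :=
    IsLocalization.exist_integer_multiples_of_finite (nonZeroDivisors (PowerSeries K)) c
  choose N hN using hDint
  have hD0 : D ≠ 0 := nonZeroDivisors.ne_zero hD
  have hDι : ι D ≠ 0 := fun h => hD0 (hι (h.trans (map_zero ι).symm))
  have hcN : c = fun i => ι (N i) / ι D := funext fun i => by
    rw [eq_div_iff hDι, mul_comm]
    exact (hN i).trans (Algebra.smul_def D (c i)) |>.symm
  obtain ⟨S, hS⟩ := (‹Algebra.FiniteType k R›).out
  have hfrac : ∀ r : S, ∃ (m : ℕ) (p : MvPolynomial (Fin n) k),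
      β r.1 * algebraMap _ _ (g ^ m) = algebraMap _ _ p := fun r => by
    obtain ⟨⟨p, ⟨_, m, rfl⟩⟩, h⟩ := IsLocalization.surj (Submonoid.powers g) (β r.1)
    exact ⟨m, p, h⟩
  choose m p hp using hfrac
  obtain ⟨sg, G, hG⟩ := exists_homog g
  choose s H hH using fun r : S => exists_homog (p r)
  let V : ∀ r : S, MvPolynomial (Option (Fin n)) k := fun r => H r * MvPolynomial.X none ^ (sg * m r)
  let U : ∀ r : S, MvPolynomial (Option (Fin n)) k := fun r => G ^ m r * MvPolynomial.X none ^ s r
  have general : ∀ (F : Type u) [Field F] [Algebra k F] (N : Fin n → F) (D : F), D ≠ 0 → ∀ r : S,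
      MvPolynomial.aeval (fun i => N i / D) (p r) * MvPolynomial.aeval (fun o => o.elim D N) (U r) =
      MvPolynomial.aeval (fun i => N i / D) g ^ m r * MvPolynomial.aeval (fun o => o.elim D N) (V r) := by
    intro F _ _ N D hD r
    simp only [U, V, map_mul, map_pow, MvPolynomial.aeval_X, Option.elim_none]
    rw [← hG F N D hD, ← hH r F N D hD, mul_pow, ← pow_mul]
    ring
  have helim : ∀ {P F : Type u} [CommRing P] [Algebra k P] [CommRing F] [Algebra k F]
      (f : P →ₐ[k] F) (N : Fin n → P) (D : P) (Q : MvPolynomial (Option (Fin n)) k),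
      f (MvPolynomial.aeval (fun o => o.elim D N) Q) =
        MvPolynomial.aeval (fun o => o.elim (f D) fun i => f (N i)) Q := by
    intro P F _ _ _ _ f N D Q
    rw [MvPolynomial.comp_aeval_apply]
    congr 2
    funext o
    cases o <;> rfl
  set G0 := MvPolynomial.aeval (fun o => o.elim D N) G
  have hG0 : G0 ≠ 0 := fun h => by
    refine hg ?_
    have h1 := hG L (fun i => ι (N i)) (ι D) hDι
    rw [← helim ι N D G, show MvPolynomial.aeval (fun o => o.elim D N) G = G0 from rfl, h, map_zero,
      mul_eq_zero, or_iff_left (pow_ne_zero _ hDι)] at h1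
    rw [hcN]; exact h1
  let U0 : S → PowerSeries K := fun r => MvPolynomial.aeval (fun o => o.elim D N) (U r)
  let V0 : S → PowerSeries K := fun r => MvPolynomial.aeval (fun o => o.elim D N) (V r)
  have hUV : ∀ r : S, φ r.1 * U0 r = V0 r := fun r => hι (by
    have h1 := general L (fun i => ι (N i)) (ι D) hDι r
    rw [← helim ι N D, ← helim ι N D, ← hcN] at h1
    have h2 := evAway_eq_div (MvPolynomial.aeval c) g hg _ _ _ (hp r)
    rw [hc] at h2
    rw [map_mul, show ι (φ r.1) = algebraMap (PowerSeries K) L (φ r.1) from rfl, h2,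
      div_mul_eq_mul_div, div_eq_iff (pow_ne_zero _ hg)]
    exact h1.trans (mul_comm _ _))
  have hU0 : ∀ r, U0 r ≠ 0 := fun r => by
    simp only [U0, U, map_mul, map_pow, MvPolynomial.aeval_X, Option.elim_none]
    exact mul_ne_zero (pow_ne_zero _ hG0) (pow_ne_zero _ hD0)
  have hexU : ∀ r, ∃ e, PowerSeries.coeff e (U0 r) ≠ 0 := fun r => by
    by_contra! h; exact hU0 r (PowerSeries.ext fun e => by simpa using h e)
  have hexD : ∃ e, PowerSeries.coeff e D ≠ 0 := by
    by_contra! h; exact hD0 (PowerSeries.ext fun e => by simpa using h e)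
  have hexG : ∃ e, PowerSeries.coeff e G0 ≠ 0 := by
    by_contra! h; exact hG0 (PowerSeries.ext fun e => by simpa using h e)
  set B := (Finset.univ.sup fun r => Nat.find (hexU r)) + Nat.find hexD + Nat.find hexG + 1
  set D' := PowerSeries.trunc B D
  set N' := fun i => PowerSeries.trunc B (N i)
  have htr : ∀ f : PowerSeries K, (PowerSeries.X : PowerSeries K) ^ B ∣
      toPS k K (PowerSeries.trunc B f) - f := fun f => by
    rw [PowerSeries.X_pow_dvd_iff]
    intro d hd
    rw [toPS_apply, map_sub, Polynomial.coeff_coe, PowerSeries.coeff_trunc, if_pos hd, sub_self]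
  have hcong : ∀ Q : MvPolynomial (Option (Fin n)) k, (PowerSeries.X : PowerSeries K) ^ B ∣
      toPS k K (MvPolynomial.aeval (fun o => o.elim D' N') Q) -
        MvPolynomial.aeval (fun o => o.elim D N) Q := fun Q => by
    rw [helim (toPS k K) N' D' Q]
    exact aeval_congr (fun o => by cases o <;> exact htr _) Q
  have hne : ∀ {f : PowerSeries K} {P : Polynomial K} {e : ℕ}, e < B → PowerSeries.coeff e f ≠ 0 →
      (PowerSeries.X : PowerSeries K) ^ B ∣ toPS k K P - f → P ≠ 0 := by
    intro f P e he hf hdvd h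
    have := PowerSeries.X_pow_dvd_iff.1 hdvd e he
    rw [h, map_zero, zero_sub, map_neg, neg_eq_zero] at this
    exact hf this
  have hD'0 : D' ≠ 0 := hne (by omega) (Nat.find_spec hexD) (htr D)
  set G' := MvPolynomial.aeval (fun o => o.elim D' N') G
  have hG'0 : G' ≠ 0 := hne (by omega) (Nat.find_spec hexG) (hcong G)
  have hlt : ∀ r, Nat.find (hexU r) < B := fun r => by
    have := Finset.le_sup (f := fun r => Nat.find (hexU r)) (Finset.mem_univ r)
    omega
  choose u v hu hv hu0 hv0 using fun r : S =>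
    split_fraction (φ := φ r.1) (hlt r)
      (fun d hd => not_not.1 (Nat.find_min (hexU r) hd)) (Nat.find_spec (hexU r))
      (hcong (U r)) (by rw [hUV r]; exact hcong (V r))
  have hu' : ∀ r : S, MvPolynomial.aeval (fun o => o.elim D' N') (U r) =
      Polynomial.X ^ Nat.find (hexU r) * u r := hu
  have hv' : ∀ r : S, MvPolynomial.aeval (fun o => o.elim D' N') (V r) =
      Polynomial.X ^ Nat.find (hexU r) * v r := hv
  set d := ∏ r : S, u r
  have hd0 : Polynomial.aeval (0 : K) d ≠ 0 := by
    rw [Polynomial.coe_aeval_eq_eval, Polynomial.eval_prod]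
    exact Finset.prod_ne_zero_iff.2 fun r _ => hu0 r
  have hdne : d ≠ 0 := fun h => hd0 (by rw [h, map_zero])
  -- the map into `K(X)`
  set F := FractionRing (Polynomial K)
  let j : Polynomial K →ₐ[k] F := IsScalarTower.toAlgHom k (Polynomial K) F
  have hj : Function.Injective j := IsFractionRing.injective (Polynomial K) F
  have hj0 : ∀ {P : Polynomial K}, P ≠ 0 → j P ≠ 0 := fun h e => h (hj (e.trans (map_zero j).symm))
  set c' : Fin n → F := fun i => j (N' i) / j D'
  have hc'g : MvPolynomial.aeval c' g ≠ 0 := fun h => by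
    have h1 := hG F (fun i => j (N' i)) (j D') (hj0 hD'0)
    rw [← helim j N' D' G, h, zero_mul] at h1
    exact hj0 hG'0 h1.symm
  let ρ := (evAway (MvPolynomial.aeval c') g hc'g).comp β
  have hρ : ∀ r : S, ρ r.1 * j (u r) = j (v r) := fun r => by
    have h1 := general F (fun i => j (N' i)) (j D') (hj0 hD'0) r
    rw [← helim j N' D', ← helim j N' D', hu' r, hv' r, map_mul, map_mul] at h1
    rw [show ρ r.1 = evAway (MvPolynomial.aeval c') g hc'g (β r.1) from rfl,
      evAway_eq_div _ g hc'g _ _ _ (hp r), div_mul_eq_mul_div, div_eq_iff (pow_ne_zero _ hc'g)]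
    refine mul_right_cancel₀ (hj0 (pow_ne_zero (Nat.find (hexU r)) Polynomial.X_ne_zero)) ?_
    linear_combination h1
  let jd : Localization.Away d →ₐ[k] F := evAway j d (hj0 hdne)
  have hjd : Function.Injective jd :=
    (IsLocalization.lift_injective_iff _).2 fun a b => by
      rw [(IsLocalization.injective (Localization.Away d)
        (powers_le_nonZeroDivisors_of_noZeroDivisors hdne)).eq_iff]
      exact ⟨fun h => by rw [h], fun h => hj h⟩
  have hrange : ∀ r : R, ρ r ∈ jd.range := by
    have : (⊤ : Subalgebra k R) ≤ jd.range.comap ρ := by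
      rw [← hS, Algebra.adjoin_le_iff]
      intro r hr
      have hdr : d = u ⟨r, hr⟩ * ∏ r' ∈ Finset.univ.erase ⟨r, hr⟩, u r' :=
        (Finset.mul_prod_erase _ _ (Finset.mem_univ _)).symm
      refine ⟨IsLocalization.mk' _ (v ⟨r, hr⟩ * ∏ r' ∈ Finset.univ.erase ⟨r, hr⟩, u r')
        (⟨d, Submonoid.mem_powers d⟩ : Submonoid.powers d), ?_⟩
      show jd _ = ρ r
      have h1 := congrArg jd (IsLocalization.mk'_spec (Localization.Away d)
        (v ⟨r, hr⟩ * ∏ r' ∈ Finset.univ.erase ⟨r, hr⟩, u r')
        (⟨d, Submonoid.mem_powers d⟩ : Submonoid.powers d))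
      rw [map_mul] at h1
      simp only [jd, evAway_algebraMap] at h1
      refine mul_right_cancel₀ (hj0 hdne) (h1.trans ?_)
      rw [map_mul, ← hρ ⟨r, hr⟩]
      conv_rhs => rw [hdr, map_mul]
      ring
    exact fun r => this Algebra.mem_top
  let h0 : R →ₐ[k] Localization.Away d :=
    (AlgEquiv.ofInjective jd hjd).symm.toAlgHom.comp (ρ.codRestrict _ hrange)
  have hh0 : ∀ r, jd (h0 r) = ρ r := fun r =>
    congrArg Subtype.val ((AlgEquiv.ofInjective jd hjd).apply_symm_apply ⟨ρ r, hrange r⟩)
  have hu_mul : ∀ r : S, h0 r.1 * algebraMap _ _ (u r) = algebraMap _ _ (v r) := fun r => hjd (by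
    rw [map_mul, hh0]
    simp only [jd, evAway_algebraMap]
    exact hρ r)
  obtain ⟨t0, ht0⟩ : ∃ t : K, (Polynomial.X * (d * (G' * D'))).eval t ≠ 0 := by
    by_contra! h
    exact mul_ne_zero Polynomial.X_ne_zero (mul_ne_zero hdne (mul_ne_zero hG'0 hD'0))
      (Polynomial.funext fun t => by simp [h t])
  simp only [Polynomial.eval_mul, Polynomial.eval_X, mul_ne_zero_iff] at ht0
  obtain ⟨ht, htd, htG, htD⟩ := ht0
  have hdt : Polynomial.aeval t0 d ≠ 0 := by rwa [Polynomial.coe_aeval_eq_eval]
  let ε : Polynomial K →ₐ[k] K := (Polynomial.aeval t0).restrictScalars k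
  have hεD : ε D' ≠ 0 := by show Polynomial.aeval t0 D' ≠ 0; rwa [Polynomial.coe_aeval_eq_eval]
  set e : Fin n → K := fun i => ε (N' i) / ε D'
  have he : MvPolynomial.aeval e g ≠ 0 := fun h => by
    have h1 := hG K (fun i => ε (N' i)) (ε D') hεD
    rw [← helim ε N' D' G, h, zero_mul] at h1
    refine htG ?_
    rw [← Polynomial.coe_aeval_eq_eval]
    exact h1.symm
  refine ⟨t0, d, hd0, hdt, h0, e, he, AlgHom.ext_of_adjoin_eq_top hS fun r hr => ?_,
    AlgHom.ext_of_adjoin_eq_top hS fun r hr => ?_⟩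
  · have h1 := congrArg (evAway ((Polynomial.aeval (0 : K)).restrictScalars k) d hd0) (hu_mul ⟨r, hr⟩)
    rw [map_mul, evAway_algebraMap, evAway_algebraMap] at h1
    simp only [AlgHom.restrictScalars_apply, Polynomial.coe_aeval_eq_eval, hv0 ⟨r, hr⟩, hx] at h1
    exact mul_right_cancel₀ (hu0 ⟨r, hr⟩) h1
  · have h1 := congrArg (evAway ε d hdt) (hu_mul ⟨r, hr⟩)
    rw [map_mul, evAway_algebraMap, evAway_algebraMap] at h1
    have h2 := general K (fun i => ε (N' i)) (ε D') hεD ⟨r, hr⟩
    rw [← helim ε N' D', ← helim ε N' D', hu' ⟨r, hr⟩, hv' ⟨r, hr⟩, map_mul, map_mul, ← h1] at h2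
    have hXt : ε (Polynomial.X ^ Nat.find (hexU ⟨r, hr⟩)) ≠ 0 := by
      show Polynomial.aeval t0 _ ≠ 0
      simp [ht]
    have hut : ε (u ⟨r, hr⟩) ≠ 0 := by
      show Polynomial.aeval t0 _ ≠ 0
      rw [Polynomial.coe_aeval_eq_eval]
      simp only [d, Polynomial.eval_prod, Finset.prod_ne_zero_iff] at htd
      exact htd _ (Finset.mem_univ _)
    show evAway ε d hdt (h0 r) = evAway (MvPolynomial.aeval e) g he (β r)
    rw [evAway_eq_div _ g he (β r) _ _ (hp ⟨r, hr⟩),
      eq_div_iff (pow_ne_zero _ he)]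
    refine mul_right_cancel₀ hut (mul_right_cancel₀ hXt ?_)
    linear_combination -h2

end Groth.Misc15.Approx
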