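import Mathlib

/-! Arcs through rational points of smooth algebras and their approximation by rational curves. -/

set_option autoImplicit false

universe u v

open PowerSeries

namespace Groth.Misc15.Arc

variable {K : Type u} [Field K]

theorem span_X_sq_pow (m : ℕ) :
    (Ideal.span {((PowerSeries.X : K⟦X⟧) ^ 2)}) ^ m = Ideal.span {(PowerSeries.X : K⟦X⟧) ^ (2 * m)} := by
  rw [Ideal.span_singleton_pow, ← pow_mul]

theorem smodEq_iff {f g : K⟦X⟧} {m : ℕ} :
    f ≡ g [SMOD ((Ideal.span {((PowerSeries.X : K⟦X⟧) ^ 2)}) ^ m • ⊤ : Submodule K⟦X⟧ K⟦X⟧)] ↔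
      ∀ j < 2 * m, coeff j f = coeff j g := by
  rw [smul_eq_mul, Ideal.mul_top, SModEq.sub_mem, span_X_sq_pow, Ideal.mem_span_singleton,
    X_pow_dvd_iff]
  simp [sub_eq_zero]

instance isAdicComplete_X_sq :
    IsAdicComplete (Ideal.span {((PowerSeries.X : K⟦X⟧) ^ 2)}) K⟦X⟧ where
  haus' f hf := by
    ext j
    simpa using smodEq_iff.1 (hf (j + 1)) j (by omega)
  prec' f hf := by
    refine ⟨PowerSeries.mk fun j => coeff j (f (j + 1)), fun n => smodEq_iff.2 fun j hj => ?_⟩
    rw [coeff_mk]
    rcases le_total n (j + 1) with h | h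
    · exact smodEq_iff.1 (hf h) j hj
    · exact (smodEq_iff.1 (hf h) j (by omega)).symm

section Exists

variable {A : Type v} [CommRing A] [Algebra K A] (x : A →ₐ[K] K)

theorem sub_const_mem (a : A) : a - algebraMap K A (x a) ∈ RingHom.ker x := by
  rw [RingHom.mem_ker, map_sub, AlgHom.commutes]; simp

theorem smul_sub_mem {a g : A} (hg : g ∈ RingHom.ker x) :
    a * g - x a • g ∈ (RingHom.ker x) ^ 2 := by
  rw [Algebra.smul_def, ← sub_mul, pow_two]
  exact Ideal.mul_mem_mul (sub_const_mem x a) hg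

theorem exists_frame [IsNoetherianRing A] :
    ∃ (d : ℕ) (u : Fin d → A), (∀ i, u i ∈ RingHom.ker x) ∧
      (∀ a ∈ RingHom.ker x, ∃ c : Fin d → K, a - ∑ i, c i • u i ∈ (RingHom.ker x) ^ 2) ∧
      ∀ v : Fin d → K, ∃ l : A →ₗ[K] K, l 1 = 0 ∧ (∀ a ∈ (RingHom.ker x) ^ 2, l a = 0) ∧
        ∀ i, l (u i) = v i := by
  classical
  set m := RingHom.ker x
  set N : Submodule K A := (m ^ 2).restrictScalars K ⊔ Submodule.span K {(1 : A)}
  have hfin : FiniteDimensional K (A ⧸ N) := by
    obtain ⟨G, hG⟩ := (IsNoetherian.noetherian m : m.FG)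
    refine ⟨⟨G.image N.mkQ, ?_⟩⟩
    rw [eq_top_iff]
    rintro z -
    obtain ⟨a, rfl⟩ := N.mkQ_surjective z
    have h1 : N.mkQ a = N.mkQ (a - algebraMap K A (x a)) := by
      rw [eq_comm, ← sub_eq_zero, ← map_sub, Submodule.mkQ_apply, Submodule.Quotient.mk_eq_zero,
        sub_sub_cancel_left, Algebra.algebraMap_eq_smul_one]
      exact neg_mem (Submodule.mem_sup_right (Submodule.smul_mem _ _ (Submodule.subset_span rfl)))
    rw [h1]
    have hmem : a - algebraMap K A (x a) ∈ Ideal.span (G : Set A) := by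
      rw [show Ideal.span (G : Set A) = m from hG]; exact sub_const_mem x a
    have key : ∀ b : A, ∀ y ∈ Ideal.span (G : Set A),
        N.mkQ (b * y) ∈ Submodule.span K ((G.image N.mkQ : Finset _) : Set (A ⧸ N)) := by
      intro b y hy
      induction hy using Submodule.span_induction generalizing b with
      | mem g hg =>
        have hgm : g ∈ m := hG ▸ Submodule.subset_span hg
        have : N.mkQ (b * g) = x b • N.mkQ g := by
          rw [← map_smul, ← sub_eq_zero, ← map_sub, Submodule.mkQ_apply, Submodule.Quotient.mk_eq_zero]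
          exact Submodule.mem_sup_left (smul_sub_mem x hgm)
        rw [this]
        exact Submodule.smul_mem _ _ (Submodule.subset_span (by simpa using ⟨g, hg, rfl⟩))
      | zero => simp
      | add p q _ _ hp hq => rw [mul_add, map_add]; exact add_mem (hp b) (hq b)
      | smul c p _ hp => rw [smul_eq_mul, ← mul_assoc]; exact hp (b * c)
    simpa using key 1 _ hmem
  let B := Module.finBasis K (A ⧸ N)
  choose w hw using fun i => N.mkQ_surjective (B i)
  let u := fun i => w i - algebraMap K A (x (w i))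
  have hu : ∀ i, N.mkQ (u i) = B i := fun i => by
    rw [map_sub, hw, sub_eq_self, Submodule.mkQ_apply, Submodule.Quotient.mk_eq_zero,
      Algebra.algebraMap_eq_smul_one]
    exact Submodule.mem_sup_right (Submodule.smul_mem _ _ (Submodule.subset_span rfl))
  refine ⟨_, u, fun i => sub_const_mem x _, fun a ha => ⟨fun i => B.repr (N.mkQ a) i, ?_⟩,
    fun v => ⟨(B.constr K v).comp N.mkQ, ?_, ?_, fun i => ?_⟩⟩
  · set r := a - ∑ i, B.repr (N.mkQ a) i • u i
    have hr : r ∈ N := by
      rw [← Submodule.Quotient.mk_eq_zero, ← Submodule.mkQ_apply, map_sub, map_sum]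
      simp only [map_smul, hu, B.sum_repr, sub_self]
    obtain ⟨p, hp, q, hq, hpq⟩ := Submodule.mem_sup.1 hr
    obtain ⟨c, rfl⟩ := Submodule.mem_span_singleton.1 hq
    have hrm : x r = 0 := by
      have hz : ∀ i, x (u i) = 0 := fun i => sub_const_mem x _
      simp only [r, map_sub, map_sum, map_smul, hz, smul_zero, Finset.sum_const_zero, sub_zero]
      exact ha
    have hpm : x p = 0 := Ideal.pow_le_self two_ne_zero hp
    rw [← hpq, map_add, hpm, zero_add, map_smul, map_one, smul_eq_mul, mul_one] at hrm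
    rw [← hpq, hrm, zero_smul, add_zero]
    exact hp
  · rw [LinearMap.comp_apply, show N.mkQ 1 = 0 from (Submodule.Quotient.mk_eq_zero N).2
      (Submodule.mem_sup_right (Submodule.subset_span rfl)), map_zero]
  · intro a ha
    rw [LinearMap.comp_apply, show N.mkQ a = 0 from (Submodule.Quotient.mk_eq_zero N).2
      (Submodule.mem_sup_left ha), map_zero]
  · rw [LinearMap.comp_apply, hu, Module.Basis.constr_basis]

theorem exists_form {d : ℕ} {u : Fin d → A}
    (hspan : ∀ a ∈ RingHom.ker x, ∃ c : Fin d → K, a - ∑ i, c i • u i ∈ (RingHom.ker x) ^ 2)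
    (hu : ∀ i, u i ∈ RingHom.ker x) (j : ℕ) :
    ∀ g ∈ (RingHom.ker x) ^ j, ∃ F : MvPolynomial (Fin d) K, F.IsHomogeneous j ∧
      g - MvPolynomial.aeval u F ∈ (RingHom.ker x) ^ (j + 1) := by
  set m := RingHom.ker x
  induction j with
  | zero =>
    intro g _
    refine ⟨MvPolynomial.C (x g), MvPolynomial.isHomogeneous_C _ _, ?_⟩
    rw [zero_add, pow_one, MvPolynomial.aeval_C]
    exact sub_const_mem x g
  | succ j ih =>
    intro g hg
    rw [pow_succ] at hg
    refine Submodule.mul_induction_on hg (fun a ha b hb => ?_) ?_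
    · obtain ⟨F, hF, hFa⟩ := ih a ha
      obtain ⟨c, hc⟩ := hspan b hb
      set L : MvPolynomial (Fin d) K := ∑ i, MvPolynomial.C (c i) * MvPolynomial.X i
      have hL : L.IsHomogeneous 1 := MvPolynomial.IsHomogeneous.sum _ _ _ fun i _ =>
        (MvPolynomial.isHomogeneous_X K i).C_mul _
      have hLu : MvPolynomial.aeval u L = ∑ i, c i • u i := by
        simp [L, Algebra.smul_def, map_sum]
      refine ⟨F * L, hF.mul hL, ?_⟩
      rw [map_mul, hLu, show a * b - MvPolynomial.aeval u F * ∑ i, c i • u i =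
        (a - MvPolynomial.aeval u F) * b +
          MvPolynomial.aeval u F * (b - ∑ i, c i • u i) by ring]
      refine add_mem (pow_succ m (j + 1) ▸ Ideal.mul_mem_mul hFa hb) ?_
      have hFj : MvPolynomial.aeval u F ∈ m ^ j := by
        have := sub_mem ha (Ideal.pow_le_pow_right (Nat.le_succ j) hFa)
        simpa using this
      rw [show j + 1 + 1 = j + 2 from rfl, pow_add]
      exact Ideal.mul_mem_mul hFj hc
    · rintro a b ⟨F, hF, hFa⟩ ⟨G, hG, hGb⟩
      exact ⟨F + G, hF.add hG, by rw [map_add, add_sub_add_comm]; exact add_mem hFa hGb⟩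

theorem aeval_smul_of_isHomogeneous {σ : Type*} {R S : Type*} [CommRing R] [CommRing S] [Algebra R S]
    {F : MvPolynomial σ R} {j : ℕ} (hF : F.IsHomogeneous j) (T : S) (w : σ → S) :
    MvPolynomial.aeval (fun i => T * w i) F = T ^ j * MvPolynomial.aeval w F := by
  rw [F.as_sum, map_sum, map_sum, Finset.mul_sum]
  refine Finset.sum_congr rfl fun e he => ?_
  rw [MvPolynomial.aeval_monomial, MvPolynomial.aeval_monomial, Finsupp.prod, Finsupp.prod]
  simp only [mul_pow, Finset.prod_mul_distrib, Finset.prod_pow_eq_pow_sum]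
  have : ∑ i ∈ e.support, e i = j := by
    have := hF (MvPolynomial.mem_support_iff.1 he)
    simpa [Finsupp.weight_apply, Finsupp.sum] using this
  rw [this]; ring

/-- An arc through a rational point of a smooth domain avoiding a given hypersurface. -/
theorem exists_arc [Infinite K] [IsNoetherianRing A] [IsDomain A] [Algebra.FormallySmooth K A]
    {h : A} (hh : h ≠ 0) :
    ∃ φ : A →ₐ[K] K⟦X⟧, (∀ a, constantCoeff (φ a) = x a) ∧ φ h ≠ 0 := by
  classical
  set m := RingHom.ker x with hm
  have hm1 : m ≠ ⊤ := RingHom.ker_ne_top _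
  obtain ⟨j, hj, hj'⟩ : ∃ j, h ∈ m ^ j ∧ h ∉ m ^ (j + 1) := by
    by_contra! hno
    apply hh
    have : ∀ j, h ∈ m ^ j := fun j => by
      induction j with
      | zero => simp
      | succ j ih => exact hno j ih
    have := (Submodule.mem_iInf _).2 this
    rwa [Ideal.iInf_pow_eq_bot_of_isDomain m hm1, Ideal.mem_bot] at this
  obtain ⟨d, u, hu, hspan, hfun⟩ := exists_frame x
  obtain ⟨F, hF, hFh⟩ := exists_form x hspan hu j h hj
  have hF0 : F ≠ 0 := fun e => hj' (by simpa [e] using hFh)
  obtain ⟨v, hv⟩ : ∃ v : Fin d → K, MvPolynomial.eval v F ≠ 0 := by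
    by_contra! hno
    exact hF0 (MvPolynomial.funext fun v => by simp [hno v])
  obtain ⟨l, hl1, hl2, hlu⟩ := hfun v
  set I := Ideal.span {((PowerSeries.X : K⟦X⟧) ^ 2)}
  let τ : A →ₗ[K] K⟦X⟧ :=
    x.toLinearMap.smulRight (1 : K⟦X⟧) + l.smulRight (PowerSeries.X : K⟦X⟧)
  have hτ : ∀ a, τ a = C (x a) + C (l a) * PowerSeries.X := fun a => by
    simp [τ, Algebra.smul_def, PowerSeries.algebraMap_apply]
  have hlmul : ∀ a b, l (a * b) = x a * l b + x b * l a := fun a b => by
    have := hl2 _ (pow_two m ▸ Ideal.mul_mem_mul (sub_const_mem x a) (sub_const_mem x b))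
    rw [show (a - algebraMap K A (x a)) * (b - algebraMap K A (x b)) =
      a * b - x a • b - x b • a + (x a * x b) • (1 : A) by
        simp only [Algebra.smul_def, map_mul]; ring] at this
    simp only [map_add, map_sub, map_smul, hl1, smul_eq_mul, mul_zero, add_zero] at this
    linear_combination this
  let ψ : A →ₐ[K] K⟦X⟧ ⧸ I := AlgHom.ofLinearMap ((Ideal.Quotient.mkₐ K I).toLinearMap.comp τ)
    (by simp [hτ, hl1])
    (fun a b => by
      simp only [LinearMap.comp_apply, AlgHom.toLinearMap_apply, Ideal.Quotient.mkₐ_eq_mk, hτ,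
        ← map_mul (Ideal.Quotient.mk I), Ideal.Quotient.eq, I, Ideal.mem_span_singleton, hlmul]
      refine ⟨-(C (l a) * C (l b)), ?_⟩
      simp only [map_add, map_mul]
      ring)
  obtain ⟨φ, hφ⟩ := Algebra.FormallySmooth.exists_mkₐ_comp_eq_of_isAdicComplete ψ
  have hmod : ∀ a, ∃ r, φ a = τ a + PowerSeries.X ^ 2 * r := fun a => by
    have h1 : Ideal.Quotient.mk I (φ a) = Ideal.Quotient.mk I (τ a) := AlgHom.congr_fun hφ a
    rw [Ideal.Quotient.eq, Ideal.mem_span_singleton] at h1
    obtain ⟨r, hr⟩ := h1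
    exact ⟨r, by rw [← hr]; ring⟩
  have hconst : ∀ a, constantCoeff (φ a) = x a := fun a => by
    obtain ⟨r, hr⟩ := hmod a
    simp [hr, hτ]
  refine ⟨φ, hconst, fun h0 => hv ?_⟩
  have hdvd : ∀ n, ∀ a ∈ m ^ n, PowerSeries.X ^ n ∣ φ a := by
    intro n a ha
    have := Ideal.mem_map_of_mem φ ha
    rw [Ideal.map_pow] at this
    refine Ideal.mem_span_singleton.1 ?_
    rw [← Ideal.span_singleton_pow]
    refine Ideal.pow_right_mono (Ideal.map_le_iff_le_comap.2 fun b hb => ?_) n this
    rw [Ideal.mem_comap, Ideal.mem_span_singleton, X_dvd_iff, hconst]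
    exact hb
  choose r hr using fun i => hmod (u i)
  have hw : ∀ i, φ (u i) = PowerSeries.X * (C (v i) + PowerSeries.X * r i) := fun i => by
    rw [hr, hτ, hlu, (hu i : x (u i) = 0)]; simp; ring
  obtain ⟨e, he⟩ := hdvd _ _ hFh
  rw [map_sub, h0, MvPolynomial.comp_aeval_apply, show (fun i => φ (u i)) =
    fun i => PowerSeries.X * (C (v i) + PowerSeries.X * r i) from funext hw,
    aeval_smul_of_isHomogeneous hF, pow_succ, zero_sub, mul_assoc, ← mul_neg,
    mul_right_inj' (pow_ne_zero _ PowerSeries.X_ne_zero)] at he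
  have := congrArg constantCoeff he
  rw [map_neg, map_mul, constantCoeff_X, zero_mul, neg_eq_zero] at this
  rw [← this]
  exact RingHom.congr_fun (show MvPolynomial.eval v = (constantCoeff).comp
      (MvPolynomial.aeval fun i => C (v i) + PowerSeries.X * r i).toRingHom from
    MvPolynomial.ringHom_ext (fun c => by simp [PowerSeries.algebraMap_apply]) fun i => by simp) F

end Exists

end Groth.Misc15.Arc
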