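import Mathlib

/-! A graded algebra smooth along its zero section with free conormal module is a polynomial ring. -/

set_option autoImplicit false
open DirectSum

namespace Groth.Misc15.BB

universe u

/-- endomorphism fixing square of an ideal modulo a square-zero kernel killed by it -/
lemma eq_of_mem_sq {P E : Type*} [CommRing P] [CommRing E] (f g : P →+* E) (m : Ideal P) (J : Ideal E)
    (hJ : ∀ y ∈ m, ∀ j ∈ J, g y * j = 0) (hJ2 : ∀ i ∈ J, ∀ j ∈ J, i * j = 0)
    (hfg : ∀ y ∈ m, f y - g y ∈ J) : ∀ y ∈ m ^ 2, f y = g y := by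
  intro y hy
  rw [pow_two] at hy
  induction hy using Submodule.mul_induction_on' with
  | mem_mul_mem a ha b hb =>
    obtain ⟨i, hi, hi'⟩ : ∃ i ∈ J, f a = g a + i := ⟨f a - g a, hfg a ha, by ring⟩
    obtain ⟨j, hj, hj'⟩ : ∃ j ∈ J, f b = g b + j := ⟨f b - g b, hfg b hb, by ring⟩
    rw [map_mul, map_mul, hi', hj']
    linear_combination hJ a ha j hj + hJ b hb i hi + hJ2 i hi j hj
  | add a _ b _ h h' => rw [map_add, map_add, h, h']

/-- if the quotient becomes formally smooth after inverting `g ≡ 1 mod m`, then `I = m I` -/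
lemma le_mul_of_formallySmooth {A P B : Type*} [CommRing A] [CommRing P] [CommRing B] [Algebra A P] [Algebra A B]
    (φ : P →ₐ[A] B) (hφ : Function.Surjective φ) (m : Ideal P)
    (hI : RingHom.ker φ ≤ m ^ 2) (g : P) (hg : g - 1 ∈ m)
    (hsm : Algebra.FormallySmooth A (Localization.Away (φ g))) :
    RingHom.ker φ ≤ m * RingHom.ker φ := by
  set I := RingHom.ker φ with hIdef
  have hIm : I ≤ m := hI.trans (Ideal.pow_le_self two_ne_zero)
  let q : P →ₐ[A] P ⧸ (m * I) := Ideal.Quotient.mkₐ A _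
  let Eg := Localization.Away (q g)
  let ι : P →ₐ[A] Eg := (IsScalarTower.toAlgHom A (P ⧸ (m * I)) Eg).comp q
  have hmI : m * I ≤ RingHom.ker φ := Ideal.mul_le_right (I := m)
  let φ' : (P ⧸ (m * I)) →ₐ[A] B := Ideal.Quotient.liftₐ _ φ (fun a ha => hmI ha)
  let θ : Eg →ₐ[A] Localization.Away (φ g) :=
    IsLocalization.liftAlgHom (M := Submonoid.powers (q g))
      (f := (IsScalarTower.toAlgHom A B (Localization.Away (φ g))).comp φ') (by
        rintro ⟨_, n, rfl⟩
        show IsUnit (algebraMap B (Localization.Away (φ g)) (φ' ((q g) ^ n)))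
        rw [map_pow, map_pow]
        exact (IsLocalization.Away.algebraMap_isUnit (φ g)).pow n)
  have hθ : ∀ x : P ⧸ (m * I), θ (algebraMap _ Eg x) = algebraMap B _ (φ' x) := fun x => by
    simp [θ, IsLocalization.lift_eq]
  have hθι : ∀ x : P, θ (ι x) = algebraMap B _ (φ x) := fun x => hθ (q x)
  have hθs : Function.Surjective θ := by
    intro z
    obtain ⟨n, b, hb⟩ := IsLocalization.Away.surj (φ g) z
    obtain ⟨x, rfl⟩ := hφ b
    obtain ⟨w, hw⟩ := (IsLocalization.Away.algebraMap_isUnit (S := Eg) (q g)).pow n |>.exists_left_inv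
    refine ⟨w * ι x, ((IsLocalization.Away.algebraMap_isUnit (φ g)).pow n).mul_left_cancel ?_⟩
    rw [mul_comm _ z, hb]
    have : θ ((algebraMap _ Eg (q g)) ^ n) = (algebraMap B (Localization.Away (φ g)) (φ g)) ^ n := by
      rw [map_pow, hθ]; rfl
    rw [← this, ← map_mul, ← mul_assoc, mul_comm _ w, hw, one_mul, hθι]
  -- description of the kernel
  have hker : ∀ z, θ z = 0 → ∃ i ∈ I, ∃ u : Eg, IsUnit u ∧ z * u = ι i := by
    intro z hz
    obtain ⟨n, e, he⟩ := IsLocalization.Away.surj (q g) z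
    obtain ⟨x, rfl⟩ := Ideal.Quotient.mk_surjective e
    have h0 : algebraMap B (Localization.Away (φ g)) (φ x) = 0 := by
      rw [← hθι x, show ι x = algebraMap _ Eg (Ideal.Quotient.mk (m * I) x) from rfl, ← he, map_mul, hz, zero_mul]
    obtain ⟨⟨_, N, rfl⟩, hN⟩ := (IsLocalization.map_eq_zero_iff (Submonoid.powers (φ g)) _ _).mp h0
    refine ⟨g ^ N * x, ?_, algebraMap _ Eg (q g) ^ n * algebraMap _ Eg (q g) ^ N,
      ((IsLocalization.Away.algebraMap_isUnit (q g)).pow n).mul ((IsLocalization.Away.algebraMap_isUnit (q g)).pow N), ?_⟩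
    · rw [hIdef, RingHom.mem_ker, map_mul, map_pow]; exact hN
    · rw [← mul_assoc, he, map_mul ι, map_pow ι, mul_comm]
      rfl
  have hJ : ∀ y ∈ m, ∀ z ∈ RingHom.ker θ, ι y * z = 0 := fun y hy z hz => by
    obtain ⟨i, hi, u, hu, e⟩ := hker z hz
    refine hu.mul_left_injective ?_
    show ι y * z * u = 0 * u
    rw [mul_assoc, e, ← map_mul, zero_mul]
    show algebraMap _ Eg (Ideal.Quotient.mk (m * I) (y * i)) = 0
    rw [Ideal.Quotient.eq_zero_iff_mem.mpr (Ideal.mul_mem_mul hy hi), map_zero]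
  have hJ2 : ∀ z ∈ RingHom.ker θ, ∀ z' ∈ RingHom.ker θ, z * z' = 0 := fun z hz z' hz' => by
    obtain ⟨i, hi, u, hu, e⟩ := hker z hz
    refine hu.mul_left_injective ?_
    show z * z' * u = 0 * u
    rw [mul_right_comm, e, zero_mul, hJ i (hIm hi) z' hz']
  have hnil : IsNilpotent (RingHom.ker θ) := ⟨2, by
    rw [pow_two, Ideal.zero_eq_bot, eq_bot_iff, Ideal.mul_le]
    intro z hz z' hz'
    rw [hJ2 z hz z' hz']
    exact zero_mem _⟩
  let σ := Algebra.FormallySmooth.liftOfSurjective (AlgHom.id A (Localization.Away (φ g))) θ hθs hnil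
  have hσ : ∀ z, θ (σ z) = z := fun z =>
    Algebra.FormallySmooth.liftOfSurjective_apply (AlgHom.id A _) θ hθs hnil z
  intro f hf
  have key := eq_of_mem_sq (((σ.comp (IsScalarTower.toAlgHom A B _)).comp φ : P →ₐ[A] Eg) : P →+* Eg) (ι : P →+* Eg) m
    (RingHom.ker θ) hJ hJ2 (fun y _ => by
      rw [RingHom.mem_ker, map_sub]
      show θ (σ (algebraMap B _ (φ y))) - θ (ι y) = 0
      rw [hσ, hθι, sub_self]) f (hI hf)
  have h0 : algebraMap (P ⧸ (m * I)) Eg (q f) = 0 := by
    refine key.symm.trans ?_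
    show σ (algebraMap B _ (φ f)) = 0
    rw [show φ f = 0 from hf, map_zero, map_zero]
  obtain ⟨⟨_, N, rfl⟩, hN⟩ := (IsLocalization.map_eq_zero_iff (Submonoid.powers (q g)) _ _).mp h0
  have hN' : g ^ N * f ∈ m * I := Ideal.Quotient.eq_zero_iff_mem.mp (by
    show q (g ^ N * f) = 0
    rw [map_mul, map_pow]; exact hN)
  have h1 : g ^ N - 1 ∈ m := by
    have := Ideal.mul_mem_left m (∑ i ∈ Finset.range N, g ^ i) hg
    rwa [geom_sum_mul] at this
  have : f = g ^ N * f - (g ^ N - 1) * f := by ring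
  rw [this]
  exact sub_mem hN' (Ideal.mul_mem_mul h1 hf)

section Graded

variable {A B : Type u} [CommRing A] [CommRing B] [Algebra A B] (𝒜 : ℕ → Submodule A B) [GradedAlgebra 𝒜]

set_option quotPrecheck false
local notation "Bp" => (HomogeneousIdeal.irrelevant 𝒜).toIdeal

lemma mem_plus {b : B} : b ∈ Bp ↔ GradedAlgebra.proj 𝒜 0 b = 0 := Iff.rfl

lemma proj_of_mem {d j : ℕ} {b : B} (hb : b ∈ 𝒜 d) : GradedAlgebra.proj 𝒜 j b = if j = d then b else 0 := by
  rw [GradedAlgebra.proj_apply]
  split_ifs with h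
  · subst h; exact DirectSum.decompose_of_mem_same _ hb
  · exact DirectSum.decompose_of_mem_ne _ hb (Ne.symm h)

lemma proj_mem (d : ℕ) (b : B) : GradedAlgebra.proj 𝒜 d b ∈ 𝒜 d := by
  rw [GradedAlgebra.proj_apply]; exact SetLike.coe_mem _

lemma sum_proj (b : B) : ∃ S : Finset ℕ, (∑ d ∈ S, GradedAlgebra.proj 𝒜 d b) = b ∧
    ∀ d ∉ S, GradedAlgebra.proj 𝒜 d b = 0 := by
  classical
  refine ⟨(DirectSum.decompose 𝒜 b).support, ?_, fun d hd => ?_⟩
  · simp only [GradedAlgebra.proj_apply]
    exact DirectSum.sum_support_decompose 𝒜 b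
  · rw [GradedAlgebra.proj_apply, DFinsupp.notMem_support_iff.mp hd]; rfl

lemma proj_mem_plus {b : B} (hb : b ∈ Bp) (d : ℕ) : GradedAlgebra.proj 𝒜 d b ∈ Bp := by
  rw [mem_plus, proj_of_mem 𝒜 (proj_mem 𝒜 d b)]
  split_ifs with h
  · subst h; exact (mem_plus 𝒜).mp hb
  · rfl

theorem nonempty_equiv [Algebra.FinitePresentation A B]
    (h0 : ∀ b : B, b ∈ 𝒜 0 ↔ b ∈ Set.range (algebraMap A B)) (hinj : Function.Injective (algebraMap A B))
    (hsm : ∀ (P : Ideal B) [P.IsPrime], Bp ≤ P → Algebra.IsSmoothAt A P)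
    [Module.Free A (Bp).Cotangent] [Module.Finite A (Bp).Cotangent] :
    Nonempty (B ≃ₐ[A] MvPolynomial (Fin (Module.finrank A (Bp).Cotangent)) A) := by
  classical
  rcases subsingleton_or_nontrivial A with hA | hA
  · have hB : Subsingleton B := subsingleton_of_zero_eq_one (by
      rw [← map_zero (algebraMap A B), ← map_one (algebraMap A B), Subsingleton.elim (0 : A) 1])
    exact ⟨(AlgEquiv.ofBijective (MvPolynomial.aeval fun _ => (0 : B))
      ⟨fun a b _ => Subsingleton.elim a b, fun b => ⟨0, Subsingleton.elim _ b⟩⟩).symm⟩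
  let M := (Bp).Cotangent
  let tc : Bp →ₗ[A] M := (Bp).toCotangent.restrictScalars A
  have htc : Function.Surjective tc := (Bp).toCotangent_surjective
  let e : Module.Basis (Fin (Module.finrank A M)) A M := Module.finBasis A M
  choose lift hlift using fun i => htc (e i)
  choose S hS hS' using fun i => sum_proj 𝒜 (lift i : B)
  -- components as endomorphisms of the cotangent module
  let comp : ℕ → (Bp →ₗ[A] Bp) := fun d =>
    ((GradedAlgebra.proj 𝒜 d).comp ((Bp).restrictScalars A).subtype).codRestrict ((Bp).restrictScalars A)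
      fun b => proj_mem_plus 𝒜 b.2 d
  have hsq : ∀ (d : ℕ) (b : B), b ∈ (Bp) ^ 2 → GradedAlgebra.proj 𝒜 d b ∈ (Bp) ^ 2 := by
    intro d b hb
    have hh : ((Bp) ^ 2).IsHomogeneous 𝒜 := by
      rw [pow_two]; exact (HomogeneousIdeal.irrelevant 𝒜).isHomogeneous.mul (HomogeneousIdeal.irrelevant 𝒜).isHomogeneous
    rw [GradedAlgebra.proj_apply]; exact hh d hb
  have hker : ∀ d, LinearMap.ker tc ≤ LinearMap.ker (tc.comp (comp d)) := fun d b hb =>
    (Ideal.toCotangent_eq_zero _ _).mpr (hsq d _ ((Ideal.toCotangent_eq_zero _ _).mp hb))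
  let π : ℕ → (M →ₗ[A] M) := fun d =>
    ((LinearMap.ker tc).liftQ (tc.comp (comp d)) (hker d)).comp (tc.quotKerEquivOfSurjective htc).symm.toLinearMap
  have hπ : ∀ d b, π d (tc b) = tc (comp d b) := fun d b => by
    have : (tc.quotKerEquivOfSurjective htc).symm (tc b) = Submodule.Quotient.mk b := by
      rw [LinearEquiv.symm_apply_eq]; rfl
    show ((LinearMap.ker tc).liftQ _ (hker d)) ((tc.quotKerEquivOfSurjective htc).symm (tc b)) = _
    rw [this]; rfl
  let T : Finset ℕ := Finset.univ.biUnion S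
  let s0 : M →ₗ[A] Bp := e.constr A lift
  have hs0 : ∀ x, tc (s0 x) = x := fun x => by
    rw [← LinearMap.comp_apply, show tc.comp s0 = LinearMap.id from e.ext fun i => by
      rw [LinearMap.comp_apply, Module.Basis.constr_basis, hlift]; rfl]
    rfl
  let s : M →ₗ[A] Bp := ∑ d ∈ T, (comp d).comp (s0.comp (π d))
  have hcc : ∀ (d : ℕ) (b : Bp), comp d (comp d b) = comp d b := fun d b => Subtype.ext (by
    show GradedAlgebra.proj 𝒜 d (GradedAlgebra.proj 𝒜 d (b : B)) = GradedAlgebra.proj 𝒜 d (b : B)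
    rw [proj_of_mem 𝒜 (proj_mem 𝒜 d _), if_pos rfl])
  have hs : ∀ x, tc (s x) = x := by
    intro x
    rw [← LinearMap.comp_apply, show tc.comp s = LinearMap.id from e.ext fun i => ?_]
    · rfl
    simp only [LinearMap.comp_apply, LinearMap.id_apply, s, LinearMap.sum_apply, map_sum]
    conv_rhs => rw [← hlift i]
    have hdec : lift i = ∑ d ∈ T, comp d (lift i) := Subtype.ext (by
      rw [AddSubmonoidClass.coe_finsetSum]
      refine (hS i).symm.trans (Finset.sum_subset (fun d hd => Finset.mem_biUnion.mpr ⟨i, Finset.mem_univ _, hd⟩) fun d _ hd => hS' i d hd))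
    conv_rhs => rw [hdec, map_sum]
    refine Finset.sum_congr rfl fun d _ => ?_
    rw [← hπ, hs0, ← hlift i, hπ, hπ, hcc]
  let φ : MvPolynomial (Fin (Module.finrank A M)) A →ₐ[A] B := MvPolynomial.aeval fun i => (s (e i) : B)
  have hsr : ∀ x, (s x : B) ∈ φ.range := fun x => by
    rw [← e.sum_repr x, map_sum, AddSubmonoidClass.coe_finsetSum]
    refine sum_mem fun i _ => ?_
    rw [map_smul]
    exact Subalgebra.smul_mem _ (show (s (e i) : B) ∈ φ.range from ⟨MvPolynomial.X i, MvPolynomial.aeval_X _ i⟩) _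
  have hdeg : ∀ (d : ℕ) (b : Bp), (b : B) ∈ 𝒜 d → ((s (tc b) : Bp) : B) ∈ 𝒜 d := fun d b hb => by
    simp only [s, LinearMap.sum_apply, LinearMap.comp_apply, hπ]
    rw [AddSubmonoidClass.coe_finsetSum]
    refine sum_mem fun j _ => ?_
    by_cases hj : j = d
    · subst hj; exact proj_mem 𝒜 j _
    · rw [show comp j b = 0 from Subtype.ext (by
        show GradedAlgebra.proj 𝒜 j (b : B) = 0
        rw [proj_of_mem 𝒜 hb, if_neg hj]), map_zero, map_zero, map_zero]
      exact zero_mem _
  have hsurj : Function.Surjective φ := by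
    have key : ∀ d, ∀ b ∈ 𝒜 d, b ∈ φ.range := by
      intro d
      induction d using Nat.strong_induction_on with
      | _ d ih =>
        intro b hb
        rcases Nat.eq_zero_or_pos d with rfl | hd
        · obtain ⟨a, rfl⟩ := (h0 b).mp hb
          exact Subalgebra.algebraMap_mem _ a
        · have hbp : b ∈ Bp := by
            rw [mem_plus, proj_of_mem 𝒜 hb, if_neg hd.ne]
          have hc : ((s (tc ⟨b, hbp⟩) : Bp) : B) - b ∈ (Bp) ^ 2 := (Bp).toCotangent_eq.mp (hs (tc ⟨b, hbp⟩))
          have hq : ∀ y ∈ (Bp) ^ 2, GradedAlgebra.proj 𝒜 d y ∈ φ.range := by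
            intro y hy
            rw [pow_two] at hy
            induction hy using Submodule.mul_induction_on' with
            | mem_mul_mem y hy z hz =>
              obtain ⟨Sy, hSy, -⟩ := sum_proj 𝒜 y
              obtain ⟨Sz, hSz, -⟩ := sum_proj 𝒜 z
              rw [← hSy, ← hSz, Finset.sum_mul_sum, map_sum]
              refine sum_mem fun i _ => ?_
              rw [map_sum]
              refine sum_mem fun j _ => ?_
              rw [proj_of_mem 𝒜 (SetLike.mul_mem_graded (proj_mem 𝒜 i y) (proj_mem 𝒜 j z))]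
              split_ifs with he
              · rcases Nat.eq_zero_or_pos i with rfl | hi
                · rw [(mem_plus 𝒜).mp hy, zero_mul]; exact zero_mem _
                rcases Nat.eq_zero_or_pos j with rfl | hj
                · rw [(mem_plus 𝒜).mp hz, mul_zero]; exact zero_mem _
                exact mul_mem (ih i (by omega) _ (proj_mem 𝒜 i y)) (ih j (by omega) _ (proj_mem 𝒜 j z))
              · exact zero_mem _
            | add a _ a' _ h h' => rw [map_add]; exact add_mem h h'
          have h1 := hq _ hc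
          rw [map_sub, proj_of_mem 𝒜 (hdeg d ⟨b, hbp⟩ hb), proj_of_mem 𝒜 hb, if_pos rfl, if_pos rfl] at h1
          have := sub_mem (hsr (tc ⟨b, hbp⟩)) h1
          rwa [sub_sub_cancel] at this
    intro b
    obtain ⟨Sb, hSb, -⟩ := sum_proj 𝒜 b
    obtain ⟨p, hp⟩ := (sum_mem fun d _ => key d _ (proj_mem 𝒜 d b) : (∑ d ∈ Sb, GradedAlgebra.proj 𝒜 d b) ∈ φ.range)
    exact ⟨p, hp.trans hSb⟩
  set m := MvPolynomial.idealOfVars (Fin (Module.finrank A M)) A with hm
  have hmB : ∀ p ∈ m, φ p ∈ Bp := by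
    intro p hp
    have : m ≤ (Bp).comap φ := Ideal.span_le.mpr (by
      rintro _ ⟨i, rfl⟩
      show φ (MvPolynomial.X i) ∈ Bp
      rw [MvPolynomial.aeval_X]; exact (s (e i)).2)
    exact this hp
  have hconst : ∀ p, p - MvPolynomial.C (MvPolynomial.constantCoeff p) ∈ m := fun p => by
    induction p using MvPolynomial.induction_on with
    | C a => simp
    | add p q hp hq =>
      rw [map_add, map_add, add_sub_add_comm]; exact add_mem hp hq
    | mul_X p i _ =>
      rw [map_mul, MvPolynomial.constantCoeff_X, mul_zero, map_zero, sub_zero]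
      exact Ideal.mul_mem_left _ _ (Ideal.subset_span ⟨i, rfl⟩)
  have hφC : ∀ a, φ (MvPolynomial.C a) = algebraMap A B a := fun a => MvPolynomial.aeval_C _ a
  have hkm : RingHom.ker φ ≤ m := by
    intro f hf
    have h1 : algebraMap A B (MvPolynomial.constantCoeff f) ∈ Bp := by
      have := hmB _ (hconst f)
      rwa [map_sub, show φ f = 0 from hf, zero_sub, neg_mem_iff, hφC] at this
    rw [mem_plus, proj_of_mem 𝒜 ((h0 _).mpr ⟨_, rfl⟩), if_pos rfl] at h1
    have h2 : MvPolynomial.constantCoeff f = 0 := hinj (by rw [h1, map_zero])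
    simpa [h2] using hconst f
  have hk2 : RingHom.ker φ ≤ m ^ 2 := by
    intro f hf
    obtain ⟨c, hc⟩ := (Submodule.mem_span_range_iff_exists_fun _).mp (hkm hf)
    let f0 : MvPolynomial (Fin (Module.finrank A M)) A := ∑ i, MvPolynomial.C (MvPolynomial.constantCoeff (c i)) * MvPolynomial.X i
    have hd : f - f0 ∈ m ^ 2 := by
      rw [← hc, ← Finset.sum_sub_distrib]
      refine sum_mem fun i _ => ?_
      rw [smul_eq_mul, ← sub_mul, pow_two]
      exact Ideal.mul_mem_mul (hconst (c i)) (Ideal.subset_span ⟨i, rfl⟩)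
    have hφf0 : φ f0 ∈ (Bp) ^ 2 := by
      have h1 : φ (f - f0) ∈ (Bp) ^ 2 := by
        have : m ^ 2 ≤ ((Bp) ^ 2).comap φ := by
          rw [pow_two, pow_two, Ideal.mul_le]
          intro a ha b hb
          rw [Ideal.mem_comap, map_mul]
          exact Ideal.mul_mem_mul (hmB a ha) (hmB b hb)
        exact this hd
      rwa [map_sub, show φ f = 0 from hf, zero_sub, neg_mem_iff] at h1
    have hz : (∑ i, MvPolynomial.constantCoeff (c i) • e i) = 0 := by
      have : φ f0 = ((∑ i, MvPolynomial.constantCoeff (c i) • s (e i) : Bp) : B) := by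
        rw [AddSubmonoidClass.coe_finsetSum, map_sum]
        refine Finset.sum_congr rfl fun i _ => ?_
        rw [map_mul, hφC, MvPolynomial.aeval_X]
        exact (Algebra.smul_def _ _).symm
      rw [this, ← Ideal.toCotangent_eq_zero] at hφf0
      have h2 : tc (∑ i, MvPolynomial.constantCoeff (c i) • s (e i)) = 0 := hφf0
      rw [map_sum] at h2
      refine (Finset.sum_congr rfl fun i _ => ?_).symm.trans h2
      rw [LinearMap.map_smul, hs]
    have h3 := Fintype.linearIndependent_iff.mp e.linearIndependent _ hz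
    have : f0 = 0 := Finset.sum_eq_zero fun i _ => by rw [h3 i, map_zero, zero_mul]
    simpa [this] using hd
  -- an element congruent to one inverting which makes `B` smooth
  obtain ⟨J, hJ⟩ : ∃ J : Ideal B, (Algebra.smoothLocus A B)ᶜ = PrimeSpectrum.zeroLocus (J : Set B) :=
    (PrimeSpectrum.isClosed_iff_zeroLocus_ideal _).mp Algebra.isOpen_smoothLocus.isClosed_compl
  have htop : J ⊔ Bp = ⊤ := by
    by_contra hne
    obtain ⟨Q, hQ, hle⟩ := Ideal.exists_le_maximal _ hne
    have h1 : (⟨Q, hQ.isPrime⟩ : PrimeSpectrum B) ∈ (Algebra.smoothLocus A B)ᶜ := by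
      rw [hJ]; exact le_sup_left.trans hle
    exact h1 (@hsm Q hQ.isPrime (le_sup_right.trans hle))
  obtain ⟨j, hj, b, hb, hjb⟩ := Submodule.mem_sup.mp (htop ▸ Submodule.mem_top (x := (1 : B)))
  have hbo : ↑(PrimeSpectrum.basicOpen j) ⊆ Algebra.smoothLocus A B := fun p hp => by
    by_contra h
    have : p ∈ (Algebra.smoothLocus A B)ᶜ := h
    rw [hJ] at this
    exact hp (this hj)
  obtain ⟨g, rfl⟩ := hsurj j
  have hg : g - 1 ∈ m := by
    have h1 : algebraMap A B (MvPolynomial.constantCoeff g - 1) ∈ Bp := by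
      have h2 := hmB _ (hconst g)
      rw [map_sub, hφC] at h2
      rw [map_sub, map_one, show algebraMap A B (MvPolynomial.constantCoeff g) - 1 =
        -(φ g - algebraMap A B (MvPolynomial.constantCoeff g)) - b by rw [← hjb]; ring]
      exact sub_mem (neg_mem h2) hb
    rw [mem_plus, proj_of_mem 𝒜 ((h0 _).mpr ⟨_, rfl⟩), if_pos rfl] at h1
    have h3 : MvPolynomial.constantCoeff g = 1 := sub_eq_zero.mp (hinj (by rw [h1, map_zero]))
    simpa [h3] using hconst g
  have hle := le_mul_of_formallySmooth φ hsurj m hk2 g hg (Algebra.basicOpen_subset_smoothLocus_iff.mp hbo)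
  have hpow : ∀ n, RingHom.ker φ ≤ m ^ n := fun n => by
    induction n with
    | zero => simp
    | succ n ih => exact hle.trans (by rw [pow_succ']; exact Ideal.mul_mono_right ih)
  refine ⟨(AlgEquiv.ofBijective φ ⟨(injective_iff_map_eq_zero φ).mpr fun f hf => ?_, hsurj⟩).symm⟩
  ext x
  rw [MvPolynomial.coeff_zero]
  exact (MvPolynomial.mem_pow_idealOfVars_iff' _ f).mp (hpow (Finsupp.degree x + 1) hf) x (Nat.lt_succ_self _)

end Graded

end Groth.Misc15.BB
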