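import Mathlib
import Groth.Prelude.Def_GrSyz
import Groth.Agent.EGA41Two.CMPrime
import Groth.Agent.Calg6.CMSop
import Groth.Agent.LocCohBase.CM
import Groth.Agent.Gorenstein.Regular
import Groth.Agent.GrSyz.Ring

/-! Cohen-Macaulay quotients of regular rings are unmixed; linkage by Gorenstein ideals. -/

set_option autoImplicit false

universe u

open IsLocalRing

namespace Groth.Misc15.Unmixed

section CMRing

variable {R : Type u} [CommRing R] [IsNoetherianRing R] {J : Ideal R}

theorem isPrime_map_mk {Q : Ideal R} [Q.IsPrime] (h : J ≤ Q) :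
    (Q.map (Ideal.Quotient.mk J)).IsPrime :=
  Ideal.map_isPrime_of_surjective Ideal.Quotient.mk_surjective (by rwa [Ideal.mk_ker])

theorem comap_map_mk {Q : Ideal R} (h : J ≤ Q) :
    (Q.map (Ideal.Quotient.mk J)).comap (Ideal.Quotient.mk J) = Q := by
  rw [Ideal.comap_map_of_surjective _ Ideal.Quotient.mk_surjective, ← RingHom.ker_eq_comap_bot,
    Ideal.mk_ker, sup_eq_left.2 h]

theorem exists_annihilated {Q : Ideal R} (hQ : Q ∈ associatedPrimes R (R ⧸ J)) :
    J ≤ Q ∧ ∃ b : R ⧸ J, ∀ r : R, r ∈ Q ↔ Ideal.Quotient.mk J r * b = 0 := by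
  obtain ⟨hQp, b, hb⟩ := isAssociatedPrime_iff.1 hQ
  have h : ∀ r : R, r ∈ Q ↔ Ideal.Quotient.mk J r * b = 0 := fun r => by
    rw [hb, Submodule.mem_colon_singleton, Submodule.mem_bot, Algebra.smul_def]
    rfl
  refine ⟨fun r hr => (h r).2 ?_, b, h⟩
  rw [Ideal.Quotient.eq_zero_iff_mem.2 hr, zero_mul]

theorem maximal_mem_ass {Q : Ideal R} [Q.IsPrime] (h : J ≤ Q) {b : R ⧸ J}
    (hb : ∀ r : R, r ∈ Q ↔ Ideal.Quotient.mk J r * b = 0)
    [(Q.map (Ideal.Quotient.mk J)).IsPrime] :
    maximalIdeal (Localization.AtPrime (Q.map (Ideal.Quotient.mk J))) ∈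
      associatedPrimes (Localization.AtPrime (Q.map (Ideal.Quotient.mk J)))
        (Localization.AtPrime (Q.map (Ideal.Quotient.mk J))) := by
  set q := Q.map (Ideal.Quotient.mk J)
  set C := Localization.AtPrime q
  have hmem : ∀ x : R ⧸ J, x ∈ q ↔ x * b = 0 := fun x => by
    obtain ⟨r, rfl⟩ := Ideal.Quotient.mk_surjective x
    rw [← Ideal.mem_comap, comap_map_mk h, hb]
  haveI : IsNoetherianRing C := IsLocalization.isNoetherianRing q.primeCompl _ inferInstance
  refine isAssociatedPrime_iff.2 ⟨(maximalIdeal.isMaximal C).isPrime, algebraMap _ C b, ?_⟩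
  refine le_antisymm (fun z hz => ?_) (le_maximalIdeal fun htop => ?_)
  · obtain ⟨x, s, rfl⟩ := IsLocalization.exists_mk'_eq q.primeCompl z
    rw [IsLocalization.AtPrime.mk'_mem_maximal_iff (S := Localization.AtPrime q) q, hmem] at hz
    rw [Submodule.mem_colon_singleton, Submodule.mem_bot, smul_eq_mul]
    rw [mul_comm, IsLocalization.mul_mk'_eq_mk'_of_mul, mul_comm, hz, IsLocalization.mk'_zero]
  · have h1 : (1 : C) ∈ (⊥ : Submodule C C).colon {algebraMap (R ⧸ J) C b} := by
      rw [htop]; trivial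
    rw [Submodule.mem_colon_singleton, Submodule.mem_bot, one_smul] at h1
    obtain ⟨c, hc⟩ := (IsLocalization.map_eq_zero_iff q.primeCompl C b).1 h1
    exact c.2 ((hmem c.1).2 hc)

variable [LocCoh.IsCohenMacaulayRing (R ⧸ J)]

theorem isCM_loc (q : Ideal (R ⧸ J)) [q.IsPrime] :
    LocCoh.IsCohenMacaulayModule (Localization.AtPrime q) (Localization.AtPrime q) :=
  (LocCoh.IsCohenMacaulayRing.isCohenMacaulayLocalRing_localization q).supportDim_eq_depth

theorem mem_minimalPrimes_of_ass {Q : Ideal R} (hQ : Q ∈ associatedPrimes R (R ⧸ J)) :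
    Q ∈ J.minimalPrimes := by
  haveI := hQ.isPrime
  obtain ⟨hJQ, b, hb⟩ := exists_annihilated hQ
  haveI := isPrime_map_mk hJQ
  set q := Q.map (Ideal.Quotient.mk J)
  haveI : IsNoetherianRing (Localization.AtPrime q) :=
    IsLocalization.isNoetherianRing q.primeCompl _ inferInstance
  have hmin := LocCohBase.mem_minimalPrimes_of_CM (isCM_loc q) (maximal_mem_ass hJQ hb)
  obtain ⟨P, hP, hPQ⟩ := Ideal.exists_minimalPrimes_le hJQ
  haveI := hP.isPrime
  rwa [← (le_antisymm hPQ ?_ : P = Q)]
  haveI := isPrime_map_mk hP.1.2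
  set p := P.map (Ideal.Quotient.mk J)
  have hdisj : Disjoint (q.primeCompl : Set (R ⧸ J)) p :=
    Set.disjoint_left.2 fun x hx hxp => hx (Ideal.map_mono hPQ hxp)
  have hp' := IsLocalization.isPrime_of_isPrime_disjoint q.primeCompl (Localization.AtPrime q) p
    inferInstance hdisj
  have hle : maximalIdeal (Localization.AtPrime q) ≤
      p.map (algebraMap _ (Localization.AtPrime q)) := by
    refine hmin.2 ⟨hp', ?_⟩ (IsLocalRing.le_maximalIdeal hp'.ne_top)
    rw [Module.annihilator_eq_bot.2 inferInstance]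
    exact bot_le
  intro r hr
  rw [← comap_map_mk hP.1.2, Ideal.mem_comap]
  show _ ∈ p
  rw [← IsLocalization.under_map_of_isPrime_disjoint q.primeCompl (Localization.AtPrime q)
      (inferInstanceAs p.IsPrime) hdisj]
  exact hle ((IsLocalization.AtPrime.to_map_mem_maximal_iff _ q _).2 (Ideal.mem_map_of_mem _ hr))

omit [LocCoh.IsCohenMacaulayRing (R ⧸ J)] in
theorem mem_ass_of_minimal {Q : Ideal R} (hQ : Q ∈ J.minimalPrimes) :
    Q ∈ associatedPrimes R (R ⧸ J) :=
  Module.associatedPrimes.minimalPrimes_annihilator_subset_associatedPrimes R (R ⧸ J)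
    (by rwa [Ideal.annihilator_quotient])

theorem regular_dim_formula (A : Type u) [CommRing A] [IsRegularLocalRing A] (P : Ideal A)
    [P.IsPrime] : ringKrullDim A = ringKrullDim (A ⧸ P) + (P.height : WithBot ℕ∞) := by
  have hCM := Groth.Calg6.isCohenMacaulayModule_of_isRegularLocalRing A
  have hnt : Nontrivial (LocalizedModule P.primeCompl A) :=
    (IsLocalization.algEquiv P.primeCompl (Localization.AtPrime P)
      (LocalizedModule P.primeCompl A)).toEquiv.symm.nontrivial
  have hsupp : (⟨P, inferInstance⟩ : PrimeSpectrum A) ∈ Module.support A A :=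
    Module.mem_support_iff.2 hnt
  have hfin : LocCoh.idealDepth P A ≠ ⊤ := by
    obtain ⟨n, hn⟩ := LocCohBase.exists_depth_eq (R := A) A
    intro h
    have hle : LocCoh.idealDepth P A ≤ LocCoh.idealDepth (maximalIdeal A) A :=
      LocCohBase.idealDepth_mono ((IsLocalRing.le_maximalIdeal (Ideal.IsPrime.ne_top ‹_›)).trans Ideal.le_radical) A
    rw [h, show LocCoh.idealDepth (maximalIdeal A) A = n from hn] at hle
    exact ENat.natCast_ne_top n (top_le_iff.1 hle)
  obtain ⟨n, hn⟩ := ENat.ne_top_iff_exists.1 hfin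
  have h1 := EGA41Two.supportDim_localized_eq_idealDepth n A hCM P hnt hn.symm
  have h2 := LocCohBase.supportDim_eq_add_idealDepth (Ideal.IsPrime.ne_top ‹_›) n A hCM hn.symm
  rw [EGA41Two.supportDim_quotient_smul_top ⟨P, inferInstance⟩ hsupp,
    Module.supportDim_self_eq_ringKrullDim] at h2
  have h3 : (n : WithBot ℕ∞) = P.height := by
    rw [← IsLocalization.AtPrime.ringKrullDim_eq_height P (Localization.AtPrime P), ← h1,
      ← Module.supportDim_self_eq_ringKrullDim]
  rw [h2, h3]

theorem height_eq [IsRegularRing R] {Q P : Ideal R} [Q.IsPrime] (hJQ : J ≤ Q)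
    (hP : P ∈ J.minimalPrimes) (hPQ : P ≤ Q) [(Q.map (Ideal.Quotient.mk J)).IsPrime] :
    (Q.height : WithBot ℕ∞) =
      ringKrullDim (Localization.AtPrime (Q.map (Ideal.Quotient.mk J))) + (P.height : WithBot ℕ∞) := by
  haveI := hP.isPrime
  set q := Q.map (Ideal.Quotient.mk J)
  set A := Localization.AtPrime Q
  set C := Localization.AtPrime q
  haveI : IsRegularLocalRing A := (isRegularRing_iff.1 ‹_›) Q
  haveI : IsNoetherianRing C := IsLocalization.isNoetherianRing q.primeCompl _ inferInstance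
  have hdisj : Disjoint (Q.primeCompl : Set R) P :=
    Set.disjoint_left.2 fun x hx hxp => hx (hPQ hxp)
  haveI hPA : (P.map (algebraMap R A)).IsPrime :=
    IsLocalization.isPrime_of_isPrime_disjoint Q.primeCompl A P inferInstance hdisj
  have hht : (P.map (algebraMap R A)).height = P.height := by
    rw [← IsLocalization.height_under Q.primeCompl,
      IsLocalization.under_map_of_isPrime_disjoint Q.primeCompl A inferInstance hdisj]
  haveI := isPrime_map_mk hP.1.2
  set p := P.map (Ideal.Quotient.mk J)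
  have hdisj' : Disjoint (q.primeCompl : Set (R ⧸ J)) p :=
    Set.disjoint_left.2 fun x hx hxp => hx (Ideal.map_mono hPQ hxp)
  haveI hpC : (p.map (algebraMap _ C)).IsPrime :=
    IsLocalization.isPrime_of_isPrime_disjoint q.primeCompl C p inferInstance hdisj'
  let g : R →+* C := (algebraMap _ C).comp (Ideal.Quotient.mk J)
  have hu : ∀ y : Q.primeCompl, IsUnit (g y) := fun y => by
    refine IsLocalization.map_units C (⟨Ideal.Quotient.mk J y, fun h => y.2 ?_⟩ : q.primeCompl)
    exact (comap_map_mk hJQ).le h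
  let F : A →+* C := IsLocalization.lift hu
  have hF : Function.Surjective F := by
    intro z
    obtain ⟨⟨s, d⟩, hsd⟩ := IsLocalization.surj q.primeCompl z
    obtain ⟨r, rfl⟩ := Ideal.Quotient.mk_surjective s
    obtain ⟨e, he⟩ := Ideal.Quotient.mk_surjective d.1
    have hep : e ∈ Q.primeCompl := fun h' => d.2 (he ▸ Ideal.mem_map_of_mem _ h')
    refine ⟨IsLocalization.mk' _ r ⟨e, hep⟩, ?_⟩
    rw [IsLocalization.lift_mk'_spec]
    show algebraMap _ C (Ideal.Quotient.mk J r) = algebraMap _ C (Ideal.Quotient.mk J e) * z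
    rw [he, mul_comm]; exact hsd.symm
  have hcomap : (p.map (algebraMap _ C)).comap F = P.map (algebraMap R A) := by
    rw [← IsLocalization.map_under Q.primeCompl A ((p.map (algebraMap _ C)).comap F),
      Ideal.under_def, Ideal.comap_comap, IsLocalization.lift_comp]
    show ((Ideal.map (algebraMap _ C) p).comap g).map _ = _
    rw [← Ideal.comap_comap, ← Ideal.under_def,
      IsLocalization.under_map_of_isPrime_disjoint q.primeCompl C inferInstance hdisj',
      comap_map_mk hP.1.2]
  let π : A →+* C ⧸ p.map (algebraMap _ C) := (Ideal.Quotient.mk _).comp F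
  have hker : RingHom.ker π = P.map (algebraMap R A) := by
    rw [← hcomap, RingHom.ker_eq_comap_bot, ← Ideal.comap_comap, ← RingHom.ker_eq_comap_bot,
      Ideal.mk_ker]
  have e : (A ⧸ P.map (algebraMap R A)) ≃+* (C ⧸ p.map (algebraMap _ C)) :=
    (Ideal.quotEquivOfEq hker.symm).trans
      (RingHom.quotientKerEquivOfSurjective (Ideal.Quotient.mk_surjective.comp hF))
  have hmin : p.map (algebraMap _ C) ∈ minimalPrimes C := by
    refine ⟨⟨hpC, bot_le⟩, fun I ⟨hI, _⟩ hle => ?_⟩
    haveI := hI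
    rw [← IsLocalization.map_under q.primeCompl C I]
    refine Ideal.map_mono ?_
    have hIle : I.under (R ⧸ J) ≤ p := by
      rw [← IsLocalization.under_map_of_isPrime_disjoint q.primeCompl C (inferInstanceAs p.IsPrime) hdisj']
      exact Ideal.comap_mono hle
    have hIc : (I.under (R ⧸ J)).comap (Ideal.Quotient.mk J) = P := by
      refine le_antisymm ?_ (hP.2 ⟨inferInstance, ?_⟩ ?_)
      · rw [← comap_map_mk hP.1.2]; exact Ideal.comap_mono hIle
      · intro x hx
        rw [Ideal.mem_comap, Ideal.Quotient.eq_zero_iff_mem.2 hx]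
        exact zero_mem _
      · rw [← comap_map_mk hP.1.2]; exact Ideal.comap_mono hIle
    show P.map _ ≤ _
    rw [← hIc, Ideal.map_comap_of_surjective _ Ideal.Quotient.mk_surjective]
  have hass : p.map (algebraMap _ C) ∈ associatedPrimes C C :=
    Module.associatedPrimes.minimalPrimes_annihilator_subset_associatedPrimes C C
      (by rwa [Module.annihilator_eq_bot.2 inferInstance])
  have h1 := LocCohBase.ringKrullDim_quotient_eq_of_CM (isCM_loc q) hass
  rw [Module.supportDim_self_eq_ringKrullDim, ← ringKrullDim_eq_of_ringEquiv e] at h1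
  rw [← IsLocalization.AtPrime.ringKrullDim_eq_height Q A,
    regular_dim_formula A (P.map (algebraMap R A)), hht, h1]

theorem height_eq_of_ass [IsRegularRing R] {c : ℕ∞}
    (hmin : ∀ P ∈ J.minimalPrimes, P.height = c) :
    ∀ Q ∈ associatedPrimes R (R ⧸ J), Q.height = c :=
  fun Q hQ => hmin Q (mem_minimalPrimes_of_ass hQ)

/-- Associated primes of `R/(J+(f))` have height one more, for `f` regular modulo `J`. -/
theorem height_ass_sup_span [IsRegularRing R] {h : ℕ}
    (hmin : ∀ P ∈ J.minimalPrimes, P.height = h) {f : R}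
    (hf : ∀ r, f * r ∈ J → r ∈ J) {Q : Ideal R}
    (hQ : Q ∈ associatedPrimes R (R ⧸ (J ⊔ Ideal.span {f}))) : Q.height = h + 1 := by
  haveI := hQ.isPrime
  obtain ⟨hle, b, hb⟩ := exists_annihilated hQ
  obtain ⟨y, rfl⟩ := Ideal.Quotient.mk_surjective b
  have hb' : ∀ r, r ∈ Q ↔ r * y ∈ J ⊔ Ideal.span {f} := fun r => by
    rw [hb, ← map_mul, Ideal.Quotient.eq_zero_iff_mem]
  have hJQ : J ≤ Q := le_sup_left.trans hle
  have hfQ : f ∈ Q := hle (le_sup_right (α := Ideal R) (Ideal.mem_span_singleton_self f))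
  haveI := isPrime_map_mk hJQ
  obtain ⟨P, hP, hPQ⟩ := Ideal.exists_minimalPrimes_le hJQ
  haveI := hP.isPrime
  have hlt : P < Q := lt_of_le_of_ne hPQ fun e => by
    obtain ⟨-, b', hb''⟩ := exists_annihilated (mem_ass_of_minimal hP)
    obtain ⟨y', rfl⟩ := Ideal.Quotient.mk_surjective b'
    have h1 := (hb'' f).1 (e ▸ hfQ)
    rw [← map_mul, Ideal.Quotient.eq_zero_iff_mem] at h1
    have hy' := hf y' h1
    exact (‹P.IsPrime›).one_notMem ((hb'' 1).2 (by rw [Ideal.Quotient.eq_zero_iff_mem.2 hy', mul_zero]))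
  have hge : (h : ℕ∞) + 1 ≤ Q.height := hmin P hP ▸ Ideal.height_add_one_le_of_lt_of_isPrime hlt
  set q := Q.map (Ideal.Quotient.mk J)
  set C := Localization.AtPrime q
  haveI : IsNoetherianRing C := IsLocalization.isNoetherianRing q.primeCompl _ inferInstance
  set φ : R →+* C := (algebraMap _ C).comp (Ideal.Quotient.mk J) with hφ
  have hmemq : ∀ r, Ideal.Quotient.mk J r ∈ q ↔ r ∈ Q := fun r => by
    rw [← Ideal.mem_comap, comap_map_mk hJQ]
  have hreg : IsSMulRegular C (φ f) := by
    refine (isSMulRegular_iff_right_eq_zero_of_smul (R := C) (M := C)).2 fun z hz => ?_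
    obtain ⟨x, s, rfl⟩ := IsLocalization.exists_mk'_eq q.primeCompl z
    rw [smul_eq_mul, hφ, RingHom.comp_apply, IsLocalization.mul_mk'_eq_mk'_of_mul,
      IsLocalization.mk'_eq_zero_iff] at hz
    obtain ⟨c, hc⟩ := hz
    obtain ⟨r, rfl⟩ := Ideal.Quotient.mk_surjective x
    obtain ⟨e, he⟩ := Ideal.Quotient.mk_surjective c.1
    rw [← he, ← map_mul, ← map_mul, Ideal.Quotient.eq_zero_iff_mem, ← mul_assoc, mul_comm e,
      mul_assoc] at hc
    rw [IsLocalization.mk'_eq_zero_iff]
    exact ⟨c, by rw [← he, ← map_mul, Ideal.Quotient.eq_zero_iff_mem]; exact hf _ hc⟩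
  have hfm : φ f ∈ maximalIdeal C :=
    (IsLocalization.AtPrime.to_map_mem_maximal_iff _ q _).2 ((hmemq f).2 hfQ)
  have hdepth : LocCoh.depth C (QuotSMulTop (φ f) C) = 0 := by
    by_contra h0
    have hone : (1 : ℕ∞) ≤ LocCoh.idealDepth (maximalIdeal C) (QuotSMulTop (φ f) C) :=
      ENat.one_le_iff_ne_zero.2 h0
    haveI : Nontrivial (QuotSMulTop (φ f) C) :=
      Submodule.Quotient.nontrivial_iff.2 fun e =>
        Submodule.top_ne_pointwise_smul_of_mem_jacobson_annihilator
          (maximalIdeal_le_jacobson _ hfm) e.symm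
    obtain ⟨x, hx, hxreg⟩ := LocCohBase.exists_regular_of_one_le
      (LocCohBase.smul_maximalIdeal_ne_top _ (maximalIdeal.isMaximal C).ne_top) hone
    obtain ⟨x', s, rfl⟩ := IsLocalization.exists_mk'_eq q.primeCompl x
    rw [IsLocalization.AtPrime.mk'_mem_maximal_iff (S := Localization.AtPrime q) q] at hx
    obtain ⟨r, rfl⟩ := Ideal.Quotient.mk_surjective x'
    obtain ⟨j, hj, z, hz, hjz⟩ := Submodule.mem_sup.1 ((hb' r).1 ((hmemq r).1 hx))
    obtain ⟨w, rfl⟩ := Ideal.mem_span_singleton'.1 hz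
    have hy0 : (Submodule.Quotient.mk (φ y) : QuotSMulTop (φ f) C) = 0 := by
      refine (isSMulRegular_iff_right_eq_zero_of_smul).1 hxreg _ ?_
      rw [← Submodule.Quotient.mk_smul, Submodule.Quotient.mk_eq_zero,
        Submodule.mem_smul_pointwise_iff_exists]
      refine ⟨IsLocalization.mk' C (Ideal.Quotient.mk J w) s, Submodule.mem_top, ?_⟩
      rw [smul_eq_mul, smul_eq_mul, hφ, RingHom.comp_apply, RingHom.comp_apply,
        IsLocalization.mul_mk'_eq_mk'_of_mul, mul_comm (IsLocalization.mk' C _ s),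
        IsLocalization.mul_mk'_eq_mk'_of_mul, ← map_mul, ← map_mul]
      congr 1
      rw [Ideal.Quotient.eq, show f * w - y * r = -j by linear_combination hjz]
      exact neg_mem hj
    rw [Submodule.Quotient.mk_eq_zero, Submodule.mem_smul_pointwise_iff_exists] at hy0
    obtain ⟨z, -, hz⟩ := hy0
    obtain ⟨x', s', rfl⟩ := IsLocalization.exists_mk'_eq q.primeCompl z
    obtain ⟨v, rfl⟩ := Ideal.Quotient.mk_surjective x'
    rw [smul_eq_mul, hφ, RingHom.comp_apply, RingHom.comp_apply,
      IsLocalization.mul_mk'_eq_mk'_of_mul, IsLocalization.mk'_eq_iff_eq_mul, ← map_mul,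
      ← map_mul, IsLocalization.eq_iff_exists q.primeCompl] at hz
    obtain ⟨c, hc⟩ := hz
    obtain ⟨e, he⟩ := Ideal.Quotient.mk_surjective c.1
    obtain ⟨d, hd⟩ := Ideal.Quotient.mk_surjective s'.1
    rw [← he, ← hd, ← map_mul, ← map_mul, ← map_mul, Ideal.Quotient.eq] at hc
    have h' : e * d ∈ Q := (hb' _).2 (by
      rw [show e * d * y = e * v * f + (-(e * (f * v) - e * (y * d))) by ring]
      exact add_mem (Ideal.mem_sup_right (Ideal.mem_span_singleton'.2 ⟨_, rfl⟩))
        (Ideal.mem_sup_left (neg_mem hc)))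
    rcases Ideal.IsPrime.mem_or_mem ‹_› h' with h'' | h''
    · exact c.2 (he ▸ (hmemq e).2 h'')
    · exact s'.2 (hd ▸ (hmemq d).2 h'')
  have hdC : LocCoh.depth C C = 1 := by
    have h1 := LocCohBase.idealDepth_quotSMulTop_add_one (maximalIdeal C) C
      (LocCohBase.smul_maximalIdeal_ne_top C (maximalIdeal.isMaximal C).ne_top) hfm hreg
    rw [show LocCoh.idealDepth (maximalIdeal C) (QuotSMulTop (φ f) C) = 0 from hdepth, zero_add] at h1
    exact h1.symm
  have hdim : ringKrullDim C = 1 := by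
    rw [← Module.supportDim_self_eq_ringKrullDim (R := C),
      show Module.supportDim C C = _ from isCM_loc q, hdC]
    rfl
  have := height_eq hJQ hP hPQ
  rw [hdim, hmin P hP, add_comm] at this
  exact_mod_cast this

end CMRing

theorem height_eq_of_forall {R : Type u} [CommRing R] [IsNoetherianRing R] {K : Ideal R}
    (hK : K ≠ ⊤) {c : ℕ∞} (h : ∀ p ∈ associatedPrimes R (R ⧸ K), p.height = c) : K.height = c := by
  rw [Ideal.height_eq_inf_minimalPrimes]
  have hall : ∀ p ∈ K.minimalPrimes, p.height = c := fun p hp => h p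
    (Module.associatedPrimes.minimalPrimes_annihilator_subset_associatedPrimes R (R ⧸ K)
      (by rwa [Ideal.annihilator_quotient]))
  obtain ⟨p, hp⟩ := K.nonempty_minimalPrimes hK
  exact le_antisymm ((iInf₂_le p hp).trans (hall p hp).le) (le_iInf₂ fun q hq => (hall q hq).ge)

/-- Associated primes of `R/(c : I)` are associated primes of `R/c`. -/
theorem ass_colon {R : Type u} [CommRing R] [IsNoetherianRing R] (c I : Ideal R) :
    associatedPrimes R (R ⧸ c.colon (I : Set R)) ⊆ associatedPrimes R (R ⧸ c) := by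
  obtain ⟨s, hs⟩ := (IsNoetherian.noetherian I : I.FG)
  let f : R →ₗ[R] (s → R ⧸ c) :=
    LinearMap.pi fun g => LinearMap.toSpanSingleton R (R ⧸ c) (Ideal.Quotient.mk c g.1)
  have hker : c.colon (I : Set R) = LinearMap.ker f := by
    ext r
    simp only [LinearMap.mem_ker, Submodule.mem_colon, funext_iff, f, LinearMap.pi_apply,
      Pi.zero_apply, LinearMap.toSpanSingleton_apply, Algebra.smul_def,
      Ideal.Quotient.algebraMap_eq, ← map_mul, Ideal.Quotient.eq_zero_iff_mem, Subtype.forall,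
      Algebra.algebraMap_self, RingHom.id_apply, SetLike.mem_coe]
    refine ⟨fun h g hg => h g (hs ▸ Submodule.subset_span hg), fun h g hg => ?_⟩
    rw [← hs] at hg
    induction hg using Submodule.span_induction with
    | mem x hx => exact h x hx
    | zero => rw [mul_zero]; exact zero_mem _
    | add x y _ _ hx hy => rw [mul_add]; exact add_mem hx hy
    | smul a x _ hx => rw [smul_eq_mul, mul_left_comm]; exact c.mul_mem_left a hx
  intro Q hQ
  have h1 : Q ∈ associatedPrimes R (s → R ⧸ c) :=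
    associatedPrimes.subset_of_injective
      (f := Submodule.liftQ (c.colon (I : Set R)) f hker.le)
      (LinearMap.ker_eq_bot.1 (Submodule.ker_liftQ_eq_bot _ _ _ hker.ge)) hQ
  obtain ⟨hQp, b, hb⟩ := isAssociatedPrime_iff.1 h1
  haveI := hQp
  have hinf : (Finset.univ : Finset s).inf (fun g => (⊥ : Submodule R (R ⧸ c)).colon {b g}) ≤ Q := by
    intro r hr
    rw [Submodule.mem_finsetInf] at hr
    rw [hb, Submodule.mem_colon_singleton, Submodule.mem_bot]
    funext g
    have := hr g (Finset.mem_univ g)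
    rwa [Submodule.mem_colon_singleton, Submodule.mem_bot] at this
  obtain ⟨g, -, hg⟩ := (Ideal.IsPrime.inf_le' hQp).1 hinf
  refine isAssociatedPrime_iff.2 ⟨hQp, b g, le_antisymm (fun r hr => ?_) hg⟩
  rw [hb, Submodule.mem_colon_singleton, Submodule.mem_bot] at hr
  rw [Submodule.mem_colon_singleton, Submodule.mem_bot]
  exact congrFun hr g

section Poly

variable {K : Type u} [Field K] {σ : Type u}

theorem minimal_homogeneous {n : ℕ} {J : Ideal (MvPolynomial (Fin n) K)}
    (hJ : J.IsHomogeneous (GrSyz.stdGr K (Fin n))) {P : Ideal (MvPolynomial (Fin n) K)}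
    (hP : P ∈ J.minimalPrimes) : P.IsHomogeneous (GrSyz.stdGr K (Fin n)) := by
  haveI := hP.isPrime
  have hle : (P.homogeneousCore (GrSyz.stdGr K (Fin n))).toIdeal ≤ P :=
    Ideal.toIdeal_homogeneousCore_le _ P
  have hJle : J ≤ (P.homogeneousCore (GrSyz.stdGr K (Fin n))).toIdeal := by
    rw [← hJ.toIdeal_homogeneousCore_eq_self]
    exact Ideal.homogeneousCore_mono _ hP.1.2
  have := hP.2 ⟨hP.isPrime.homogeneousCore, hJle⟩ hle
  rw [le_antisymm this hle]
  exact HomogeneousIdeal.isHomogeneous _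

theorem le_origin {n : ℕ} {P : Ideal (MvPolynomial (Fin n) K)} [P.IsPrime]
    (hP : P.IsHomogeneous (GrSyz.stdGr K (Fin n))) :
    P ≤ RingHom.ker (MvPolynomial.constantCoeff : MvPolynomial (Fin n) K →+* K) := by
  intro x hx
  classical
  rw [RingHom.mem_ker, ← DirectSum.sum_support_decompose (GrSyz.stdGr K (Fin n)) x, map_sum]
  refine Finset.sum_eq_zero fun g _ => ?_
  have hmem : (DirectSum.decompose (GrSyz.stdGr K (Fin n)) x g : MvPolynomial (Fin n) K) ∈ P :=
    hP g hx
  by_cases hg : g = 0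
  · subst hg
    have h0 := Groth.GrSyzLib.eq_C_of_mem_zero (DirectSum.decompose (GrSyz.stdGr K (Fin n)) x 0).2
    by_contra hne
    apply (‹P.IsPrime›).ne_top
    rw [h0] at hmem
    exact Ideal.eq_top_of_isUnit_mem _ hmem
      ((IsUnit.mk0 _ hne).map MvPolynomial.C)
  · exact Groth.GrSyzLib.constantCoeff_eq_zero_of_ne hg (DirectSum.decompose _ x g).2

/-- A Cohen-Macaulay quotient by a homogeneous ideal of a polynomial ring is unmixed. -/
theorem unmixed {n : ℕ} {J : Ideal (MvPolynomial (Fin n) K)}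
    (hJ : J.IsHomogeneous (GrSyz.stdGr K (Fin n)))
    [LocCoh.IsCohenMacaulayRing (MvPolynomial (Fin n) K ⧸ J)] :
    ∀ P ∈ J.minimalPrimes, P.height = J.height := by
  intro P hP
  set m := RingHom.ker (MvPolynomial.constantCoeff : MvPolynomial (Fin n) K →+* K)
  haveI : m.IsPrime := RingHom.ker_isPrime _
  have key : ∀ P' ∈ J.minimalPrimes, P'.height = P.height := by
    intro P' hP'
    haveI := hP.isPrime
    haveI := hP'.isPrime
    have hPm := le_origin (minimal_homogeneous hJ hP)
    have hJm : J ≤ m := hP.1.2.trans hPm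
    haveI := isPrime_map_mk hJm
    have h1 := height_eq hJm hP' (le_origin (minimal_homogeneous hJ hP'))
    rw [height_eq hJm hP hPm] at h1
    set C := Localization.AtPrime (m.map (Ideal.Quotient.mk J))
    haveI : IsNoetherianRing C := IsLocalization.isNoetherianRing
      (m.map (Ideal.Quotient.mk J)).primeCompl _ inferInstance
    obtain ⟨d, hd⟩ := LocCohBase.exists_depth_eq (R := C) C
    have hdim : ringKrullDim C = (d : WithBot ℕ∞) := by
      rw [← Module.supportDim_self_eq_ringKrullDim (R := C),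
        show Module.supportDim C C = _ from isCM_loc _, hd]
      rfl
    rw [hdim] at h1
    have : (d : ℕ∞) + P.height = (d : ℕ∞) + P'.height := by exact_mod_cast h1
    exact ((ENat.addLECancellable_of_ne_top (ENat.natCast_ne_top d)).inj).1 this |>.symm
  conv_rhs => rw [Ideal.height_eq_inf_minimalPrimes]
  exact le_antisymm (le_iInf₂ fun q hq => (key q hq).ge) (iInf₂_le P hP)

end Poly

end Groth.Misc15.Unmixed
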