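import Mathlib
import Groth.Prelude.Def_W4c5quivmodgenus0Quiv

/-! The contraction comparing the two quivers of pointed genus zero curves. -/

set_option autoImplicit false

namespace Groth.Misc15.Contract

open PtQuiv

variable {K : Type*} [Field K] {κ : Type*} [Fintype κ] [DecidableEq κ] {a b : κ} (hab : a ≠ b)
  {s : κ → (Fin 2 → K)} {θ : κ → ℚ} (h0 : ∀ i, 0 ≤ θ i) (h1 : ∀ i, θ i ≤ 1) (h2 : ∑ i, θ i = 2)
  (hθ : 1 < θ a + θ b) (hθ' : θ a + θ b < 2)

/-- The weight at the sinks. -/
abbrev eta (θ : κ → ℚ) (a b : κ) : Fin 2 → ℚ :=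
  ![(2 - θ a - θ b)⁻¹ * (θ a - 1), (2 - θ a - θ b)⁻¹ * (θ b - 1)]

/-- The weight at the remaining sources. -/
abbrev theta (θ : κ → ℚ) (a b : κ) : {i : κ // i ≠ a ∧ i ≠ b} → ℚ :=
  fun i => (2 - θ a - θ b)⁻¹ * θ i.1

theorem eb (U : Submodule K K) : U = ⊥ ∨ U = ⊤ := Ideal.eq_bot_or_top U

theorem bot_ne_top' : (⊥ : Submodule K K) ≠ ⊤ := fun h =>
  one_ne_zero ((Submodule.mem_bot K).1 (h ▸ Submodule.mem_top (x := (1 : K))))

open scoped Classical in
theorem finrank_eq_ite (U : Submodule K K) :
    (Module.finrank K U : ℚ) = if U = ⊤ then 1 else 0 := by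
  rcases eb U with h | h
  · rw [h, if_neg bot_ne_top', finrank_bot, Nat.cast_zero]
  · rw [h, if_pos rfl, finrank_top, Module.finrank_self, Nat.cast_one]

include hab in
theorem sum_split (f : κ → ℚ) (I : Finset κ) :
    ∑ i ∈ I, f i = (if a ∈ I then f a else 0) + (if b ∈ I then f b else 0) +
      ∑ i ∈ I.subtype (fun i => i ≠ a ∧ i ≠ b), f i.1 := by
  rw [Finset.sum_subtype_eq_sum_filter, Finset.sum_filter]
  have h : ∀ i ∈ I, f i = (if i = a then f i else 0) + (if i = b then f i else 0) +
      (if i ≠ a ∧ i ≠ b then f i else 0) := by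
    intro i _
    by_cases ha : i = a
    · subst ha; simp [hab]
    · by_cases hb : i = b
      · subst hb; simp [ha]
      · simp [ha, hb]
  rw [Finset.sum_congr rfl h, Finset.sum_add_distrib, Finset.sum_add_distrib, Finset.sum_ite_eq',
    Finset.sum_ite_eq']

include hab h2 hθ' in
theorem total : (∑ j, eta θ a b j) + ∑ i, theta θ a b i = 0 := by
  have hD : 2 - θ a - θ b ≠ 0 := by linarith
  have h := sum_split hab θ Finset.univ
  simp only [Finset.mem_univ, if_true, Finset.subtype_univ, h2] at h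
  rw [Fin.sum_univ_two, ← Finset.mul_sum, ← mul_right_inj' hD]
  simp only [eta, Matrix.cons_val_zero, Matrix.cons_val_one]
  field_simp
  linarith

include hθ' in
open scoped Classical in
theorem mul_pwt (U : Fin 2 → Submodule K K) (I : Finset {i : κ // i ≠ a ∧ i ≠ b}) :
    (2 - θ a - θ b) * PWt K (eta θ a b) (theta θ a b) U I =
      (if U 0 = ⊤ then θ a - 1 else 0) + (if U 1 = ⊤ then θ b - 1 else 0) + ∑ i ∈ I, θ i.1 := by
  have hD : 2 - θ a - θ b ≠ 0 := by linarith
  rw [PWt, Fin.sum_univ_two, finrank_eq_ite, finrank_eq_ite]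
  simp only [eta, theta, Matrix.cons_val_zero, Matrix.cons_val_one, ← Finset.mul_sum]
  field_simp
  split_ifs <;> ring

include h1 hθ in
theorem pos_a : 0 < θ a := by linarith [h1 b]

include h1 hθ in
theorem pos_b : 0 < θ b := by linarith [h1 a]

include hθ in
/-- The two marked vectors form a basis. -/
theorem li (hs : QSemistable (-1) θ s) (hab : a ≠ b) : LinearIndependent K ![s a, s b] := by
  classical
  by_contra h
  obtain ⟨L, hL, haL, hbL⟩ : ∃ L : Submodule K (Fin 2 → K), Module.finrank K L ≤ 1 ∧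
      s a ∈ L ∧ s b ∈ L := by
    refine ⟨Submodule.span K (Set.range ![s a, s b]), ?_,
      Submodule.subset_span ⟨0, rfl⟩, Submodule.subset_span ⟨1, rfl⟩⟩
    have h' := (linearIndependent_iff_card_eq_finrank_span (b := ![s a, s b])).not.1 h
    have hle := finrank_range_le_card (R := K) ![s a, s b]
    simp only [Set.finrank, Fintype.card_fin] at h' hle
    omega
  have hI : QSubrep s L {a, b} := fun i hi => by
    rcases Finset.mem_insert.1 hi with rfl | hi
    · exact haL
    · rw [Finset.mem_singleton.1 hi]; exact hbL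
  have hw := hs.2 L {a, b} hI
  rw [QWt, Finset.sum_pair hab] at hw
  have : (Module.finrank K L : ℚ) ≤ 1 := by exact_mod_cast hL
  linarith

open scoped Classical in
include hab hθ' in
/-- From a subrepresentation of the small quiver to one of the big quiver. -/
theorem toQ (hli : LinearIndependent K ![s a, s b]) {t : {i : κ // i ≠ a ∧ i ≠ b} → (Fin 2 → K)}
    (ht : ∀ i, s i.1 = t i 0 • s a + t i 1 • s b) (U : Fin 2 → Submodule K K)
    (I : Finset {i : κ // i ≠ a ∧ i ≠ b}) (hU : PSubrep t U I) :
    ∃ (L : Submodule K (Fin 2 → K)) (J : Finset κ), QSubrep s L J ∧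
      QWt K (-1) θ L J = (2 - θ a - θ b) * PWt K (eta θ a b) (theta θ a b) U I ∧
      (L = ⊥ ∧ J = ∅ → U = ⊥ ∧ I = ∅) ∧
      (L = ⊤ ∧ J = Finset.univ → U = ⊤ ∧ I = Finset.univ) := by
  set v := ![s a, s b] with hv
  let S : Finset (Fin 2) := Finset.univ.filter fun j => U j = ⊤
  set L := Submodule.span K (v '' (S : Set (Fin 2))) with hL
  set J : Finset κ := (if U 0 = ⊤ then {a} else ∅) ∪ (if U 1 = ⊤ then {b} else ∅) ∪
    I.map (Function.Embedding.subtype _) with hJdef
  have hvS : ∀ j, U j = ⊤ → v j ∈ L := fun j hj =>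
    Submodule.subset_span ⟨j, by simp [S, hj], rfl⟩
  have hdim : Module.finrank K L = S.card := by
    have hinj : Function.Injective v := hli.injective
    have := finrank_span_set_eq_card (s := v '' (S : Set (Fin 2)))
      ((hli.linearIndepOn_id.mono (Set.image_subset_range _ _)))
    rw [hL, this, Set.toFinset_image, Finset.toFinset_coe,
      Finset.card_image_of_injective _ hinj]
  have haJ : a ∈ J ↔ U 0 = ⊤ := by
    simp only [hJdef, Finset.mem_union, Finset.mem_map, Function.Embedding.subtype_apply]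
    constructor
    · rintro ((h | h) | ⟨i, -, h⟩)
      · by_contra h'; simp [h'] at h
      · split_ifs at h <;> simp [hab] at h
      · exact absurd h i.2.1
    · intro h; simp [h]
  have hbJ : b ∈ J ↔ U 1 = ⊤ := by
    simp only [hJdef, Finset.mem_union, Finset.mem_map, Function.Embedding.subtype_apply]
    constructor
    · rintro ((h | h) | ⟨i, -, h⟩)
      · split_ifs at h <;> simp [hab.symm] at h
      · by_contra h'; simp [h'] at h
      · exact absurd h i.2.2
    · intro h; simp [h]
  have hsub : J.subtype (fun i => i ≠ a ∧ i ≠ b) = I := by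
    ext i
    simp only [Finset.mem_subtype, hJdef, Finset.mem_union, Finset.mem_map,
      Function.Embedding.subtype_apply]
    constructor
    · rintro ((h | h) | ⟨j, hj, h⟩)
      · split_ifs at h <;> simp [i.2.1] at h
      · split_ifs at h <;> simp [i.2.2] at h
      · exact Subtype.ext h ▸ hj
    · exact fun h => Or.inr ⟨i, h, rfl⟩
  refine ⟨L, J, fun i hi => ?_, ?_, ?_, ?_⟩
  · simp only [hJdef, Finset.mem_union, Finset.mem_map, Function.Embedding.subtype_apply] at hi
    rcases hi with (h | h) | ⟨j, hj, rfl⟩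
    · split_ifs at h with h' <;> simp at h
      subst h; exact hvS 0 h'
    · split_ifs at h with h' <;> simp at h
      subst h; exact hvS 1 h'
    · rw [ht j]
      refine add_mem ?_ ?_
      · rcases eb (U 0) with h | h
        · have := hU j hj 0; rw [h, Submodule.mem_bot] at this; simp [this]
        · exact Submodule.smul_mem _ _ (hvS 0 h)
      · rcases eb (U 1) with h | h
        · have := hU j hj 1; rw [h, Submodule.mem_bot] at this; simp [this]
        · exact Submodule.smul_mem _ _ (hvS 1 h)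
  · rw [mul_pwt hθ', QWt, sum_split hab θ J, hsub, hdim, Finset.card_filter, Fin.sum_univ_two]
    simp only [haJ, hbJ]
    split_ifs <;> push_cast <;> ring
  · rintro ⟨-, hJ⟩
    refine ⟨funext fun j => (eb (U j)).resolve_right fun h => ?_, ?_⟩
    · fin_cases j
      · exact absurd (haJ.2 h) (by simp [hJ])
      · exact absurd (hbJ.2 h) (by simp [hJ])
    · rw [← hsub, hJ]; rfl
  · rintro ⟨-, hJ⟩
    refine ⟨funext fun j => ?_, ?_⟩
    · fin_cases j
      · exact haJ.1 (hJ ▸ Finset.mem_univ a)
      · exact hbJ.1 (hJ ▸ Finset.mem_univ b)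
    · rw [← hsub, hJ, Finset.subtype_univ]

open scoped Classical in
include hab h0 h1 h2 hθ hθ' in
/-- From a subrepresentation of the big quiver to one of the small quiver. -/
theorem toP (hli : LinearIndependent K ![s a, s b]) {t : {i : κ // i ≠ a ∧ i ≠ b} → (Fin 2 → K)}
    (ht : ∀ i, s i.1 = t i 0 • s a + t i 1 • s b) (L : Submodule K (Fin 2 → K)) (J : Finset κ)
    (hJ : QSubrep s L J) :
    QWt K (-1) θ L J < 0 ∨
    ∃ (U : Fin 2 → Submodule K K) (I : Finset {i : κ // i ≠ a ∧ i ≠ b}), PSubrep t U I ∧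
      QWt K (-1) θ L J ≤ (2 - θ a - θ b) * PWt K (eta θ a b) (theta θ a b) U I ∧
      (QWt K (-1) θ L J = (2 - θ a - θ b) * PWt K (eta θ a b) (theta θ a b) U I →
        (U = ⊥ ∧ I = ∅ → L = ⊥ ∧ J = ∅) ∧
        (U = ⊤ ∧ I = Finset.univ → L = ⊤ ∧ J = Finset.univ)) := by
  set v := ![s a, s b] with hv
  have hne : ∀ j, v j ≠ 0 := fun j => hli.ne_zero j
  have h2L : s a ∈ L → s b ∈ L → L = ⊤ := by
    intro ha hb
    rw [eq_top_iff, ← hli.span_eq_top_of_card_eq_finrank (by simp), Submodule.span_le]
    rintro _ ⟨j, rfl⟩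
    fin_cases j <;> assumption
  have hdim2 : Module.finrank K L ≤ 2 := by
    simpa using Submodule.finrank_le L
  by_cases hex : s a ∉ L ∧ s b ∉ L ∧ L ≠ ⊥
  · left
    obtain ⟨ha, hb, hL⟩ := hex
    have haJ : a ∉ J := fun h => ha (hJ a h)
    have hbJ : b ∉ J := fun h => hb (hJ b h)
    have hd : (1 : ℚ) ≤ Module.finrank K L := by
      exact_mod_cast Submodule.one_le_finrank_iff.2 hL
    rw [QWt, sum_split hab θ J, if_neg haJ, if_neg hbJ]
    have hle : ∑ i ∈ J.subtype (fun i => i ≠ a ∧ i ≠ b), θ i.1 ≤ 2 - θ a - θ b := by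
      have h := sum_split hab θ Finset.univ
      simp only [Finset.mem_univ, if_true, Finset.subtype_univ, h2] at h
      have := Finset.sum_le_univ_sum_of_nonneg
        (s := J.subtype (fun i => i ≠ a ∧ i ≠ b)) (f := fun i => θ i.1) (fun i => h0 i.1)
      linarith
    linarith
  right
  simp only [not_and, not_not] at hex
  let U : Fin 2 → Submodule K K := fun j => if v j ∈ L then ⊤ else ⊥
  have hU : ∀ j, U j = ⊤ ↔ v j ∈ L := fun j => by
    show (if v j ∈ L then (⊤ : Submodule K K) else ⊥) = ⊤ ↔ _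
    by_cases h : v j ∈ L
    · rw [if_pos h]; exact iff_of_true rfl h
    · rw [if_neg h]; exact iff_of_false bot_ne_top' h
  set I := J.subtype (fun i => i ≠ a ∧ i ≠ b) with hI
  refine ⟨U, I, fun i hi => ?_, ?_, ?_⟩
  · rw [hI, Finset.mem_subtype] at hi
    have hiL := hJ _ hi
    rw [ht i] at hiL
    intro j
    by_cases hj : v j ∈ L
    · rw [(hU j).2 hj]; trivial
    · have hz : t i j = 0 := by
        by_contra hne0
        fin_cases j
        · by_cases hb : s b ∈ L
          · refine hj ((L.smul_mem_iff hne0).1 ?_)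
            have h3 := L.sub_mem hiL (L.smul_mem (t i 1) hb)
            rwa [add_sub_cancel_right] at h3
          · rw [hex hj hb, Submodule.mem_bot] at hiL
            exact hne0 (Fintype.linearIndependent_iff.1 hli (t i)
              (by simpa [Fin.sum_univ_two, hv] using hiL) 0)
        · by_cases ha : s a ∈ L
          · refine hj ((L.smul_mem_iff hne0).1 ?_)
            have h3 := L.sub_mem hiL (L.smul_mem (t i 0) ha)
            rwa [add_sub_cancel_left] at h3
          · rw [hex ha hj, Submodule.mem_bot] at hiL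
            exact hne0 (Fintype.linearIndependent_iff.1 hli (t i)
              (by simpa [Fin.sum_univ_two, hv] using hiL) 1)
      rw [hz]; exact zero_mem _
  all_goals
    have hd : (Module.finrank K L : ℚ) =
        (if s a ∈ L then 1 else 0) + (if s b ∈ L then 1 else 0) := by
      by_cases ha : s a ∈ L <;> by_cases hb : s b ∈ L
      · rw [if_pos ha, if_pos hb, h2L ha hb, finrank_top, Module.finrank_fin_fun]; norm_num
      · have h1' : Module.finrank K L = 1 := by
          have hpos : 1 ≤ Module.finrank K L :=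
            Submodule.one_le_finrank_iff.2 fun h => hne 0 (by simpa [h, hv] using ha)
          have : Module.finrank K L ≠ 2 := fun h =>
            hb ((Submodule.eq_top_of_finrank_eq (K := K) (V := Fin 2 → K) (by simpa using h)) ▸ Submodule.mem_top)
          omega
        simp [ha, hb, h1']
      · have h1' : Module.finrank K L = 1 := by
          have hpos : 1 ≤ Module.finrank K L :=
            Submodule.one_le_finrank_iff.2 fun h => hne 1 (by simpa [h, hv] using hb)
          have : Module.finrank K L ≠ 2 := fun h =>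
            ha ((Submodule.eq_top_of_finrank_eq (K := K) (V := Fin 2 → K) (by simpa using h)) ▸ Submodule.mem_top)
          omega
        simp [ha, hb, h1']
      · rw [if_neg ha, if_neg hb, hex ha hb, finrank_bot]; norm_num
    rw [mul_pwt hθ', QWt, sum_split hab θ J, ← hI, hd]
    simp only [hU 0, hU 1, show v 0 = s a from rfl, show v 1 = s b from rfl]
  · have hA : (if a ∈ J then θ a else 0) ≤ if s a ∈ L then θ a else 0 := by
      by_cases h : a ∈ J
      · simp [h, hJ a h]
      · simp only [h, if_false]; split_ifs <;> linarith [h0 a]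
    have hB : (if b ∈ J then θ b else 0) ≤ if s b ∈ L then θ b else 0 := by
      by_cases h : b ∈ J
      · simp [h, hJ b h]
      · simp only [h, if_false]; split_ifs <;> linarith [h0 b]
    split_ifs at hA hB ⊢ <;> linarith
  · intro heq
    refine ⟨fun ⟨hUb, hI0⟩ => ?_, fun ⟨hUt, hI1⟩ => ?_⟩
    · have ha : s a ∉ L := fun h => bot_ne_top' ((congrFun hUb 0).symm.trans ((hU 0).2 h))
      have hb : s b ∉ L := fun h => bot_ne_top' ((congrFun hUb 1).symm.trans ((hU 1).2 h))
      refine ⟨hex ha hb, Finset.eq_empty_of_forall_notMem fun i hi => ?_⟩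
      by_cases hia : i = a
      · exact ha (hJ a (hia ▸ hi))
      by_cases hib : i = b
      · exact hb (hJ b (hib ▸ hi))
      have : (⟨i, hia, hib⟩ : {i : κ // i ≠ a ∧ i ≠ b}) ∈ I := by rw [hI]; simpa using hi
      simp [hI0] at this
    · have ha : s a ∈ L := (hU 0).1 (congrFun hUt 0)
      have hb : s b ∈ L := (hU 1).1 (congrFun hUt 1)
      refine ⟨h2L ha hb, Finset.eq_univ_of_forall fun i => ?_⟩
      simp only [ha, hb, if_true] at heq
      have hpa := pos_a h1 hθ
      have hpb := pos_b h1 hθ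
      by_cases hia : i = a
      · subst hia
        by_contra h
        rw [if_neg h] at heq
        split_ifs at heq <;> linarith
      by_cases hib : i = b
      · subst hib
        by_contra h
        rw [if_neg h] at heq
        split_ifs at heq <;> linarith
      have : (⟨i, hia, hib⟩ : {i : κ // i ≠ a ∧ i ≠ b}) ∈ I := hI1 ▸ Finset.mem_univ _
      rw [hI] at this
      simpa using this

include hab h0 h1 h2 hθ hθ' in
theorem semistable_iff : QSemistable (-1) θ s ↔
    (LinearIndependent K ![s a, s b] ∧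
      ∀ t : {i : κ // i ≠ a ∧ i ≠ b} → (Fin 2 → K),
        (∀ i, s i.1 = t i 0 • s a + t i 1 • s b) →
          PSemistable (eta θ a b) (theta θ a b) t) := by
  have hD : (0 : ℚ) < 2 - θ a - θ b := by linarith
  refine ⟨fun hs => ⟨li hθ hs hab, fun t ht => ⟨total hab h2 hθ', fun U I hU => ?_⟩⟩,
    fun ⟨hli, hP⟩ => ⟨by rw [h2]; norm_num, fun L J hJ => ?_⟩⟩
  · obtain ⟨L, J, hJ, hw, -⟩ := toQ hab hθ' (li hθ hs hab) ht U I hU
    have := hs.2 L J hJ
    rw [hw] at this
    exact nonpos_of_mul_nonpos_right this hD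
  · have hsp : Submodule.span K (Set.range ![s a, s b]) = ⊤ :=
      hli.span_eq_top_of_card_eq_finrank (by simp)
    have hex : ∀ i : {i : κ // i ≠ a ∧ i ≠ b}, ∃ c : Fin 2 → K, s i.1 = c 0 • s a + c 1 • s b := by
      intro i
      obtain ⟨c, hc⟩ := (Submodule.mem_span_range_iff_exists_fun K).1
        (hsp ▸ (Submodule.mem_top (x := s i.1)))
      exact ⟨c, by rw [← hc, Fin.sum_univ_two]; rfl⟩
    choose t ht using hex
    rcases toP hab h0 h1 h2 hθ hθ' hli ht L J hJ with h | ⟨U, I, hU, hle, -⟩
    · exact h.le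
    · exact hle.trans (mul_nonpos_of_nonneg_of_nonpos hD.le ((hP t ht).2 U I hU))

include hab h0 h1 h2 hθ hθ' in
theorem stable_iff : QStable (-1) θ s ↔
    (LinearIndependent K ![s a, s b] ∧
      ∀ t : {i : κ // i ≠ a ∧ i ≠ b} → (Fin 2 → K),
        (∀ i, s i.1 = t i 0 • s a + t i 1 • s b) →
          PStable (eta θ a b) (theta θ a b) t) := by
  have hD : (0 : ℚ) < 2 - θ a - θ b := by linarith
  constructor
  · intro hs
    obtain ⟨hli, hP⟩ := (semistable_iff hab h0 h1 h2 hθ hθ').1 hs.1
    refine ⟨hli, fun t ht => ⟨hP t ht, fun U I hU hw0 => ?_⟩⟩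
    obtain ⟨L, J, hJ, hw, hb, htp⟩ := toQ hab hθ' hli ht U I hU
    rcases hs.2 L J hJ (by rw [hw, hw0, mul_zero]) with h | h
    · exact Or.inl (hb h)
    · exact Or.inr (htp h)
  · rintro ⟨hli, hP⟩
    have hs := (semistable_iff hab h0 h1 h2 hθ hθ').2 ⟨hli, fun t ht => (hP t ht).1⟩
    refine ⟨hs, fun L J hJ hw0 => ?_⟩
    have hsp : Submodule.span K (Set.range ![s a, s b]) = ⊤ :=
      hli.span_eq_top_of_card_eq_finrank (by simp)
    have hex : ∀ i : {i : κ // i ≠ a ∧ i ≠ b}, ∃ c : Fin 2 → K, s i.1 = c 0 • s a + c 1 • s b := by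
      intro i
      obtain ⟨c, hc⟩ := (Submodule.mem_span_range_iff_exists_fun K).1
        (hsp ▸ (Submodule.mem_top (x := s i.1)))
      exact ⟨c, by rw [← hc, Fin.sum_univ_two]; rfl⟩
    choose t ht using hex
    rcases toP hab h0 h1 h2 hθ hθ' hli ht L J hJ with h | ⟨U, I, hU, hle, heq⟩
    · exact absurd hw0 h.ne
    · have hP0 := (hP t ht).1.2 U I hU
      have h0' : (2 - θ a - θ b) * PWt K (eta θ a b) (theta θ a b) U I = 0 :=
        le_antisymm (mul_nonpos_of_nonneg_of_nonpos hD.le hP0) (hw0 ▸ hle)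
      have hP' : PWt K (eta θ a b) (theta θ a b) U I = 0 :=
        (mul_eq_zero.1 h0').resolve_left hD.ne'
      obtain ⟨hb, htp⟩ := heq (hw0.trans h0'.symm)
      rcases (hP t ht).2 U I hU hP' with h | h
      · exact Or.inl (hb h)
      · exact Or.inr (htp h)

end Groth.Misc15.Contract
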