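import Mathlib
import Groth.Prelude.Def_W4c5nonratstablectREq
import Groth.Agent.Misc15.P1Stalk

/-! Functors invariant under the projective line are constant on R-equivalence classes. -/

set_option autoImplicit false

universe u v

open CategoryTheory CategoryTheory.Limits AlgebraicGeometry

namespace Groth.Misc15.FunctorR

variable {Y : Scheme.{u}} [IsIntegral Y]

/-- The generic point of an integral scheme, as a morphism. -/
noncomputable def gen (Y : Scheme.{u}) [IsIntegral Y] :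
    Spec (CommRingCat.of Y.functionField) ⟶ Y :=
  Y.fromSpecStalk (genericPoint Y)

/-- The generic point lifted to an open. -/
noncomputable def gW (W : Y.Opens) (hW : genericPoint Y ∈ W) :
    Spec (CommRingCat.of Y.functionField) ⟶ (W : Scheme.{u}) :=
  W.fromSpecStalkOfMem (genericPoint Y) hW

@[reassoc (attr := simp)] lemma gW_ι (W : Y.Opens) (hW : genericPoint Y ∈ W) :
    gW W hW ≫ W.ι = gen Y :=
  Scheme.Opens.fromSpecStalkOfMem_ι _ _ _

lemma gW_homOfLE {W W' : Y.Opens} (h : W' ≤ W) (hW : genericPoint Y ∈ W) (hW' : genericPoint Y ∈ W') :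
    gW W' hW' ≫ Y.homOfLE h = gW W hW := by
  rw [← cancel_mono W.ι, Category.assoc, Scheme.homOfLE_ι, gW_ι, gW_ι]

lemma isDominant_gW (W : Y.Opens) (hW : genericPoint Y ∈ W) : IsDominant (gW W hW) := by
  constructor
  intro z
  let s : (Spec (CommRingCat.of Y.functionField) : Scheme.{u}) :=
    IsLocalRing.closedPoint Y.functionField
  have hs : W.ι (gW W hW s) = genericPoint Y := by
    rw [← Scheme.Hom.comp_apply, gW_ι]
    exact Scheme.fromSpecStalk_closedPoint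
  have h1 : gW W hW s ⤳ z := by
    rw [← W.ι.isOpenEmbedding.isInducing.specializes_iff, hs]
    exact genericPoint_specializes _
  exact closure_mono (Set.singleton_subset_iff.2 (Set.mem_range_self s))
    (specializes_iff_mem_closure.1 h1)

lemma ext_gW {T S : Scheme.{u}} (sT : T ⟶ S) [IsSeparated sT] {W : Y.Opens}
    (hW : genericPoint Y ∈ W) {v w : (W : Scheme.{u}) ⟶ T} (h : v ≫ sT = w ≫ sT)
    (hg : gW W hW ≫ v = gW W hW ≫ w) : v = w := by
  haveI := isDominant_gW W hW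
  exact ext_of_isDominant_of_isSeparated sT h (gW W hW) hg

lemma spread {T S : Scheme.{u}} (sY : Y ⟶ S) (sT : T ⟶ S) [LocallyOfFiniteType sT]
    (φ : Spec (CommRingCat.of Y.functionField) ⟶ T) (h : φ ≫ sT = gen Y ≫ sY) :
    ∃ (W : Y.Opens) (hW : genericPoint Y ∈ W) (v : (W : Scheme.{u}) ⟶ T),
      v ≫ sT = W.ι ≫ sY ∧ gW W hW ≫ v = φ := by
  obtain ⟨W, hW, v, hv1, hv2⟩ := spread_out_of_isGermInjective' sY sT φ h
  exact ⟨W, hW, v, hv2, hv1.symm⟩

/-- the projection to projective space over the integers -/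
noncomputable abbrev pfst (n : ℕ) (S : Scheme.{u}) :
    CohB1.ProjSpaceOver n S ⟶ CohB1.ProjSpace n (ULift.{u} ℤ) :=
  pullback.fst _ _

/-- base change of projective space to an open -/
noncomputable def proj (n : ℕ) {S T : Scheme.{u}} (i : T ⟶ S) :
    CohB1.ProjSpaceOver n T ⟶ CohB1.ProjSpaceOver n S :=
  pullback.lift (pullback.fst _ _) (CohB1.ProjSpaceOver.toBase n T ≫ i)
    (specULiftZIsTerminal.hom_ext _ _)

@[reassoc (attr := simp)] lemma proj_fst (n : ℕ) {S T : Scheme.{u}} (i : T ⟶ S) :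
    proj n i ≫ pfst n S = pfst n T :=
  pullback.lift_fst _ _ _

@[reassoc (attr := simp)] lemma proj_toBase (n : ℕ) {S T : Scheme.{u}} (i : T ⟶ S) :
    proj n i ≫ CohB1.ProjSpaceOver.toBase n S = CohB1.ProjSpaceOver.toBase n T ≫ i :=
  pullback.lift_snd _ _ _

lemma isPullback_proj (n : ℕ) {S T : Scheme.{u}} (i : T ⟶ S) :
    IsPullback (proj n i) (CohB1.ProjSpaceOver.toBase n T) (CohB1.ProjSpaceOver.toBase n S) i := by
  refine IsPullback.of_right ?_ (proj_toBase n i)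
    (IsPullback.of_hasPullback (CohB1.ProjSpace.toSpec n (ULift.{u} ℤ)) (specULiftZIsTerminal.from S))
  rw [show proj n i ≫ pullback.fst _ _ = pullback.fst _ _ from proj_fst n i,
    specULiftZIsTerminal.comp_from i]
  exact IsPullback.of_hasPullback _ _

/-- the section of projective space given by a map to projective space over the integers -/
noncomputable def sect {n : ℕ} {S : Scheme.{u}} (z : S ⟶ CohB1.ProjSpace n (ULift.{u} ℤ)) :
    S ⟶ CohB1.ProjSpaceOver n S :=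
  pullback.lift z (𝟙 _) (specULiftZIsTerminal.hom_ext _ _)

@[reassoc (attr := simp)] lemma sect_fst {n : ℕ} {S : Scheme.{u}}
    (z : S ⟶ CohB1.ProjSpace n (ULift.{u} ℤ)) : sect z ≫ pfst n S = z :=
  pullback.lift_fst _ _ _

@[reassoc (attr := simp)] lemma sect_toBase {n : ℕ} {S : Scheme.{u}}
    (z : S ⟶ CohB1.ProjSpace n (ULift.{u} ℤ)) : sect z ≫ CohB1.ProjSpaceOver.toBase n S = 𝟙 _ :=
  pullback.lift_snd _ _ _

variable {k : Type u} [Field k] (g : Y ⟶ Spec (CommRingCat.of k))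
variable (Φ : (Over (Spec (CommRingCat.of k)))ᵒᵖ ⥤ Type v)
variable {X : Scheme.{u}} (f : X ⟶ Spec (CommRingCat.of k))

/-- Two generic points of `X` have the same pullback on some open. -/
def Good (A B : Spec (CommRingCat.of Y.functionField) ⟶ X) : Prop :=
  ∃ (W : Y.Opens) (hW : genericPoint Y ∈ W) (v w : (W : Scheme.{u}) ⟶ X) (hv : v ≫ f = W.ι ≫ g)
    (hw : w ≫ f = W.ι ≫ g), gW W hW ≫ v = A ∧ gW W hW ≫ w = B ∧
      Φ.map (Over.homMk v hv : Over.mk (W.ι ≫ g) ⟶ Over.mk f).op =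
        Φ.map (Over.homMk w hw : Over.mk (W.ι ≫ g) ⟶ Over.mk f).op

variable {g Φ f}

lemma map_restrict {W W' : Y.Opens} (h : W' ≤ W) {v w : (W : Scheme.{u}) ⟶ X} (hv : v ≫ f = W.ι ≫ g)
    (hw : w ≫ f = W.ι ≫ g)
    (he : Φ.map (Over.homMk v hv : Over.mk (W.ι ≫ g) ⟶ Over.mk f).op =
        Φ.map (Over.homMk w hw : Over.mk (W.ι ≫ g) ⟶ Over.mk f).op)
    (hv' : (Y.homOfLE h ≫ v) ≫ f = W'.ι ≫ g) (hw' : (Y.homOfLE h ≫ w) ≫ f = W'.ι ≫ g) :
    Φ.map (Over.homMk (Y.homOfLE h ≫ v) hv' : Over.mk (W'.ι ≫ g) ⟶ Over.mk f).op =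
      Φ.map (Over.homMk (Y.homOfLE h ≫ w) hw' : Over.mk (W'.ι ≫ g) ⟶ Over.mk f).op := by
  let r : Over.mk (W'.ι ≫ g) ⟶ Over.mk (W.ι ≫ g) :=
    Over.homMk (Y.homOfLE h) (by simp)
  rw [show (Over.homMk (Y.homOfLE h ≫ v) hv' : Over.mk (W'.ι ≫ g) ⟶ Over.mk f) =
      r ≫ (Over.homMk v hv : Over.mk (W.ι ≫ g) ⟶ Over.mk f) from Over.OverMorphism.ext rfl,
    show (Over.homMk (Y.homOfLE h ≫ w) hw' : Over.mk (W'.ι ≫ g) ⟶ Over.mk f) =
      r ≫ (Over.homMk w hw : Over.mk (W.ι ≫ g) ⟶ Over.mk f) from Over.OverMorphism.ext rfl,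
    op_comp, op_comp, Φ.map_comp, Φ.map_comp, he]

theorem good_refl [LocallyOfFiniteType f] (A : Spec (CommRingCat.of Y.functionField) ⟶ X)
    (hA : A ≫ f = gen Y ≫ g) : Good g Φ f A A := by
  obtain ⟨W, hW, v, hv, hv'⟩ := spread g f A hA
  exact ⟨W, hW, v, v, hv, hv, hv', hv', rfl⟩

theorem good_symm {A B : Spec (CommRingCat.of Y.functionField) ⟶ X} (h : Good g Φ f A B) :
    Good g Φ f B A := by
  obtain ⟨W, hW, v, w, hv, hw, h1, h2, h3⟩ := h
  exact ⟨W, hW, w, v, hw, hv, h2, h1, h3.symm⟩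

theorem good_trans [IsSeparated f] {A B C : Spec (CommRingCat.of Y.functionField) ⟶ X}
    (h : Good g Φ f A B) (h' : Good g Φ f B C) : Good g Φ f A C := by
  obtain ⟨W, hW, v, w, hv, hw, h1, h2, h3⟩ := h
  obtain ⟨W', hW', v', w', hv', hw', h1', h2', h3'⟩ := h'
  let i := Y.homOfLE (inf_le_left : W ⊓ W' ≤ W)
  let i' := Y.homOfLE (inf_le_right : W ⊓ W' ≤ W')
  have hi : ∀ {z : (W : Scheme.{u}) ⟶ X}, z ≫ f = W.ι ≫ g → (i ≫ z) ≫ f = (W ⊓ W').ι ≫ g :=
    fun {z} hz => by rw [Category.assoc, hz, Scheme.homOfLE_ι_assoc]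
  have hi' : ∀ {z : (W' : Scheme.{u}) ⟶ X}, z ≫ f = W'.ι ≫ g → (i' ≫ z) ≫ f = (W ⊓ W').ι ≫ g :=
    fun {z} hz => by rw [Category.assoc, hz, Scheme.homOfLE_ι_assoc]
  have hm : genericPoint Y ∈ W ⊓ W' := ⟨hW, hW'⟩
  have e : i ≫ w = i' ≫ v' := by
    refine ext_gW f hm ((hi hw).trans (hi' hv').symm) ?_
    rw [← Category.assoc, ← Category.assoc, gW_homOfLE _ hW, gW_homOfLE _ hW', h2, h1']
  refine ⟨W ⊓ W', hm, i ≫ v, i' ≫ w', hi hv, hi' hw', ?_, ?_, ?_⟩
  · rw [← Category.assoc, gW_homOfLE _ hW, h1]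
  · rw [← Category.assoc, gW_homOfLE _ hW', h2']
  · have a1 := map_restrict (inf_le_left : W ⊓ W' ≤ W) hv hw h3 (hi hv) (hi hw)
    have a2 := map_restrict (inf_le_right : W ⊓ W' ≤ W') hv' hw' h3' (hi' hv') (hi' hw')
    refine a1.trans (Eq.trans ?_ a2)
    congr 2
    exact Over.OverMorphism.ext e

/-- A rational map from `ℙ¹` over the function field spreads over an open of the base. -/
theorem spread_line {R : Type u} [CommRing R] [IsDomain R]
    (g : Spec (CommRingCat.of R) ⟶ Spec (CommRingCat.of k)) [IsProper f]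
    (U : (CohB1.ProjSpaceOver 1
      (Spec (CommRingCat.of (Spec (CommRingCat.of R)).functionField))).Opens)
    (h : (U : Scheme.{u}) ⟶ X)
    (hh : h ≫ f = U.ι ≫ CohB1.ProjSpaceOver.toBase 1 _ ≫ gen (Spec (CommRingCat.of R)) ≫ g)
    (hU : Nonempty (U : Scheme.{u})) :
    ∃ (W : (Spec (CommRingCat.of R)).Opens) (_ : genericPoint (Spec (CommRingCat.of R)) ∈ W)
      (H : CohB1.ProjSpaceOver 1 (W : Scheme.{u}) ⟶ X),
      H ≫ f = CohB1.ProjSpaceOver.toBase 1 (W : Scheme.{u}) ≫ W.ι ≫ g ∧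
      ∀ (a : Spec (CommRingCat.of (Spec (CommRingCat.of R)).functionField) ⟶ (U : Scheme.{u}))
        (s : Spec (CommRingCat.of (Spec (CommRingCat.of R)).functionField) ⟶
          CohB1.ProjSpaceOver 1 (W : Scheme.{u})),
        s ≫ proj 1 W.ι = a ≫ U.ι ≫ proj 1 (gen (Spec (CommRingCat.of R))) → s ≫ H = a ≫ h := by
  let Y : Scheme.{u} := Spec (CommRingCat.of R)
  let C := CohB1.ProjSpaceOver 1 Y
  let CK := CohB1.ProjSpaceOver 1 (Spec (CommRingCat.of Y.functionField))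
  let ι : CK ⟶ C := proj 1 (gen Y)
  haveI : IsPreimmersion (gen Y) := inferInstanceAs (IsPreimmersion (Y.fromSpecStalk _))
  haveI : Flat (gen Y) := Groth.PropsBasic2.flat_fromSpecStalk _
  haveI : IsPreimmersion ι := MorphismProperty.of_isPullback (isPullback_proj 1 (gen Y)).flip inferInstance
  haveI : Flat ι := MorphismProperty.of_isPullback (isPullback_proj 1 (gen Y)).flip inferInstance
  haveI : ∀ y, IsIso (ι.stalkMap y) := fun y =>
    (ConcreteCategory.isIso_iff_bijective _).2 (P1Stalk.stalkMap_bijective ι y)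
  haveI : IsIntegral C := P1Stalk.isIntegral_projSpaceOver 1 R
  haveI : IsIntegral CK := P1Stalk.isIntegral_projSpaceOver 1 _
  let sC : C ⟶ Spec (CommRingCat.of k) := CohB1.ProjSpaceOver.toBase 1 Y ≫ g
  have hιs : ι ≫ sC = CohB1.ProjSpaceOver.toBase 1 _ ≫ gen Y ≫ g := by
    rw [proj_toBase_assoc]
  have hη : genericPoint CK ∈ U := by
    obtain ⟨z, hz⟩ := hU.some
    exact (genericPoint_specializes z).mem_open U.2 hz
  let φ : Spec (C.presheaf.stalk (ι (genericPoint CK))) ⟶ X :=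
    Spec.map (inv (ι.stalkMap (genericPoint CK))) ≫ U.fromSpecStalkOfMem _ hη ≫ h
  have hφ : φ ≫ f = C.fromSpecStalk (ι (genericPoint CK)) ≫ sC := by
    simp only [φ, Category.assoc, hh, Scheme.Opens.fromSpecStalkOfMem_ι_assoc]
    rw [show CK.fromSpecStalk (genericPoint CK) ≫ CohB1.ProjSpaceOver.toBase 1 _ ≫ gen Y ≫ g =
        Spec.map (ι.stalkMap (genericPoint CK)) ≫ C.fromSpecStalk (ι (genericPoint CK)) ≫ sC by
      rw [Scheme.SpecMap_stalkMap_fromSpecStalk_assoc, hιs]]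
    rw [← Spec.map_comp_assoc, IsIso.hom_inv_id, Spec.map_id, Category.id_comp]
  let g0 := Scheme.PartialMap.ofFromSpecStalk sC f φ hφ
  have hg0 : g0.hom ≫ f = g0.domain.ι ≫ sC := Scheme.PartialMap.ofFromSpecStalk_comp _ _ _ _
  haveI : X.IsSeparated :=
    ⟨by rw [← terminal.comp_from f]; infer_instance⟩
  let D := g0.toRationalMap.domain
  let HD : (D : Scheme.{u}) ⟶ X := g0.toRationalMap.toPartialMap.hom
  have hle : g0.domain ≤ D := g0.le_domain_toRationalMap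
  have hHD0 : C.homOfLE hle ≫ HD = g0.hom := g0.toPartialMap_toRationalMap_restrict
  have hD : ∀ y, ι y ∈ D := fun y => by
    haveI := P1Stalk.valuationRing_stalk_P1 Y.functionField y
    haveI : PreValuationRing (C.presheaf.stalk (ι y)) := by
      show PreValuationRing _
      exact Function.Surjective.preValuationRing (f := (inv (ι.stalkMap y)).hom.toMonoidWithZeroHom.toMulHom)
        (ConcreteCategory.bijective_of_isIso (inv (ι.stalkMap y))).2
    exact P1Stalk.mem_domain_of_preValuationRing sC f g0 hg0 (ι y)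
  have hHDs : HD ≫ f = D.ι ≫ sC := by
    haveI : IsDominant (C.homOfLE hle) := Opens.isDominant_homOfLE g0.dense_domain _
    refine ext_of_isDominant (C.homOfLE hle) ?_
    rw [reassoc_of% hHD0, hg0, Scheme.homOfLE_ι_assoc]
  let ιD : CK ⟶ (D : Scheme.{u}) := IsOpenImmersion.lift D.ι ι (by
    rw [Scheme.Opens.range_ι]; rintro _ ⟨y, rfl⟩; exact hD y)
  have hιD : ιD ≫ D.ι = ι := IsOpenImmersion.lift_fac _ _ _
  have hHU : U.ι ≫ ιD ≫ HD = h := by
    haveI : IsDominant (gW U hη) := isDominant_gW U hη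
    haveI : IsReduced (U : Scheme.{u}) := isReduced_of_isOpenImmersion U.ι
    refine ext_of_isDominant_of_isSeparated f ?_ (gW U hη) ?_
    · simp only [Category.assoc, hHDs, reassoc_of% hιD, hh, hιs]; rfl
    · have hm := Scheme.PartialMap.mem_domain_ofFromSpecStalk sC f φ hφ
      have e1 : Spec.map (ι.stalkMap (genericPoint CK)) ≫ g0.fromSpecStalkOfMem hm =
          U.fromSpecStalkOfMem _ hη ≫ h := by
        rw [Scheme.PartialMap.fromSpecStalkOfMem_ofFromSpecStalk, ← Spec.map_comp_assoc,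
          IsIso.inv_hom_id, Spec.map_id, Category.id_comp]
      rw [gW_ι_assoc]
      refine Eq.trans ?_ e1
      rw [Scheme.PartialMap.fromSpecStalkOfMem, ← hHD0]
      simp only [← Category.assoc]
      congr 1
      rw [← cancel_mono D.ι]
      simp only [Category.assoc, hιD, Scheme.homOfLE_ι, Scheme.Opens.fromSpecStalkOfMem_ι]
      exact (Scheme.SpecMap_stalkMap_fromSpecStalk (f := ι) (x := genericPoint CK)).symm
  -- the open of the base
  have hcl : IsClosed (CohB1.ProjSpaceOver.toBase 1 Y '' (D : Set C)ᶜ) :=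
    (CohB1.ProjSpaceOver.toBase 1 Y).isClosedMap _ D.2.isClosed_compl
  let W : Y.Opens := ⟨(CohB1.ProjSpaceOver.toBase 1 Y '' (D : Set C)ᶜ)ᶜ, hcl.isOpen_compl⟩
  have hW : genericPoint Y ∈ W := by
    rintro ⟨c, hc, he⟩
    have hgen : gen Y (IsLocalRing.closedPoint Y.functionField) = genericPoint Y :=
      Scheme.fromSpecStalk_closedPoint
    obtain ⟨y, hy, -⟩ := Scheme.exists_preimage_of_isPullback (isPullback_proj 1 (gen Y)) c
      (IsLocalRing.closedPoint Y.functionField) (he.trans hgen.symm)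
    exact hc (hy ▸ hD y)
  have hWD : Set.range (proj 1 W.ι) ⊆ Set.range D.ι := by
    rw [Scheme.Opens.range_ι]
    rintro _ ⟨y, rfl⟩
    by_contra hn
    have : CohB1.ProjSpaceOver.toBase 1 Y (proj 1 W.ι y) ∈ W := by
      rw [← Scheme.Hom.comp_apply, proj_toBase, Scheme.Hom.comp_apply]
      exact (CohB1.ProjSpaceOver.toBase 1 (W : Scheme.{u}) y).2
    exact this ⟨_, hn, rfl⟩
  let L := IsOpenImmersion.lift D.ι (proj 1 W.ι) hWD
  have hL : L ≫ D.ι = proj 1 W.ι := IsOpenImmersion.lift_fac _ _ _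
  refine ⟨W, hW, L ≫ HD, ?_, ?_⟩
  · rw [Category.assoc, hHDs, reassoc_of% hL, proj_toBase_assoc]
  · intro a s hs
    rw [← hHU]
    simp only [← Category.assoc]
    congr 1
    rw [← cancel_mono D.ι]
    simp only [Category.assoc, hL, hιD, hs]
    rfl

/-- Directly linked generic points have the same pullback on some open. -/
theorem good_link {R : Type u} [CommRing R] [IsDomain R]
    {g : Spec (CommRingCat.of R) ⟶ Spec (CommRingCat.of k)} [IsProper f]
    [Algebra k (Spec (CommRingCat.of R)).functionField]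
    (hg : REq.specMap k (Spec (CommRingCat.of R)).functionField = gen _ ≫ g)
    (W0 : (Spec (CommRingCat.of R)).Opens) (hW0 : genericPoint (Spec (CommRingCat.of R)) ∈ W0)
    [Smooth (W0.ι ≫ g)]
    (hΦ : ∀ (Y : Scheme.{u}) (g : Y ⟶ Spec (CommRingCat.of k)) [IsIntegral Y] [Smooth g]
      [IsSeparated g] [QuasiCompact g],
      Function.Bijective (Φ.map (Over.homMk (CohB1.ProjSpaceOver.toBase 1 Y) rfl :
        Over.mk (CohB1.ProjSpaceOver.toBase 1 Y ≫ g) ⟶ Over.mk g).op))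
    (A B : REq.Pts f (Spec (CommRingCat.of R)).functionField)
    (hAB : REq.ElemLink f _ A B) : Good g Φ f A.1 B.1 := by
  let Y : Scheme.{u} := Spec (CommRingCat.of R)
  obtain ⟨U, h, a, b, hh, ha, hb, hA, hB⟩ := hAB
  rw [hg] at hh
  obtain ⟨W1, hW1, H, hH, hpt⟩ := spread_line (f := f) g U h hh
    ⟨a (IsLocalRing.closedPoint Y.functionField)⟩
  haveI : LocallyOfFiniteType (CohB1.ProjSpace.toSpec 1 (ULift.{u} ℤ)) := by
    haveI := Groth.Variety2.isProper_projSpace_toSpec 1 (ULift.{u} ℤ)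
    infer_instance
  obtain ⟨W2, hW2, sa, -, hsa⟩ := spread (specULiftZIsTerminal.from Y)
    (CohB1.ProjSpace.toSpec 1 (ULift.{u} ℤ)) (a ≫ U.ι ≫ pfst _ _)
    (specULiftZIsTerminal.hom_ext _ _)
  obtain ⟨W3, hW3, sb, -, hsb⟩ := spread (specULiftZIsTerminal.from Y)
    (CohB1.ProjSpace.toSpec 1 (ULift.{u} ℤ)) (b ≫ U.ι ≫ pfst _ _)
    (specULiftZIsTerminal.hom_ext _ _)
  obtain ⟨W, hWa, hηW, hWsub⟩ : ∃ W : Y.Opens, IsAffineOpen W ∧ genericPoint Y ∈ W ∧
      W ≤ W0 ⊓ W1 ⊓ W2 ⊓ W3 := by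
    obtain ⟨_, ⟨W, hWa, rfl⟩, hηW, hWsub⟩ := Y.isBasis_affineOpens.exists_subset_of_mem_open
      (a := genericPoint Y) (u := ((W0 ⊓ W1 ⊓ W2 ⊓ W3 : Y.Opens) : Set Y))
      ⟨⟨⟨hW0, hW1⟩, hW2⟩, hW3⟩ (W0 ⊓ W1 ⊓ W2 ⊓ W3 : Y.Opens).2
    exact ⟨W, hWa, hηW, hWsub⟩
  have h0 : W ≤ W0 := fun x hx => (hWsub hx).1.1.1
  have h1 : W ≤ W1 := fun x hx => (hWsub hx).1.1.2
  have h2 : W ≤ W2 := fun x hx => (hWsub hx).1.2
  have h3 : W ≤ W3 := fun x hx => (hWsub hx).2
  let gw : (W : Scheme.{u}) ⟶ Spec (CommRingCat.of k) := W.ι ≫ g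
  haveI : Nonempty (W : Scheme.{u}) := ⟨⟨_, hηW⟩⟩
  haveI : IsIntegral (W : Scheme.{u}) := isIntegral_of_isOpenImmersion W.ι
  haveI : IsAffine (W : Scheme.{u}) := hWa
  haveI : Smooth gw := by
    rw [show gw = Y.homOfLE h0 ≫ W0.ι ≫ g by simp [gw]]
    infer_instance
  haveI : IsAffineHom gw := inferInstance
  let HW : CohB1.ProjSpaceOver 1 (W : Scheme.{u}) ⟶ X := proj 1 (Y.homOfLE h1) ≫ H
  have hHW : HW ≫ f = CohB1.ProjSpaceOver.toBase 1 (W : Scheme.{u}) ≫ gw := by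
    simp only [HW, gw, Category.assoc, hH, proj_toBase_assoc, Scheme.homOfLE_ι_assoc]
  have hgen : ∀ (c : Spec (CommRingCat.of Y.functionField) ⟶ (U : Scheme.{u}))
      (_ : c ≫ U.ι ≫ REq.P1K.toSpec Y.functionField = 𝟙 _)
      (z : (W : Scheme.{u}) ⟶ CohB1.ProjSpace 1 (ULift.{u} ℤ))
      (_ : gW W hηW ≫ z = c ≫ U.ι ≫ pfst _ _),
      gW W hηW ≫ sect z ≫ HW = c ≫ h := by
    intro c hc z hz
    have e := hpt c (gW W hηW ≫ sect z ≫ proj 1 (Y.homOfLE h1)) ?_
    · simpa only [HW, Category.assoc] using e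
    refine pullback.hom_ext ?_ ?_
    · show (_ ≫ _) ≫ pfst 1 Y = (_ ≫ _ ≫ _) ≫ pfst 1 Y
      simp only [Category.assoc]
      erw [proj_fst, proj_fst, proj_fst, sect_fst]
      exact hz
    · show (_ ≫ _) ≫ CohB1.ProjSpaceOver.toBase 1 Y = (_ ≫ _ ≫ _) ≫ CohB1.ProjSpaceOver.toBase 1 Y
      simp only [Category.assoc, proj_toBase, proj_toBase_assoc, Scheme.homOfLE_ι]
      rw [reassoc_of% hc]
      simp only [sect_toBase_assoc, gW_ι]
      rfl
  let s := sect (Y.homOfLE h2 ≫ sa)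
  let t := sect (Y.homOfLE h3 ≫ sb)
  have hsH : ∀ z, (sect z ≫ HW) ≫ f = W.ι ≫ g := fun z => by
    rw [Category.assoc, hHW]
    rw [sect_toBase_assoc]
  refine ⟨W, hηW, s ≫ HW, t ≫ HW, hsH _, hsH _, ?_, ?_, ?_⟩
  · rw [← hA]
    exact hgen a ha _ (by rw [← Category.assoc, gW_homOfLE h2 hW2, hsa])
  · rw [← hB]
    exact hgen b hb _ (by rw [← Category.assoc, gW_homOfLE h3 hW3, hsb])
  · let pr : Over.mk (CohB1.ProjSpaceOver.toBase 1 (W : Scheme.{u}) ≫ gw) ⟶ Over.mk gw :=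
      Over.homMk (CohB1.ProjSpaceOver.toBase 1 (W : Scheme.{u})) rfl
    let HO : Over.mk (CohB1.ProjSpaceOver.toBase 1 (W : Scheme.{u}) ≫ gw) ⟶ Over.mk f :=
      Over.homMk HW hHW
    have hsec : ∀ z, sect z ≫ CohB1.ProjSpaceOver.toBase 1 (W : Scheme.{u}) = 𝟙 _ := fun z =>
      pullback.lift_snd _ _ _
    let sO : ∀ z, Over.mk gw ⟶ Over.mk (CohB1.ProjSpaceOver.toBase 1 (W : Scheme.{u}) ≫ gw) :=
      fun z => Over.homMk (sect z) (by
        show sect z ≫ CohB1.ProjSpaceOver.toBase 1 (W : Scheme.{u}) ≫ gw = gw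
        rw [reassoc_of% (hsec z)])
    have key : ∀ z (α : Φ.obj (Opposite.op (Over.mk f))) (β : Φ.obj (Opposite.op (Over.mk gw))),
        Φ.map pr.op β = Φ.map HO.op α → Φ.map (sO z ≫ HO).op α = β := by
      intro z α β hβ
      rw [op_comp, Φ.map_comp, types_comp_apply, ← hβ, ← types_comp_apply (Φ.map pr.op) (Φ.map (sO z).op),
        ← Φ.map_comp, ← op_comp, show sO z ≫ pr = 𝟙 _ from Over.OverMorphism.ext (hsec z), op_id,
        Φ.map_id, types_id_apply]
    refine ConcreteCategory.hom_ext _ _ (fun α => ?_)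
    obtain ⟨β, hβ⟩ := (hΦ (W : Scheme.{u}) gw).2 (Φ.map HO.op α)
    exact (key _ α β hβ).trans (key _ α β hβ).symm

end Groth.Misc15.FunctorR
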