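import Mathlib

/-! Arithmetic of parabolic slopes for weights near one. -/

set_option autoImplicit false

namespace Groth.Misc15

private lemma aux_bound {n d : ℕ} (hn : 2 ≤ n) (hd : 0 < d) {α : ℝ}
    (hα : 1 - 1 / ((d : ℝ) * (n : ℝ) * ((n : ℝ) - 1)) < α) :
    (1 - α) * ((d : ℝ) * n * ((n : ℝ) - 1)) < 1 := by
  have hn' : (2 : ℝ) ≤ n := by exact_mod_cast hn
  have hd' : (1 : ℝ) ≤ d := by exact_mod_cast hd
  have hC : 0 < (d : ℝ) * n * ((n : ℝ) - 1) := by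
    have : (0:ℝ) < n - 1 := by linarith
    positivity
  have h : 1 - α < 1 / ((d : ℝ) * n * ((n : ℝ) - 1)) := by linarith
  rwa [lt_div_iff₀ hC] at h

theorem gp_ss_one {n d r a f : ℕ} {dG dE : ℤ} {α : ℝ} (hn : 2 ≤ n) (hd : 0 < d) (hrn : r ≤ n)
    (ha : a ≤ r * d) (hα1 : α < 1) (hα : 1 - 1 / ((d : ℝ) * (n : ℝ) * ((n : ℝ) - 1)) < α)
    (h : ((dG : ℝ) + α * (a : ℝ)) * (n : ℝ) ≤ ((dE : ℝ) + α * (f : ℝ)) * (r : ℝ)) :
    ((dG : ℝ) + 1 * (a : ℝ)) * (n : ℝ) ≤ ((dE : ℝ) + 1 * (f : ℝ)) * (r : ℝ) := by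
  have hb := aux_bound hn hd hα
  have hn' : (2 : ℝ) ≤ n := by exact_mod_cast hn
  have hd' : (0 : ℝ) ≤ d := Nat.cast_nonneg d
  have hα' : 0 < 1 - α := by linarith
  have ha' : (a : ℝ) ≤ r * d := by exact_mod_cast ha
  have hB : (a : ℝ) * n - f * r ≤ r * d * n := by nlinarith [Nat.cast_nonneg (α := ℝ) f, Nat.cast_nonneg (α := ℝ) r]
  have key : ((dG : ℝ) + a) * n - ((dE : ℝ) + f) * r ≤ (1 - α) * (r * d * n) := by
    nlinarith [mul_le_mul_of_nonneg_left hB hα'.le]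
  rcases hrn.lt_or_eq with hr | hr
  · have hr' : (r : ℝ) ≤ n - 1 := by
      have : (r : ℝ) + 1 ≤ n := by exact_mod_cast hr
      linarith
    have h2 : ((dG : ℝ) + a) * n - ((dE : ℝ) + f) * r < 1 := by
      have : (r : ℝ) * d * n ≤ d * n * ((n : ℝ) - 1) := by
        have h9 := mul_le_mul_of_nonneg_left hr' (mul_nonneg hd' (Nat.cast_nonneg (α := ℝ) n))
        linarith
      nlinarith [mul_le_mul_of_nonneg_left this hα'.le]
    have h3 : (dG + a) * n - (dE + f) * r < (1 : ℤ) := by exact_mod_cast h2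
    have h4 : (dG + a) * n - (dE + f) * r ≤ (0 : ℤ) := by omega
    have h5 : ((dG : ℝ) + a) * n - ((dE : ℝ) + f) * r ≤ 0 := by exact_mod_cast h4
    linarith
  · subst hr
    have h2 : ((dG : ℝ) + a - (dE + f)) * r < r := by
      have h6 : (1 - α) * ((r : ℝ) * d * r) < r := by
        have : (1 - α) * ((r : ℝ) * d * r) ≤ ((1 - α) * ((d : ℝ) * r * ((r : ℝ) - 1))) * r := by
          have : (r : ℝ) * d * r ≤ (d : ℝ) * r * ((r : ℝ) - 1) * r := by
            have : (0:ℝ) ≤ (d:ℝ) * r * r * (r - 2) := mul_nonneg (by positivity) (by linarith)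
            nlinarith
          nlinarith [mul_le_mul_of_nonneg_left this hα'.le]
        nlinarith [mul_lt_mul_of_pos_right hb (show (0:ℝ) < r by linarith)]
      nlinarith
    have h7 : ((dG : ℝ) + a - (dE + f)) < 1 := by
      by_contra h8
      nlinarith [not_lt.mp h8]
    have h3 : dG + a - (dE + f) < (1 : ℤ) := by exact_mod_cast h7
    have h4 : dG + a - (dE + f) ≤ (0 : ℤ) := by omega
    have h5 : ((dG : ℝ) + a) - ((dE : ℝ) + f) ≤ 0 := by exact_mod_cast h4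
    nlinarith

theorem gp_st_alpha {n d r a f : ℕ} {dG dE : ℤ} {α : ℝ} (hn : 2 ≤ n) (hd : 0 < d) (hrn : r < n)
    (hf : f ≤ n * d) (hα1 : α < 1) (hα : 1 - 1 / ((d : ℝ) * (n : ℝ) * ((n : ℝ) - 1)) < α)
    (h : ((dG : ℝ) + 1 * (a : ℝ)) * (n : ℝ) < ((dE : ℝ) + 1 * (f : ℝ)) * (r : ℝ)) :
    ((dG : ℝ) + α * (a : ℝ)) * (n : ℝ) < ((dE : ℝ) + α * (f : ℝ)) * (r : ℝ) := by
  have hb := aux_bound hn hd hα
  have hα' : 0 < 1 - α := by linarith
  have hN : (dG + a) * n + 1 ≤ (dE + f) * (r : ℤ) := by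
    have : (dG + a) * n < (dE + f) * (r : ℤ) := by
      rify
      linarith
    omega
  have hN' : ((dG : ℝ) + a) * n + 1 ≤ ((dE : ℝ) + f) * r := by exact_mod_cast hN
  have hr' : (r : ℝ) ≤ n - 1 := by
    have : (r : ℝ) + 1 ≤ n := by exact_mod_cast hrn
    linarith
  have hf' : (f : ℝ) ≤ n * d := by exact_mod_cast hf
  have hB : (f : ℝ) * r - a * n ≤ d * n * ((n : ℝ) - 1) := by
    have := mul_le_mul hf' hr' (Nat.cast_nonneg r) (by positivity)
    nlinarith [mul_nonneg (Nat.cast_nonneg (α := ℝ) a) (Nat.cast_nonneg (α := ℝ) n)]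
  nlinarith [mul_le_mul_of_nonneg_left hB hα'.le]

end Groth.Misc15
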