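import Groth.Agent.Misc15.LinkLocal
import Groth.Agent.KoszShLib.CMLocal
import Groth.Agent.Calg4.RegularAscent
import Groth.Agent.Gorenstein.LCI

/-!
Linkage in polynomial rings.
-/

set_option autoImplicit false
set_option linter.style.haveILetI false

universe u

open IsLocalRing GrothGoren

namespace Groth.Misc15.PolyLink

variable {R : Type u} [CommRing R] {c₀ I : Ideal R}

theorem colon_map (hle : c₀ ≤ I) :
    Submodule.annihilator (I.map (Ideal.Quotient.mk c₀)) =
      (c₀.colon (I : Set R)).map (Ideal.Quotient.mk c₀) := by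
  refine le_antisymm (fun z hz => ?_) (Ideal.map_le_iff_le_comap.2 fun a ha => ?_)
  · obtain ⟨a, rfl⟩ := Ideal.Quotient.mk_surjective z
    refine Ideal.mem_map_of_mem _ (Submodule.mem_colon.2 fun i hi => ?_)
    have := Submodule.mem_annihilator.1 hz _ (Ideal.mem_map_of_mem (Ideal.Quotient.mk c₀) hi)
    rw [smul_eq_mul, ← map_mul] at this
    exact Ideal.Quotient.eq_zero_iff_mem.1 this
  · rw [Ideal.mem_comap, Submodule.mem_annihilator]
    intro y hy
    obtain ⟨i, hi, rfl⟩ := (Ideal.mem_map_iff_of_surjective _ Ideal.Quotient.mk_surjective).1 hy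
    rw [smul_eq_mul, ← map_mul]
    exact Ideal.Quotient.eq_zero_iff_mem.2 (Submodule.mem_colon.1 ha i hi)

/-- The double quotient. -/
noncomputable def quotEquiv (hle : c₀ ≤ I) : ((R ⧸ c₀) ⧸ I.map (Ideal.Quotient.mk c₀)) ≃+* R ⧸ I :=
  DoubleQuot.quotQuotEquivQuotOfLE hle

theorem isCM_quot (hle : c₀ ≤ I) (h : LocCoh.IsCohenMacaulayRing (R ⧸ I)) :
    LocCoh.IsCohenMacaulayRing ((R ⧸ c₀) ⧸ I.map (Ideal.Quotient.mk c₀)) :=
  Groth.Ega4b.isCohenMacaulayRing_of_ringEquiv (quotEquiv hle).symm h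

theorem minimal_height {L : Ideal R} [IsNoetherianRing R] {c : ℕ}
    (hu : ∀ Q ∈ associatedPrimes R (R ⧸ L), Q.height = c) :
    ∀ P ∈ L.minimalPrimes, P.height = c := fun P hP =>
  hu P (Groth.Misc15.Unmixed.mem_ass_of_minimal hP)

/-- A dimension drop by at most one bounds the height of minimal primes. -/
theorem height_le_one {C : Type u} [CommRing C] (L : Ideal C)
    (hdim : ∀ (Q : Ideal (C ⧸ L)) [Q.IsPrime],
      ringKrullDim (Localization.AtPrime (Q.comap (Ideal.Quotient.mk L))) ≤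
        ringKrullDim (Localization.AtPrime Q) + 1)
    {P : Ideal C} (hP : P ∈ L.minimalPrimes) : P.height ≤ 1 := by
  haveI := hP.isPrime
  obtain ⟨Q, hQ, rfl⟩ : ∃ Q : Ideal (C ⧸ L), Q.IsPrime ∧ Q.comap (Ideal.Quotient.mk L) = P :=
    ⟨P.map (Ideal.Quotient.mk L), Ideal.map_isPrime_of_surjective Ideal.Quotient.mk_surjective
      (by rw [Ideal.mk_ker]; exact hP.1.2), by
        rw [Ideal.comap_map_of_surjective' _ Ideal.Quotient.mk_surjective, Ideal.mk_ker,
          sup_eq_left.2 hP.1.2]⟩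
  have hmin : Q.height = 0 := by
    rw [Ideal.height_eq_zero_iff]
    refine ⟨⟨hQ, bot_le⟩, fun Q' ⟨hQ', _⟩ hle => ?_⟩
    haveI := hQ'
    have hge : L ≤ Q'.comap (Ideal.Quotient.mk L) := fun x hx => by
      rw [Ideal.mem_comap, Ideal.Quotient.eq_zero_iff_mem.2 hx]
      exact zero_mem _
    exact (Ideal.comap_le_comap_iff_of_surjective _ Ideal.Quotient.mk_surjective _ _).1
      (hP.2 ⟨inferInstance, hge⟩ (Ideal.comap_mono hle))
  have h := hdim Q
  rw [IsLocalization.AtPrime.ringKrullDim_eq_height Q (Localization.AtPrime Q),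
    IsLocalization.AtPrime.ringKrullDim_eq_height (Q.comap (Ideal.Quotient.mk L))
      (Localization.AtPrime (Q.comap (Ideal.Quotient.mk L))), hmin] at h
  norm_cast at h

variable [IsNoetherianRing R] [IsRegularRing R]
set_option linter.overlappingInstances false

theorem dimCond (hle : c₀ ≤ I) [LocCoh.IsCohenMacaulayRing (R ⧸ c₀)]
    [LocCoh.IsCohenMacaulayRing (R ⧸ I)] {c : ℕ}
    (hc₀ : ∀ P ∈ c₀.minimalPrimes, P.height = c) (hI : ∀ P ∈ I.minimalPrimes, P.height = c) :
    Groth.Misc15.LinkLocal.DimCond (I.map (Ideal.Quotient.mk c₀)) := by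
  intro Q _
  set P := Q.comap (Ideal.Quotient.mk (I.map (Ideal.Quotient.mk c₀))) with hPdef
  set Q₀ := P.comap (Ideal.Quotient.mk c₀) with hQ₀def
  have hmk : ∀ r, (quotEquiv hle).symm (Ideal.Quotient.mk I r) =
      Ideal.Quotient.mk _ (Ideal.Quotient.mk c₀ r) := fun r => rfl
  have hIQ : I ≤ Q₀ := fun x hx => by
    show Ideal.Quotient.mk (I.map (Ideal.Quotient.mk c₀)) (Ideal.Quotient.mk c₀ x) ∈ Q
    rw [Ideal.Quotient.eq_zero_iff_mem.2 (Ideal.mem_map_of_mem _ hx)]
    exact zero_mem _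
  have hP : P = Q₀.map (Ideal.Quotient.mk c₀) :=
    (Ideal.map_comap_of_surjective _ Ideal.Quotient.mk_surjective P).symm
  have hQ : Q.comap (quotEquiv hle).symm.toRingHom = Q₀.map (Ideal.Quotient.mk I) := by
    rw [← Ideal.map_comap_of_surjective _ Ideal.Quotient.mk_surjective
      (Q.comap (quotEquiv hle).symm.toRingHom), Ideal.comap_comap]
    rfl
  haveI := Groth.Misc15.Unmixed.isPrime_map_mk (hle.trans hIQ)
  haveI := Groth.Misc15.Unmixed.isPrime_map_mk hIQ
  obtain ⟨P₁, hP₁, hP₁Q⟩ := Ideal.exists_minimalPrimes_le (hle.trans hIQ)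
  obtain ⟨P₂, hP₂, hP₂Q⟩ := Ideal.exists_minimalPrimes_le hIQ
  have h1 := Groth.Misc15.Unmixed.height_eq (hle.trans hIQ) hP₁ hP₁Q
  have h2 := Groth.Misc15.Unmixed.height_eq hIQ hP₂ hP₂Q
  rw [hc₀ P₁ hP₁] at h1
  rw [hI P₂ hP₂] at h2
  rw [IsLocalization.AtPrime.ringKrullDim_eq_height Q,
    IsLocalization.AtPrime.ringKrullDim_eq_height P]
  rw [IsLocalization.AtPrime.ringKrullDim_eq_height (Q₀.map (Ideal.Quotient.mk c₀))] at h1
  rw [IsLocalization.AtPrime.ringKrullDim_eq_height (Q₀.map (Ideal.Quotient.mk I))] at h2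
  have h3 : (Q.comap (quotEquiv hle).symm.toRingHom).height = Q.height :=
    (quotEquiv hle).symm.height_comap Q
  rw [hQ] at h3
  rw [hP, ← h3]
  have h4 := h2.symm.trans h1
  norm_cast at h4 ⊢
  exact (ENat.addLECancellable_of_ne_top (ENat.natCast_ne_top c)).inj_left.1 h4

theorem isGorensteinRing_ci {c : ℕ} (g : Fin c → R) (h : (Ideal.span (Set.range g)).height = c) :
    LocCoh.IsGorensteinRing (R ⧸ Ideal.span (Set.range g)) := by
  refine { isGorensteinLocalRing_localization := fun Q _ => (isGorenstein_iff _).2 ?_ }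
  obtain ⟨e⟩ := nonempty_quotient_atPrime_equiv (Ideal.span (Set.range g)) Q
  set P := Q.comap (Ideal.Quotient.mk (Ideal.span (Set.range g)))
  set A := Localization.AtPrime P
  haveI : IsRegularLocalRing A := (isRegularRing_iff.1 ‹_›) P
  haveI : IsNoetherianRing (Localization.AtPrime Q) :=
    IsLocalization.isNoetherianRing Q.primeCompl _ inferInstance
  set rs := List.ofFn fun i => algebraMap R A (g i) with hrs
  have hrs' : Ideal.ofList rs = (Ideal.span (Set.range g)).map (algebraMap R A) := by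
    rw [hrs, Ideal.map_span, ← Set.range_comp]
    show Ideal.span _ = _
    congr 1
    ext x
    simp [List.mem_ofFn]
  have hle : Ideal.span (Set.range g) ≤ P := fun x hx => by
    show Ideal.Quotient.mk _ x ∈ Q
    rw [Ideal.Quotient.eq_zero_iff_mem.2 hx]
    exact zero_mem _
  have hlem : (Ideal.span (Set.range g)).map (algebraMap R A) ≤ maximalIdeal A :=
    Ideal.map_le_iff_le_comap.2 fun x hx =>
      (IsLocalization.AtPrime.to_map_mem_maximal_iff A P x).2 (hle hx)
  have hne : Ideal.ofList rs ≠ ⊤ :=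
    hrs' ▸ ne_top_of_le_ne_top (maximalIdeal.isMaximal A).ne_top hlem
  have hmem : ∀ r ∈ rs, r ∈ maximalIdeal A := fun r hr =>
    IsLocalRing.le_maximalIdeal hne (Ideal.subset_span hr)
  have hreg := Groth.KoszShLib.isWeaklyRegular_of_height A
    (Groth.Calg4.isCohenMacaulayLocalRing_of_isRegularLocalRing A) rs hne (by
      rw [hrs', hrs, List.length_ofFn, Ideal.height_eq_inf_minimalPrimes]
      refine le_iInf₂ fun p hp => ?_
      haveI := hp.isPrime
      rw [← IsLocalization.height_under P.primeCompl p, ← h]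
      exact Ideal.height_mono (Ideal.map_le_iff_le_comap.1 hp.1.2))
  haveI : Nontrivial (A ⧸ Ideal.ofList rs) := Ideal.Quotient.nontrivial_iff.2 hne
  haveI : IsLocalRing (A ⧸ Ideal.ofList rs) :=
    .of_surjective' (Ideal.Quotient.mk _) Ideal.Quotient.mk_surjective
  exact (exists_injLT_iff_of_ringEquiv ((Ideal.quotEquivOfEq hrs').trans e)).1
    (exists_injLT_quotient_ofList rs.length A rs rfl hmem hreg
      (exists_injLT_of_regular _ A le_rfl))

end Groth.Misc15.PolyLink
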