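import Groth.Agent.Misc15.HilbLead
import Groth.Agent.Misc15.PolyLink
import Groth.Agent.FrobLCI.GrInt.Dim

/-!
Lengths of linked quotients over a self-injective ring, and the degree of a linked scheme.
-/

set_option autoImplicit false
set_option linter.style.haveILetI false
set_option linter.overlappingInstances false

universe u

open IsLocalRing GrothGoren

namespace Groth.Misc15.GorLength

variable {A : Type u} [CommRing A] [IsNoetherianRing A]

theorem annihilator_annihilator (hinj : Module.Injective A A) (J : Ideal A) :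
    Submodule.annihilator (Submodule.annihilator J) = J := by
  classical
  refine le_antisymm (fun a ha => ?_) fun a ha => Submodule.mem_annihilator.2 fun b hb => by
    have := Submodule.mem_annihilator.1 hb a ha
    rwa [smul_eq_mul, mul_comm] at this
  obtain ⟨s, hs⟩ := (IsNoetherian.noetherian J : J.FG)
  have h := Groth.Misc15.Linkage.mem_span_of_annihilates hinj (fun g : s => (g : A)) (x := a)
    fun c hc => by
      have hcJ : c ∈ Submodule.annihilator J := by
        rw [← hs]
        exact (Submodule.mem_annihilator_span _ c).2 fun g => hc g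
      have := Submodule.mem_annihilator.1 ha c hcJ
      rwa [smul_eq_mul, mul_comm] at this
  rw [← hs]
  exact (Submodule.span_mono (by rintro _ ⟨g, rfl⟩; exact g.2)) h

/-- Length of the annihilator is the length of the quotient. -/
theorem length_annihilator (hinj : Module.Injective A A) (J : Ideal A) :
    Module.length A (Submodule.annihilator J) = Module.length A (A ⧸ J) := by
  apply WithBot.coe_injective
  rw [Module.coe_length, Module.coe_length]
  let e : (Set.Iic (Submodule.annihilator J))ᵒᵈ ≃o Set.Ici J :=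
    { toFun := fun p => ⟨Submodule.annihilator (OrderDual.ofDual p).1, fun a ha => by
        have h1 := Submodule.annihilator_mono (OrderDual.ofDual p).2
        rw [annihilator_annihilator hinj] at h1
        exact h1 ha⟩
      invFun := fun q => OrderDual.toDual ⟨Submodule.annihilator q.1, Submodule.annihilator_mono q.2⟩
      left_inv := fun p => Subtype.ext (annihilator_annihilator hinj _)
      right_inv := fun q => Subtype.ext (annihilator_annihilator hinj _)
      map_rel_iff' := fun {p q} => by
        refine ⟨fun h => ?_, fun h => Submodule.annihilator_mono h⟩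
        show (OrderDual.ofDual q).1 ≤ (OrderDual.ofDual p).1
        have := Submodule.annihilator_mono (Subtype.coe_le_coe.2 h)
        simpa [annihilator_annihilator hinj] using this }
  rw [Order.krullDim_eq_of_orderIso (Submodule.mapIic (Submodule.annihilator J)),
    Order.krullDim_eq_of_orderIso (Submodule.comapMkQRelIso J),
    ← Order.krullDim_eq_of_orderIso e, Order.krullDim_orderDual]

theorem length_add (hinj : Module.Injective A A) (I : Ideal A) :
    Module.length A (A ⧸ I) + Module.length A (A ⧸ Submodule.annihilator I) = Module.length A A := by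
  rw [← length_annihilator hinj I]
  exact (Module.length_eq_add_of_exact (Submodule.annihilator I).subtype
    (Submodule.mkQ _) Subtype.val_injective (Submodule.mkQ_surjective _)
    (LinearMap.exact_subtype_mkQ _)).symm

theorem length_quot_quot {L : Type u} [CommRing L] {a b : Ideal L} (h : a ≤ b) :
    Module.length (L ⧸ a) ((L ⧸ a) ⧸ b.map (Ideal.Quotient.mk a)) = Module.length L (L ⧸ b) := by
  rw [← Groth.GrInt.length_eq_of_forall (R := L) (S := L ⧸ a) fun c z => by
    obtain ⟨x, rfl⟩ := Ideal.Quotient.mk_surjective c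
    exact ⟨x, rfl⟩]
  exact LinearEquiv.length_eq (DoubleQuot.quotQuotEquivQuotOfLEₐ L h).toLinearEquiv

section Poly

variable {K : Type u} [Field K] {n : ℕ}

local notation "R" => MvPolynomial (Fin (n + 1)) K

theorem length_loc_quot (Q : Ideal R) [Q.IsPrime] {c₀ B : Ideal R} (hB : c₀ ≤ B) :
    Module.length (Localization.AtPrime Q ⧸ c₀.map (algebraMap R (Localization.AtPrime Q)))
      ((Localization.AtPrime Q ⧸ c₀.map (algebraMap R (Localization.AtPrime Q))) ⧸
        (B.map (algebraMap R (Localization.AtPrime Q))).map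
          (Ideal.Quotient.mk (c₀.map (algebraMap R (Localization.AtPrime Q))))) =
      Groth.Misc15.HilbLead.loclen Q B :=
  length_quot_quot (Ideal.map_mono hB)

/-- Local lengths along a link by a Gorenstein ideal. -/
theorem loclen_link {c₀ I : Ideal R} [LocCoh.IsGorensteinRing ((MvPolynomial (Fin (n + 1)) K) ⧸ c₀)]
    (hle : c₀ ≤ I) {Q : Ideal R} [Q.IsPrime] (hQ : Q ∈ c₀.minimalPrimes) :
    Groth.Misc15.HilbLead.loclen Q I + Groth.Misc15.HilbLead.loclen Q (c₀.colon (I : Set R)) =
      Groth.Misc15.HilbLead.loclen Q c₀ := by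
  rw [← length_loc_quot Q hle, ← length_loc_quot Q (Groth.Misc15.Linkage.le_colon_self I),
    ← length_loc_quot Q (le_refl c₀)]
  set L := Localization.AtPrime Q with hL
  haveI : IsNoetherianRing L := IsLocalization.isNoetherianRing Q.primeCompl _ inferInstance
  set cL := c₀.map (algebraMap R L) with hcL
  haveI hart : IsArtinianRing (L ⧸ cL) := Groth.Misc15.HilbLead.isArtinianRing_loc c₀ hQ
  haveI : Nontrivial (L ⧸ cL) := Ideal.Quotient.nontrivial_iff.2
    (ne_top_of_le_ne_top (maximalIdeal.isMaximal L).ne_top (Ideal.map_le_iff_le_comap.2 fun x hx =>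
      (IsLocalization.AtPrime.to_map_mem_maximal_iff L Q x).2 (hQ.1.2 hx)))
  haveI : IsLocalRing (L ⧸ cL) := .of_surjective' (Ideal.Quotient.mk _) Ideal.Quotient.mk_surjective
  have hinj : Module.Injective (L ⧸ cL) (L ⧸ cL) := by
    obtain ⟨q, hq, hqQ⟩ : ∃ q : Ideal (R ⧸ c₀), q.IsPrime ∧ q.comap (Ideal.Quotient.mk c₀) = Q :=
      ⟨Q.map (Ideal.Quotient.mk c₀), Groth.Misc15.Unmixed.isPrime_map_mk hQ.1.2,
        Groth.Misc15.Unmixed.comap_map_mk hQ.1.2⟩
    subst hqQ
    obtain ⟨e⟩ := nonempty_quotient_atPrime_equiv c₀ q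
    haveI : IsNoetherianRing (Localization.AtPrime q) :=
      IsLocalization.isNoetherianRing q.primeCompl _ inferInstance
    obtain ⟨d, hd, hd1, -⟩ := exists_dim (L ⧸ cL)
      ((exists_injLT_iff_of_ringEquiv e).2 (Groth.Misc15.LinkLocal.injLT_loc q))
    rw [ringKrullDimZero_iff_ringKrullDim_eq_zero.1 ((@isArtinianRing_iff_isNoetherianRing_krullDimLE_zero (L ⧸ cL) _).1 hart).2] at hd
    obtain rfl : 0 = d := by exact_mod_cast hd
    exact injLT_one_iff.1 hd1
  have hann : Submodule.annihilator ((I.map (algebraMap R L)).map (Ideal.Quotient.mk cL)) =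
      ((c₀.colon (I : Set R)).map (algebraMap R L)).map (Ideal.Quotient.mk cL) := by
    haveI : IsLocalization (Algebra.algebraMapSubmonoid (R ⧸ c₀) Q.primeCompl) (L ⧸ cL) := by
      infer_instance
    have h := Groth.Misc15.LinkLocal.annihilator_map
      (Algebra.algebraMapSubmonoid (R ⧸ c₀) Q.primeCompl) (L ⧸ cL) (I.map (Ideal.Quotient.mk c₀))
    rw [Groth.Misc15.PolyLink.colon_map hle] at h
    simp only [Ideal.map_map] at h ⊢
    exact h
  have hc0 : (c₀.map (algebraMap R L)).map (Ideal.Quotient.mk cL) = ⊥ := Ideal.map_quotient_self cL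
  have h := length_add hinj ((I.map (algebraMap R L)).map (Ideal.Quotient.mk cL))
  rw [hann] at h
  refine h.trans ?_
  rw [hc0]
  exact (Submodule.quotEquivOfEqBot (⊥ : Ideal (L ⧸ cL)) rfl).length_eq.symm

/-- The top coefficient of the Hilbert polynomial of a linked ideal. -/
theorem coeff_link (c : ℕ) {c₀ I : Ideal R}
    [LocCoh.IsGorensteinRing ((MvPolynomial (Fin (n + 1)) K) ⧸ c₀)]
    (h₀ : c₀.IsHomogeneous (GrSyz.stdGr K (Fin (n + 1)))) (hI : I.IsHomogeneous (GrSyz.stdGr K (Fin (n + 1))))
    (hJ : (c₀.colon (I : Set R)).IsHomogeneous (GrSyz.stdGr K (Fin (n + 1))))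
    (hc₀ : (c : ℕ∞) ≤ c₀.height) (hcn : c ≤ n) (hle : c₀ ≤ I) :
    ∀ e, n - c ≤ e → Calg5.HilbertFn.Num e fun j : ℕ =>
      Groth.Misc15.HilbLead.hf c₀ j - Groth.Misc15.HilbLead.hf I j -
        Groth.Misc15.HilbLead.hf (c₀.colon (I : Set R)) j := by
  classical
  let T := (Ideal.finite_minimalPrimes_of_isNoetherianRing _ c₀).toFinset.filter fun Q => Q.height = (c : ℕ∞)
  have hT : ∀ Q, Q ∈ T ↔ Q ∈ c₀.minimalPrimes ∧ Q.height = c := fun Q => by simp [T]
  refine fun e he => Groth.Misc15.HilbLead.num_mono he ?_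
  have key := fun (B : Ideal R) (hB : B.IsHomogeneous (GrSyz.stdGr K (Fin (n + 1)))) (h : c₀ ≤ B) =>
    Groth.Misc15.HilbLead.num_assoc c₀ c hc₀ hcn T hT B hB h
  refine Calg5.HilbertFn.Num.congr (Calg5.HilbertFn.Num.sub (Calg5.HilbertFn.Num.sub
    (key c₀ h₀ le_rfl) (key I hI hle)) (key _ hJ (Groth.Misc15.Linkage.le_colon_self I)))
    ⟨0, fun j _ => ?_⟩
  have hs : ∑ Q ∈ T, (Groth.Misc15.HilbLead.mult Q c₀ : ℚ) * Groth.Misc15.HilbLead.hf Q j =
      (∑ Q ∈ T, (Groth.Misc15.HilbLead.mult Q I : ℚ) * Groth.Misc15.HilbLead.hf Q j) +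
      ∑ Q ∈ T, (Groth.Misc15.HilbLead.mult Q (c₀.colon (I : Set R)) : ℚ) *
        Groth.Misc15.HilbLead.hf Q j := by
    rw [← Finset.sum_add_distrib]
    refine Finset.sum_congr rfl fun Q hQ => ?_
    have hQm := ((hT Q).1 hQ).1
    haveI := hQm.isPrime
    rw [Groth.Misc15.HilbLead.mult_eq, Groth.Misc15.HilbLead.mult_eq, Groth.Misc15.HilbLead.mult_eq,
      ← loclen_link hle hQm, ENat.toNat_add (Groth.Misc15.HilbLead.loclen_ne_top c₀ hQm hle)
        (Groth.Misc15.HilbLead.loclen_ne_top c₀ hQm (Groth.Misc15.Linkage.le_colon_self I))]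
    push_cast
    ring
  show _ = _
  rw [hs]
  ring

end Poly

end Groth.Misc15.GorLength
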