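import Mathlib
import Groth.Agent.Misc15.CMUnmixed
import Groth.Agent.Gorenstein.Regular

/-! Linkage by Gorenstein ideals and basic double links. -/

set_option autoImplicit false

universe u

open IsLocalRing

namespace Groth.Misc15.Linkage

open Unmixed

variable {R : Type u} [CommRing R] [IsNoetherianRing R]

theorem cm_of_gor (A : Type u) [CommRing A] [LocCoh.IsGorensteinRing A] :
    LocCoh.IsCohenMacaulayRing A :=
  { isCohenMacaulayLocalRing_localization := fun p _ => by
      haveI := LocCoh.IsGorensteinRing.isGorensteinLocalRing_localization (A := A) p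
      exact GrothGoren.isCohenMacaulay _ ((GrothGoren.isGorenstein_iff _).1 inferInstance) }

/-- Double annihilator in a self-injective ring, at an ideal given by generators. -/
theorem mem_span_of_annihilates {C : Type u} [CommRing C] (hC : Module.Injective C C)
    {ι : Type u} [Fintype ι] (g : ι → C) {x : C} (hx : ∀ c : C, (∀ i, c * g i = 0) → c * x = 0) :
    x ∈ Submodule.span C (Set.range g) := by
  classical
  let f : C →ₗ[C] (ι → C) := LinearMap.pi fun i => LinearMap.toSpanSingleton C C (g i)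
  let f' := Submodule.liftQ (LinearMap.ker f) f le_rfl
  have hle : LinearMap.ker f ≤ LinearMap.ker (LinearMap.toSpanSingleton C C x) := fun c hc => by
    rw [LinearMap.mem_ker] at hc ⊢
    simpa using hx c fun i => congrFun hc i
  let h := Submodule.liftQ (LinearMap.ker f) (LinearMap.toSpanSingleton C C x) hle
  obtain ⟨E, hE⟩ := hC.out f' (LinearMap.ker_eq_bot.1 (Submodule.ker_liftQ_eq_bot _ _ le_rfl le_rfl)) h
  have h1 : E g = x := by
    have := hE (Submodule.Quotient.mk 1)
    rw [Submodule.liftQ_apply, Submodule.liftQ_apply, LinearMap.toSpanSingleton_apply, one_smul] at this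
    convert this using 2
    funext i
    simp [f]
  rw [← h1]
  have hg : g = ∑ i, g i • (Pi.single i (1 : C) : ι → C) := by
    funext j
    simp [Finset.sum_apply, Pi.single_apply]
  have hEg : E g = ∑ i, E (g i • (Pi.single i (1 : C) : ι → C)) := by
    conv_lhs => rw [hg, map_sum]
  rw [hEg]
  refine sum_mem fun i _ => ?_
  rw [map_smul, smul_eq_mul, mul_comm]
  exact Submodule.smul_mem _ _ (Submodule.subset_span ⟨i, rfl⟩)

variable {c₀ : Ideal R}

theorem le_colon_self (I : Ideal R) : c₀ ≤ c₀.colon (I : Set R) := fun x hx => by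
  rw [Submodule.mem_colon]
  exact fun p _ => by rw [smul_eq_mul]; exact c₀.mul_mem_right _ hx

theorem colon_ne_top {I : Ideal R} (h : ¬ I ≤ c₀) : c₀.colon (I : Set R) ≠ ⊤ := fun e => h fun x hx => by
  have : (1 : R) ∈ c₀.colon (I : Set R) := by rw [e]; trivial
  simpa using Submodule.mem_colon.1 this x hx

theorem colon_unmixed {c : ℕ∞} (hu : ∀ Q ∈ associatedPrimes R (R ⧸ c₀), Q.height = c) {I : Ideal R}
    (h : ¬ I ≤ c₀) : (c₀.colon (I : Set R)).height = c ∧
      ∀ p ∈ associatedPrimes R (R ⧸ c₀.colon (I : Set R)), p.height = c :=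
  ⟨height_eq_of_forall (colon_ne_top h) fun p hp => hu p (ass_colon c₀ I hp),
    fun p hp => hu p (ass_colon c₀ I hp)⟩

theorem minimal_of_height_le {I Q : Ideal R} [Q.IsPrime] (hIQ : I ≤ Q) {c : ℕ∞} (hc : c ≠ ⊤)
    (hI : ∀ P ∈ I.minimalPrimes, c ≤ P.height) (hQ : Q.height = c) : Q ∈ I.minimalPrimes := by
  obtain ⟨P, hP, hPQ⟩ := Ideal.exists_minimalPrimes_le hIQ
  haveI := hP.isPrime
  rcases hPQ.eq_or_lt with rfl | hlt
  · exact hP
  · have h1 := Ideal.height_add_one_le_of_lt_of_isPrime hlt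
    have h2 : c + 1 ≤ c := (add_le_add (hI P hP) le_rfl).trans (h1.trans hQ.le)
    exact absurd ((ENat.add_one_le_iff hc).1 h2) (lt_irrefl c)

theorem inf_eq_of_disjoint {c : ℕ} (hu : ∀ Q ∈ associatedPrimes R (R ⧸ c₀), Q.height = c)
    (hc : c₀.height = c) {I J : Ideal R} (hIJ : c₀.colon (I : Set R) = J)
    (hJI : c₀.colon (J : Set R) = I)
    (hdisj : Disjoint (associatedPrimes R (R ⧸ I)) (associatedPrimes R (R ⧸ J))) :
    I ⊓ J = c₀ := by
  refine le_antisymm (fun x hx => ?_) (le_inf (hJI ▸ le_colon_self J) (hIJ ▸ le_colon_self I))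
  by_contra hxc
  have hne : Ideal.Quotient.mk c₀ x ≠ 0 := fun h => hxc (Ideal.Quotient.eq_zero_iff_mem.1 h)
  obtain ⟨Q, hQ, hle⟩ := exists_le_isAssociatedPrime_of_isNoetherianRing R _ hne
  haveI := hQ.isPrime
  have hmem : ∀ r : R, r * x ∈ c₀ → r ∈ Q := fun r hr => hle (by
    rw [Submodule.mem_colon_singleton, Submodule.mem_bot, Algebra.smul_def]
    show Ideal.Quotient.mk c₀ r * _ = 0
    rw [← map_mul, Ideal.Quotient.eq_zero_iff_mem]; exact hr)
  have hIQ : I ≤ Q := fun r hr => hmem r (by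
    rw [← hJI] at hr; exact Submodule.mem_colon.1 hr x hx.2)
  have hJQ : J ≤ Q := fun r hr => hmem r (by
    rw [← hIJ] at hr; exact Submodule.mem_colon.1 hr x hx.1)
  have hgen : ∀ {L : Ideal R}, c₀ ≤ L → ∀ P ∈ L.minimalPrimes, (c : ℕ∞) ≤ P.height := fun {L} hL P hP =>
    hc ▸ Ideal.height_mono (hL.trans hP.1.2)
  refine (Set.disjoint_left.1 hdisj (?_ : Q ∈ _)) ?_
  · exact mem_ass_of_minimal
      (minimal_of_height_le hIQ (ENat.natCast_ne_top c) (hgen (hJI ▸ le_colon_self J)) (hu Q hQ))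
  · exact mem_ass_of_minimal
      (minimal_of_height_le hJQ (ENat.natCast_ne_top c) (hgen (hIJ ▸ le_colon_self I)) (hu Q hQ))

theorem double_colon [LocCoh.IsGorensteinRing (R ⧸ c₀)] {c : ℕ} (hc : c₀.height = c) {I : Ideal R}
    (hle : c₀ ≤ I) (hI : ∀ p ∈ associatedPrimes R (R ⧸ I), p.height = c) :
    c₀.colon ((c₀.colon (I : Set R) : Ideal R) : Set R) = I := by
  classical
  refine le_antisymm (fun x hx => ?_) fun x hx => by
    rw [Submodule.mem_colon]
    intro p hp
    have := Submodule.mem_colon.1 hp x hx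
    rwa [smul_eq_mul, mul_comm]
  by_contra hxI
  have hne : Ideal.Quotient.mk I x ≠ 0 := fun h => hxI (Ideal.Quotient.eq_zero_iff_mem.1 h)
  obtain ⟨Q, hQ, hQle⟩ := exists_le_isAssociatedPrime_of_isNoetherianRing R _ hne
  haveI := hQ.isPrime
  have hIQ : I ≤ Q := (exists_annihilated hQ).1
  have hmin : Q ∈ c₀.minimalPrimes := minimal_of_height_le (hle.trans hIQ) (ENat.natCast_ne_top c)
    (fun P hP => hc ▸ Ideal.height_mono hP.1.2) (hI Q hQ)
  haveI := cm_of_gor (R ⧸ c₀)
  haveI := isPrime_map_mk (hle.trans hIQ)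
  set q := Q.map (Ideal.Quotient.mk c₀)
  set C := Localization.AtPrime q
  haveI := LocCoh.IsGorensteinRing.isGorensteinLocalRing_localization (A := R ⧸ c₀) q
  have hinj : Module.Injective C C := by
    obtain ⟨d, hd, hd1, -⟩ := GrothGoren.exists_dim C ((GrothGoren.isGorenstein_iff C).1 inferInstance)
    have hq0 : q.height = 0 := by
      rw [Ideal.height_eq_zero_iff]
      refine ⟨⟨inferInstance, bot_le⟩, fun I' ⟨hI', _⟩ hle' => ?_⟩
      haveI := hI'
      have h1 : Q ≤ I'.comap (Ideal.Quotient.mk c₀) := hmin.2 ⟨inferInstance, fun y hy => by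
        rw [Ideal.mem_comap, Ideal.Quotient.eq_zero_iff_mem.2 hy]; exact zero_mem _⟩
        (by rw [← comap_map_mk (hle.trans hIQ)]; exact Ideal.comap_mono hle')
      exact Ideal.map_le_iff_le_comap.2 h1
    rw [IsLocalization.AtPrime.ringKrullDim_eq_height q C, hq0] at hd
    have : d = 0 := by exact_mod_cast hd.symm
    subst this
    exact GrothGoren.injLT_one_iff.1 hd1
  obtain ⟨s, hs⟩ := (IsNoetherian.noetherian I : I.FG)
  let φ : R →+* C := (algebraMap _ C).comp (Ideal.Quotient.mk c₀)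
  have hφ0 : ∀ r : R, φ r = 0 ↔ ∃ u, u ∉ Q ∧ u * r ∈ c₀ := by
    intro r
    show algebraMap (R ⧸ c₀) C (Ideal.Quotient.mk c₀ r) = 0 ↔ _
    rw [IsLocalization.map_eq_zero_iff q.primeCompl]
    constructor
    · rintro ⟨v, hv⟩
      obtain ⟨u, hu⟩ := Ideal.Quotient.mk_surjective v.1
      exact ⟨u, fun h => v.2 (hu ▸ Ideal.mem_map_of_mem _ h), by
        rwa [← hu, ← map_mul, Ideal.Quotient.eq_zero_iff_mem] at hv⟩
    · rintro ⟨u, hu, hu'⟩
      refine ⟨⟨Ideal.Quotient.mk c₀ u, fun h => hu ((comap_map_mk (hle.trans hIQ)).le h)⟩, ?_⟩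
      rw [← map_mul, Ideal.Quotient.eq_zero_iff_mem]; exact hu'
  have hspan : φ x ∈ Submodule.span C (Set.range fun g : s => φ g.1) := by
    refine mem_span_of_annihilates hinj _ fun z hz => ?_
    obtain ⟨b, t, rfl⟩ := IsLocalization.exists_mk'_eq q.primeCompl z
    obtain ⟨b, rfl⟩ := Ideal.Quotient.mk_surjective b
    have hg : ∀ g : s, ∃ u, u ∉ Q ∧ u * (b * g.1) ∈ c₀ := fun g => by
      rw [← hφ0, map_mul]
      show algebraMap _ C (Ideal.Quotient.mk c₀ b) * _ = 0
      rw [← IsLocalization.mk'_spec C (Ideal.Quotient.mk c₀ b) t, mul_right_comm, hz g, zero_mul]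
    choose u hu hu' using hg
    have hU : ∏ g : s, u g ∉ Q := fun h => by
      obtain ⟨g, -, hg⟩ := (Ideal.IsPrime.prod_mem_iff).1 h
      exact hu g hg
    have hcol : (∏ g : s, u g) * b ∈ c₀.colon (I : Set R) := by
      rw [Submodule.mem_colon]
      intro g hg
      rw [SetLike.mem_coe, ← hs] at hg
      induction hg using Submodule.span_induction with
      | mem g hg =>
        rw [smul_eq_mul, mul_assoc, ← Finset.mul_prod_erase _ _ (Finset.mem_univ ⟨g, hg⟩), mul_assoc,
          mul_left_comm]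
        exact c₀.mul_mem_left _ (hu' ⟨g, hg⟩)
      | zero => simp
      | add a b _ _ ha hb => rw [smul_eq_mul, mul_add]; exact add_mem ha hb
      | smul a x _ hx => rw [smul_eq_mul, smul_eq_mul, mul_left_comm]; exact c₀.mul_mem_left a hx
    have hbx : φ (b * x) = 0 := (hφ0 _).2 ⟨_, hU, by
      have := Submodule.mem_colon.1 hx _ hcol
      rwa [smul_eq_mul, mul_comm, mul_assoc] at this⟩
    rw [← (IsLocalization.map_units C t).mul_left_eq_zero, mul_right_comm, IsLocalization.mk'_spec,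
      ← hbx, map_mul]
    rfl
  have hIC : ∀ y ∈ Submodule.span C (Set.range fun g : s => φ g.1),
      ∃ v, v ∉ Q ∧ ∃ i ∈ I, φ v * y = φ i := by
    intro y hy
    induction hy using Submodule.span_induction with
    | mem y hy =>
      obtain ⟨g, rfl⟩ := hy
      exact ⟨1, (‹Q.IsPrime›).one_notMem, g.1, hs ▸ Submodule.subset_span g.2, by
        rw [map_one, one_mul]⟩
    | zero => exact ⟨1, (‹Q.IsPrime›).one_notMem, 0, zero_mem _, by simp⟩
    | add a b _ _ ha hb =>
      obtain ⟨v, hv, i, hi, hvi⟩ := ha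
      obtain ⟨w, hw, j, hj, hwj⟩ := hb
      refine ⟨v * w, (‹Q.IsPrime›.mul_mem_iff_mem_or_mem).not.2 (by tauto), w * i + v * j,
        add_mem (I.mul_mem_left _ hi) (I.mul_mem_left _ hj), ?_⟩
      rw [map_add, map_mul, map_mul, map_mul, ← hvi, ← hwj]; ring
    | smul z y _ hy =>
      obtain ⟨v, hv, i, hi, hvi⟩ := hy
      obtain ⟨b, t, rfl⟩ := IsLocalization.exists_mk'_eq q.primeCompl z
      obtain ⟨b, rfl⟩ := Ideal.Quotient.mk_surjective b
      obtain ⟨w, hw⟩ := Ideal.Quotient.mk_surjective t.1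
      have hwQ : w ∉ Q := fun h => t.2 (hw ▸ Ideal.mem_map_of_mem _ h)
      refine ⟨v * w, (‹Q.IsPrime›.mul_mem_iff_mem_or_mem).not.2 (by tauto), b * i,
        I.mul_mem_left _ hi, ?_⟩
      have hspec : IsLocalization.mk' C (Ideal.Quotient.mk c₀ b) t * φ w = φ b := by
        show _ * algebraMap _ C (Ideal.Quotient.mk c₀ w) = _
        rw [hw]; exact IsLocalization.mk'_spec C _ t
      rw [smul_eq_mul, map_mul, map_mul, ← hvi, ← hspec]; ring
  obtain ⟨v, hv, i, hi, hvi⟩ := hIC _ hspan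
  rw [← map_mul, ← sub_eq_zero, ← map_sub, hφ0] at hvi
  obtain ⟨u, hu, hu'⟩ := hvi
  have hmem : u * v * x ∈ I := by
    have := add_mem (hle hu') (I.mul_mem_left u hi)
    rwa [mul_sub, sub_add_cancel, ← mul_assoc] at this
  have : u * v ∈ Q := hQle (by
    rw [Submodule.mem_colon_singleton, Submodule.mem_bot, Algebra.smul_def]
    show Ideal.Quotient.mk I _ * _ = 0
    rw [← map_mul, Ideal.Quotient.eq_zero_iff_mem]; exact hmem)
  rcases Ideal.IsPrime.mem_or_mem ‹_› this with h | h
  · exact hu h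
  · exact hv h

section DoubleLink

variable {J I : Ideal R} {f : R} {h : ℕ}

theorem regular_of_colon (hJf : J.colon {f} = J) : ∀ r, f * r ∈ J → r ∈ J := fun r hr => by
  rw [← hJf, Submodule.mem_colon_singleton, smul_eq_mul, mul_comm]; exact hr

theorem height_link (hJI : J ≤ I) (hmin : ∀ P ∈ J.minimalPrimes, P.height = h)
    (hIh : I.height = h + 1) (hf : ∀ r, f * r ∈ J → r ∈ J) :
    (J ⊔ Ideal.span {f} * I).height = h + 1 := by
  refine le_antisymm (hIh ▸ Ideal.height_mono (sup_le hJI Ideal.mul_le_right)) ?_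
  rw [Ideal.height_eq_inf_minimalPrimes]
  refine le_iInf₂ fun P hP => ?_
  haveI := hP.isPrime
  rcases (Ideal.IsPrime.mul_le ‹_›).1 (le_sup_right.trans hP.1.2) with hfP | hIP
  · obtain ⟨P', hP', hle⟩ := Ideal.exists_minimalPrimes_le (le_sup_left.trans hP.1.2 : J ≤ P)
    haveI := hP'.isPrime
    have hlt : P' < P := lt_of_le_of_ne hle fun e => by
      obtain ⟨-, b, hb⟩ := exists_annihilated (mem_ass_of_minimal hP')
      obtain ⟨y, rfl⟩ := Ideal.Quotient.mk_surjective b
      have h1 := (hb f).1 (e ▸ hfP (Ideal.mem_span_singleton_self f))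
      rw [← map_mul, Ideal.Quotient.eq_zero_iff_mem] at h1
      exact (‹P'.IsPrime›).one_notMem
        ((hb 1).2 (by rw [Ideal.Quotient.eq_zero_iff_mem.2 (hf y h1), mul_zero]))
    exact hmin P' hP' ▸ Ideal.height_add_one_le_of_lt_of_isPrime hlt
  · exact hIh ▸ Ideal.height_mono hIP

theorem unmixed_link_iff [IsRegularRing R] [LocCoh.IsCohenMacaulayRing (R ⧸ J)] (hJI : J ≤ I)
    (hmin : ∀ P ∈ J.minimalPrimes, P.height = h) (hf : ∀ r, f * r ∈ J → r ∈ J) :
    (∀ p ∈ associatedPrimes R (R ⧸ I), p.height = h + 1) ↔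
      ∀ p ∈ associatedPrimes R (R ⧸ (J ⊔ Ideal.span {f} * I)), p.height = h + 1 := by
  set L := J ⊔ Ideal.span {f} * I
  let m : R →ₗ[R] R ⧸ L := LinearMap.toSpanSingleton R (R ⧸ L) (Ideal.Quotient.mk L f)
  have hm : ∀ r, m r = Ideal.Quotient.mk L (r * f) := fun r => by
    rw [LinearMap.toSpanSingleton_apply, Algebra.smul_def, map_mul]; rfl
  have hkerm : LinearMap.ker m = I := by
    ext r
    rw [LinearMap.mem_ker, hm, Ideal.Quotient.eq_zero_iff_mem, Submodule.mem_sup]
    constructor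
    · rintro ⟨j, hj, y, hy, hjy⟩
      obtain ⟨i, hi, rfl⟩ := Ideal.mem_span_singleton_mul.1 hy
      have h1 : r - i ∈ J := hf _ (by rw [show f * (r - i) = j by linear_combination -hjy]; exact hj)
      simpa using add_mem (hJI h1) hi
    · exact fun hr => ⟨0, zero_mem _, f * r, Ideal.mem_span_singleton_mul.2 ⟨r, hr, rfl⟩,
        by rw [zero_add, mul_comm]⟩
  let m' := Submodule.liftQ I m hkerm.ge
  have hm' : Function.Injective m' :=
    LinearMap.ker_eq_bot.1 (Submodule.ker_liftQ_eq_bot _ _ _ hkerm.le)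
  have hle : L ≤ J ⊔ Ideal.span {f} := sup_le_sup_left Ideal.mul_le_left J
  let g := Submodule.mapQ L (J ⊔ Ideal.span {f}) LinearMap.id hle
  have hex : Function.Exact m' g := by
    intro z
    obtain ⟨z, rfl⟩ := Submodule.Quotient.mk_surjective _ z
    rw [Submodule.mapQ_apply, LinearMap.id_apply, Submodule.Quotient.mk_eq_zero]
    constructor
    · intro hz
      obtain ⟨j, hj, y, hy, rfl⟩ := Submodule.mem_sup.1 hz
      obtain ⟨a, rfl⟩ := Ideal.mem_span_singleton'.1 hy
      refine ⟨Submodule.Quotient.mk a, ?_⟩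
      rw [Submodule.liftQ_apply, hm]
      refine (Ideal.Quotient.eq.2 ?_ : Ideal.Quotient.mk L (a * f) = Ideal.Quotient.mk L (j + a * f))
      rw [sub_add_cancel_right]
      exact Ideal.mem_sup_left (neg_mem hj)
    · rintro ⟨a, ha⟩
      obtain ⟨a, rfl⟩ := Submodule.Quotient.mk_surjective _ a
      rw [Submodule.liftQ_apply, hm] at ha
      have h1 := hle ((Ideal.Quotient.eq.1 (ha : Ideal.Quotient.mk L (a * f) = Ideal.Quotient.mk L z)))
      have h2 : a * f ∈ J ⊔ Ideal.span {f} :=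
        Ideal.mem_sup_right (Ideal.mem_span_singleton'.2 ⟨a, rfl⟩)
      simpa using sub_mem h2 h1
  constructor
  · intro hI p hp
    rcases associatedPrimes.subset_union_of_exact hm' hex hp with h' | h'
    · exact hI p h'
    · exact height_ass_sup_span hmin hf h'
  · exact fun hL p hp => hL p (associatedPrimes.subset_of_injective hm' hp)

end DoubleLink

end Groth.Misc15.Linkage
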