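import Groth.Agent.PropsBasic.GorResidual
import Groth.Agent.Misc15.Linkage
import Groth.Agent.Gorenstein.RingEquiv

/-!
Linkage inside a Gorenstein local ring: annihilators of maximal Cohen–Macaulay quotients.
-/

set_option autoImplicit false
set_option linter.style.haveILetI false

universe u

open CategoryTheory IsLocalRing GrothGoren Groth.LocCohBase Groth.LocDual RingTheory.Sequence
  Groth.GorResidual
open scoped Pointwise

namespace Groth.Misc15.GorLink

variable {A : Type u} [CommRing A] [IsLocalRing A] [IsNoetherianRing A]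

theorem smul_top_ne_top (I : Ideal A) (hI : I ≠ ⊤) :
    maximalIdeal A • (⊤ : Submodule A (A ⧸ I)) ≠ ⊤ := by
  haveI : Nontrivial (A ⧸ I) := Ideal.Quotient.nontrivial_iff.2 hI
  exact smul_maximalIdeal_ne_top _ (maximalIdeal.isMaximal A).ne_top

theorem exists_regular_seq (hA : ∃ m, InjLT A A m) {r : ℕ} (hr : ringKrullDim A = r) :
    ∃ rs : List A, rs.length = r ∧ IsWeaklyRegular A rs ∧ ∀ x ∈ rs, x ∈ maximalIdeal A := by
  obtain ⟨d, hd, -, -, hdep⟩ := exists_dim A hA
  rw [hr] at hd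
  obtain rfl : r = d := by exact_mod_cast hd
  have htop : maximalIdeal A • (⊤ : Submodule A A) ≠ ⊤ := by
    simpa using (maximalIdeal.isMaximal A).ne_top
  exact (le_idealDepth_iff_exists _ htop r).1 hdep.ge

/-- The annihilator of a maximal Cohen–Macaulay quotient again gives one. -/
theorem isMaxDepth_annihilator (hA : ∃ m, InjLT A A m) {I : Ideal A} (hI : IsMaxDepth I)
    (hJ : Submodule.annihilator I ≠ ⊤) : IsMaxDepth (Submodule.annihilator I) := by
  intro r hr
  obtain ⟨rs, hlen, hreg, hmem⟩ := exists_regular_seq hA hr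
  refine (le_idealDepth_iff_exists _ (smul_top_ne_top _ hJ) r).2 ⟨rs, hlen, ?_, hmem⟩
  by_cases hI1 : I = ⊤
  · have h0 : Submodule.annihilator I = ⊥ := by
      rw [hI1, eq_bot_iff]
      intro a ha
      exact (Submodule.mem_bot A).2
        (by simpa using Submodule.mem_annihilator.1 ha 1 Submodule.mem_top)
    exact ((Submodule.quotEquivOfEqBot _ h0).isWeaklyRegular_congr rs).2 hreg
  · exact (main r rs hlen hA I hI hI1 hreg hmem).2.2.2

/-- Self-injectivity passes to the quotient by the annihilator of a principal ideal. -/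
theorem injective_quotient (hinj : Module.Injective A A) {J : Ideal A} {f : A}
    (hf : Submodule.annihilator J = Ideal.span {f}) : Module.Injective (A ⧸ J) (A ⧸ J) := by
  classical
  obtain ⟨s, hs⟩ := (IsNoetherian.noetherian J : J.FG)
  have hann : ∀ a, a * f = 0 ↔ a ∈ J := by
    refine fun a => ⟨fun ha => ?_, fun ha => ?_⟩
    · have h := Groth.Misc15.Linkage.mem_span_of_annihilates hinj (fun g : s => (g : A)) (x := a)
        fun c hc => by
          have hcJ : c ∈ Submodule.annihilator J := by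
            rw [← hs]
            exact (Submodule.mem_annihilator_span _ c).2 fun g => hc g
          rw [hf, Ideal.mem_span_singleton'] at hcJ
          obtain ⟨b, rfl⟩ := hcJ
          rw [mul_assoc, mul_comm f, ha, mul_zero]
      rw [← hs]
      exact (Submodule.span_mono (by rintro _ ⟨g, rfl⟩; exact g.2)) h
    · have hfJ : f ∈ Submodule.annihilator J := hf ▸ Ideal.mem_span_singleton_self f
      rw [mul_comm]
      exact Submodule.mem_annihilator.1 hfJ a ha
  let e : (A ⧸ J) →ₗ[A] A := Submodule.liftQ J (LinearMap.toSpanSingleton A A f) fun a ha =>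
    (hann a).2 ha
  have he : ∀ a, e (Ideal.Quotient.mk J a) = a * f := fun a => rfl
  have hei : Function.Injective e := (injective_iff_map_eq_zero e).2 fun x hx => by
    obtain ⟨a, rfl⟩ := Ideal.Quotient.mk_surjective x
    exact Ideal.Quotient.eq_zero_iff_mem.2 ((hann a).1 hx)
  refine (Module.Baer.iff_injective).1 fun 𝔞 φ => ?_
  let π : A →ₗ[A] A ⧸ J := Submodule.mkQ J
  let 𝔟 : Ideal A := (𝔞.restrictScalars A).comap π
  let ψ : 𝔟 →ₗ[A] A := e ∘ₗ (φ.restrictScalars A) ∘ₗ
    ((π ∘ₗ 𝔟.subtype).codRestrict (𝔞.restrictScalars A) fun a => a.2)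
  obtain ⟨Ψ, hΨ⟩ := (Module.Baer.iff_injective).2 hinj 𝔟 ψ
  have hval : ∀ a (ha : a ∈ 𝔟), a * Ψ 1 = e (φ ⟨π a, ha⟩) := fun a ha => by
    rw [← smul_eq_mul, ← map_smul, smul_eq_mul, mul_one, hΨ a ha]
    rfl
  have hmem : Ψ 1 ∈ Submodule.annihilator J := Submodule.mem_annihilator.2 fun j hj => by
    have hj0 : π j = 0 := (Submodule.Quotient.mk_eq_zero J).2 hj
    have hjb : j ∈ 𝔟 := by
      show π j ∈ 𝔞
      rw [hj0]
      exact zero_mem _
    rw [smul_eq_mul, mul_comm, hval j hjb,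
      show (⟨π j, hjb⟩ : 𝔞) = 0 from Subtype.ext hj0, map_zero, map_zero]
  rw [hf, Ideal.mem_span_singleton'] at hmem
  obtain ⟨b, hb⟩ := hmem
  refine ⟨LinearMap.toSpanSingleton (A ⧸ J) (A ⧸ J) (Ideal.Quotient.mk J b), fun y hy => ?_⟩
  obtain ⟨a, rfl⟩ := Ideal.Quotient.mk_surjective y
  refine hei ?_
  show e (Ideal.Quotient.mk J a * Ideal.Quotient.mk J b) = _
  rw [← map_mul, he, mul_assoc, hb]
  exact hval a hy

/-- If `A/J` is maximal Cohen–Macaulay with principal annihilator it is Gorenstein. -/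
theorem injLT_quotient : ∀ (r : ℕ) (A : Type u) [CommRing A] [IsLocalRing A] [IsNoetherianRing A],
    ringKrullDim A = r → (∃ m, InjLT A A m) → ∀ (J : Ideal A) (f : A), J ≠ ⊤ → IsMaxDepth J →
      Submodule.annihilator J = Ideal.span {f} → ∃ m, InjLT (A ⧸ J) (A ⧸ J) m := by
  intro r
  induction r with
  | zero =>
    intro A _ _ _ hr hA J f _ _ hf
    obtain ⟨d, hd, hd1, -, -⟩ := exists_dim A hA
    rw [hr] at hd
    obtain rfl : 0 = d := by exact_mod_cast hd
    exact ⟨1, injLT_one_iff.2 (injective_quotient (injLT_one_iff.1 hd1) hf)⟩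
  | succ r ih =>
    intro A _ _ _ hr hA J f hJ hmax hf
    obtain ⟨rs, hlen, hreg, hmem⟩ := exists_regular_seq hA hr
    obtain ⟨x, rs, rfl⟩ := List.exists_cons_of_length_eq_add_one hlen
    have hx : IsSMulRegular A x := ((isWeaklyRegular_cons_iff A x rs).1 hreg).1
    have hxm : x ∈ maximalIdeal A := hmem x (by simp)
    set S := Ideal.span {x} with hS
    haveI : Nontrivial (A ⧸ S) := Ideal.Quotient.nontrivial_iff.2 fun h =>
      (maximalIdeal.isMaximal A).ne_top (top_le_iff.1 (h ▸ (Ideal.span_singleton_le_iff_mem _).2 hxm))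
    haveI : IsLocalRing (A ⧸ S) := .of_surjective' (Ideal.Quotient.mk S) Ideal.Quotient.mk_surjective
    set π := Ideal.Quotient.mk S with hπ
    have hπs : Function.Surjective π := Ideal.Quotient.mk_surjective
    have hd' : ringKrullDim (A ⧸ S) = r := by
      have hd := ringKrullDim_quotient_span_singleton_succ_eq_ringKrullDim hx hxm
      rw [hr] at hd
      obtain ⟨e, he, -⟩ := exists_dim (A ⧸ S) ((exists_injLT_quotient_iff A hxm hx).1 hA)
      rw [he] at hd ⊢
      norm_cast at hd ⊢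
      omega
    have hJx : J ⊔ S ≠ ⊤ := fun h => (maximalIdeal.isMaximal A).ne_top (top_le_iff.1
      (h ▸ sup_le (IsLocalRing.le_maximalIdeal hJ) ((Ideal.span_singleton_le_iff_mem _).2 hxm)))
    have hJ' : J.map π ≠ ⊤ := fun h => hJx (by
      have := congrArg (Ideal.comap π) h
      rwa [Ideal.comap_map_of_surjective' _ hπs, Ideal.mk_ker, Ideal.comap_top] at this)
    have hf' : Submodule.annihilator (J.map π) = Ideal.span {π f} := by
      refine le_antisymm (fun a ha => ?_) ((Ideal.span_singleton_le_iff_mem _).2 ?_)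
      · obtain ⟨a, rfl⟩ := hπs a
        have h : a ∈ Submodule.annihilator J ⊔ S :=
          colon_le hA hmax hxm hx (Submodule.mem_colon.2 fun j hj => by
            have := Submodule.mem_annihilator.1 ha (π j) (Ideal.mem_map_of_mem π hj)
            rw [smul_eq_mul, ← map_mul] at this
            exact Ideal.Quotient.eq_zero_iff_mem.1 this)
        have := Ideal.mem_map_of_mem π h
        rwa [hf, Ideal.map_sup, Ideal.map_quotient_self, sup_bot_eq, Ideal.map_span,
          Set.image_singleton] at this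
      · refine Submodule.mem_annihilator.2 fun j hj => ?_
        obtain ⟨j, hj', rfl⟩ := (Ideal.mem_map_iff_of_surjective π hπs).1 hj
        have : f * j = 0 :=
          Submodule.mem_annihilator.1 (hf ▸ Ideal.mem_span_singleton_self f) j hj'
        rw [smul_eq_mul, ← map_mul, this, map_zero]
    have hG := ih (A ⧸ S) hd' ((exists_injLT_quotient_iff A hxm hx).1 hA) (J.map π) (π f) hJ'
      (isMaxDepth_map hA hmax hJ hxm hx) hf'
    haveI : Nontrivial (A ⧸ J) := Ideal.Quotient.nontrivial_iff.2 hJ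
    haveI : IsLocalRing (A ⧸ J) := .of_surjective' (Ideal.Quotient.mk J) Ideal.Quotient.mk_surjective
    have hxm' : Ideal.Quotient.mk J x ∈ maximalIdeal (A ⧸ J) := fun hu => by
      obtain ⟨y, hy⟩ := hu.exists_right_inv
      obtain ⟨y, rfl⟩ := Ideal.Quotient.mk_surjective y
      rw [← map_mul, ← map_one (Ideal.Quotient.mk J), Ideal.Quotient.eq] at hy
      refine hJx ((Ideal.eq_top_iff_one _).2 ?_)
      have h1 : x * y ∈ J ⊔ S := Ideal.mem_sup_right (Ideal.mul_mem_right _ _ (Ideal.mem_span_singleton_self x))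
      simpa using sub_mem h1 (Ideal.mem_sup_left hy)
    have hx' : IsSMulRegular (A ⧸ J) (Ideal.Quotient.mk J x) := fun a b hab =>
      isSMulRegular_quotient hA hmax hx (by simpa [Algebra.smul_def] using hab)
    haveI : Nontrivial ((A ⧸ J) ⧸ Ideal.span {Ideal.Quotient.mk J x}) :=
      Ideal.Quotient.nontrivial_iff.2 (ne_top_of_le_ne_top (maximalIdeal.isMaximal _).ne_top
        ((Ideal.span_singleton_le_iff_mem _).2 hxm'))
    haveI : IsLocalRing ((A ⧸ J) ⧸ Ideal.span {Ideal.Quotient.mk J x}) :=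
      .of_surjective' (Ideal.Quotient.mk _) Ideal.Quotient.mk_surjective
    haveI : Nontrivial ((A ⧸ S) ⧸ J.map π) := Ideal.Quotient.nontrivial_iff.2 hJ'
    haveI : IsLocalRing ((A ⧸ S) ⧸ J.map π) := .of_surjective' (Ideal.Quotient.mk _) Ideal.Quotient.mk_surjective
    refine (exists_injLT_quotient_iff (A ⧸ J) hxm' hx').2 ((exists_injLT_iff_of_ringEquiv
      ((DoubleQuot.quotQuotEquivComm S J).trans (Ideal.quotEquivOfEq ?_))).1 hG)
    rw [hS, Ideal.map_span, Set.image_singleton]

/-- The sum of two geometrically linked ideals gives a Gorenstein quotient of codimension one. -/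
theorem injLT_sup (hA : ∃ m, InjLT A A m) {I J : Ideal A} (hI : IsMaxDepth I) (hI1 : I ≠ ⊤)
    (hJ1 : J ≠ ⊤) (hJ : Submodule.annihilator I = J) (hJI : Submodule.annihilator J = I)
    (hinf : I ⊓ J = ⊥) :
    (∃ m, InjLT (A ⧸ (I ⊔ J)) (A ⧸ (I ⊔ J)) m) ∧
      ringKrullDim A ≤ ringKrullDim (A ⧸ (I ⊔ J)) + 1 := by
  obtain ⟨r₀, hr, -⟩ := exists_dim A hA
  have hmJ : IsMaxDepth J := hJ ▸ isMaxDepth_annihilator hA hI (hJ.symm ▸ hJ1)
  -- a regular element of the sum
  obtain ⟨x, hxs, hx⟩ : ∃ x ∈ I ⊔ J, IsSMulRegular A x := by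
    by_contra hcon
    push Not at hcon
    have hsub : ((I ⊔ J : Ideal A) : Set A) ⊆
        ⋃ p ∈ (↑((associatedPrimes.finite A A).toFinset) : Set (Ideal A)), (p : Set A) := fun y hy => by
      rw [Set.Finite.coe_toFinset, biUnion_associatedPrimes_eq_compl_regular]
      exact hcon y hy
    obtain ⟨p, hp, hle⟩ := (Ideal.subset_union_prime ⊥ ⊥ fun p hp _ _ =>
      ((associatedPrimes.finite A A).mem_toFinset.1 hp).1).1 hsub
    have hp' := (associatedPrimes.finite A A).mem_toFinset.1 hp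
    obtain ⟨_, a, ha⟩ := isAssociatedPrime_iff.1 hp'
    have hk : ∀ y ∈ I ⊔ J, y * a = 0 := fun y hy => by
      have h := hle hy
      rw [ha, Submodule.mem_colon_singleton] at h
      simpa using h
    have ha0 : a ∈ I ⊓ J := ⟨hJI ▸ Submodule.mem_annihilator.2 fun j hj => by
        rw [smul_eq_mul, mul_comm]; exact hk j (Ideal.mem_sup_right hj),
      hJ ▸ Submodule.mem_annihilator.2 fun i hi => by
        rw [smul_eq_mul, mul_comm]; exact hk i (Ideal.mem_sup_left hi)⟩
    rw [hinf, Submodule.mem_bot] at ha0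
    exact hp'.1.ne_top ((Ideal.eq_top_iff_one _).2 (by
      rw [ha, Submodule.mem_colon_singleton, ha0]; simp))
  have hIJ : I ⊔ J ≠ ⊤ := fun h => (maximalIdeal.isMaximal A).ne_top (top_le_iff.1
    (h ▸ sup_le (IsLocalRing.le_maximalIdeal hI1) (IsLocalRing.le_maximalIdeal hJ1)))
  have hxm : x ∈ maximalIdeal A := IsLocalRing.le_maximalIdeal hIJ hxs
  obtain ⟨i, hi, j, hj, hij⟩ := Submodule.mem_sup.1 hxs
  set S := Ideal.span {x} with hS
  have hSle : S ≤ I ⊔ J := (Ideal.span_singleton_le_iff_mem _).2 hxs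
  haveI : Nontrivial (A ⧸ S) := Ideal.Quotient.nontrivial_iff.2 fun h =>
    (maximalIdeal.isMaximal A).ne_top (top_le_iff.1 (h ▸ (Ideal.span_singleton_le_iff_mem _).2 hxm))
  haveI : IsLocalRing (A ⧸ S) := .of_surjective' (Ideal.Quotient.mk S) Ideal.Quotient.mk_surjective
  have hA' := (exists_injLT_quotient_iff A hxm hx).1 hA
  obtain ⟨r, hr', -⟩ := exists_dim (A ⧸ S) hA'
  obtain rfl : r₀ = r + 1 := by
    have hd := ringKrullDim_quotient_span_singleton_succ_eq_ringKrullDim hx hxm
    rw [hr, hr'] at hd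
    norm_cast at hd
    omega
  set π := Ideal.Quotient.mk S with hπ
  have hπs : Function.Surjective π := Ideal.Quotient.mk_surjective
  set T := (I ⊔ J).map π with hT
  have hTc : T.comap π = I ⊔ J := by
    rw [Ideal.comap_map_of_surjective' _ hπs, Ideal.mk_ker, sup_eq_left.2 hSle]
  have hT1 : T ≠ ⊤ := fun h => hIJ (by rw [← hTc, h, Ideal.comap_top])
  -- depth
  have hdep : (r : ℕ∞) ≤ LocCoh.depth A (A ⧸ (I ⊔ J)) := by
    refine (le_idealDepth_iff (maximalIdeal A) _ r).2 fun l hl => ?_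
    have hextJ : Subsingleton
        (Abelian.Ext (ModuleCat.of A (A ⧸ maximalIdeal A)) (ModuleCat.of A J) (l + 1)) := by
      refine ext_subsingleton_X₁ (hS := seqCx_shortExact J.subtype (Submodule.mkQ J)
        (LinearMap.exact_subtype_mkQ J) Subtype.val_injective (Submodule.mkQ_surjective J)) _ l
        ((le_idealDepth_iff (maximalIdeal A) (A ⧸ J) (r + 1)).1 (hmJ _ hr) l (by omega)) ?_
      obtain ⟨d, hd, -, -, hdA⟩ := exists_dim A hA
      rw [hr] at hd
      obtain rfl : r + 1 = d := by exact_mod_cast hd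
      exact (le_idealDepth_iff (maximalIdeal A) A (r + 1)).1 hdA.ge (l + 1) (by omega)
    let g : (A ⧸ I) →ₗ[A] A ⧸ (I ⊔ J) := Submodule.mapQ I (I ⊔ J) LinearMap.id le_sup_left
    let f : J →ₗ[A] A ⧸ I := Submodule.mkQ I ∘ₗ J.subtype
    have hfi : Function.Injective f := (injective_iff_map_eq_zero f).2 fun y hy => Subtype.ext (by
      have : (y : A) ∈ I ⊓ J := ⟨(Submodule.Quotient.mk_eq_zero I).1 hy, y.2⟩
      rwa [hinf, Submodule.mem_bot] at this)
    have hgs : Function.Surjective g := fun y => by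
      obtain ⟨a, rfl⟩ := Submodule.Quotient.mk_surjective _ y
      exact ⟨Submodule.Quotient.mk a, rfl⟩
    have hex : Function.Exact f g := fun y => by
      obtain ⟨a, rfl⟩ := Submodule.Quotient.mk_surjective _ y
      constructor
      · intro h
        obtain ⟨u, hu, v, hv, rfl⟩ := Submodule.mem_sup.1 ((Submodule.Quotient.mk_eq_zero _).1 h)
        exact ⟨⟨v, hv⟩, (Submodule.Quotient.eq I).2 (by simpa using hu)⟩
      · rintro ⟨v, hv⟩
        rw [← hv]
        exact (Submodule.Quotient.mk_eq_zero _).2 (Ideal.mem_sup_right v.2)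
    exact ext_subsingleton_X₃ (hS := seqCx_shortExact f g hex hfi hgs) _ l
      ((le_idealDepth_iff (maximalIdeal A) (A ⧸ I) (r + 1)).1 (hI _ hr) l (by omega)) hextJ
  let e : (A ⧸ (I ⊔ J)) ≃+* ((A ⧸ S) ⧸ T) := (DoubleQuot.quotQuotEquivQuotOfLE hSle).symm
  let e' : (A ⧸ (I ⊔ J)) ≃ₗ[A] ((A ⧸ S) ⧸ T) :=
    { e.toAddEquiv with
      map_smul' := fun a y => by
        obtain ⟨y, rfl⟩ := Ideal.Quotient.mk_surjective y
        rfl }
  haveI : Nontrivial ((A ⧸ S) ⧸ T) := Ideal.Quotient.nontrivial_iff.2 hT1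
  haveI : IsLocalRing ((A ⧸ S) ⧸ T) := .of_surjective' (Ideal.Quotient.mk T) Ideal.Quotient.mk_surjective
  haveI : Nontrivial (A ⧸ (I ⊔ J)) := Ideal.Quotient.nontrivial_iff.2 hIJ
  haveI : IsLocalRing (A ⧸ (I ⊔ J)) :=
    .of_surjective' (Ideal.Quotient.mk _) Ideal.Quotient.mk_surjective
  have hsurj : Function.Surjective (algebraMap A ((A ⧸ S) ⧸ T)) := fun y => by
    obtain ⟨y, rfl⟩ := Ideal.Quotient.mk_surjective y
    obtain ⟨a, rfl⟩ := Ideal.Quotient.mk_surjective y
    exact ⟨a, rfl⟩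
  have hdep0 : (r : ℕ∞) ≤ LocCoh.depth ((A ⧸ S) ⧸ T) ((A ⧸ S) ⧸ T) := by
    rw [show LocCoh.depth A (A ⧸ (I ⊔ J)) = LocCoh.depth A ((A ⧸ S) ⧸ T) from idealDepth_congr e',
      Groth.Smt.depth_eq_of_surjective A _ hsurj] at hdep
    exact hdep
  have hTmax : IsMaxDepth T := fun r'' hr'' => by
    rw [hr'] at hr''
    obtain rfl : r = r'' := by exact_mod_cast hr''
    rwa [Groth.Smt.depth_eq_of_surjective (A ⧸ S) _ Ideal.Quotient.mk_surjective]
  have hann : Submodule.annihilator T = Ideal.span {π i} := by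
    refine le_antisymm (fun a ha => ?_) ((Ideal.span_singleton_le_iff_mem _).2
      (Submodule.mem_annihilator.2 fun y hy => ?_))
    · obtain ⟨a, rfl⟩ := hπs a
      have hmem : ∀ y ∈ I ⊔ J, a * y ∈ S := fun y hy => by
        have := Submodule.mem_annihilator.1 ha (π y) (Ideal.mem_map_of_mem π hy)
        rw [smul_eq_mul, ← map_mul] at this
        exact Ideal.Quotient.eq_zero_iff_mem.1 this
      have h1 : a ∈ I ⊔ S := hJI ▸ colon_le hA hmJ hxm hx
        (Submodule.mem_colon.2 fun y hy => hmem y (Ideal.mem_sup_right hy))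
      have h2 : a ∈ J ⊔ S := hJ ▸ colon_le hA hI hxm hx
        (Submodule.mem_colon.2 fun y hy => hmem y (Ideal.mem_sup_left hy))
      obtain ⟨u, hu, _, hs, rfl⟩ := Submodule.mem_sup.1 h1
      obtain ⟨b, rfl⟩ := Ideal.mem_span_singleton'.1 hs
      obtain ⟨v, hv, _, hs', hvu⟩ := Submodule.mem_sup.1 h2
      obtain ⟨c, rfl⟩ := Ideal.mem_span_singleton'.1 hs'
      have hu' : u - (c - b) * i ∈ I ⊓ J := by
        refine ⟨sub_mem hu (I.mul_mem_left _ hi), ?_⟩
        have : u - (c - b) * i = v + (c - b) * j := by linear_combination -hvu - (c - b) * hij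
        rw [this]
        exact add_mem hv (J.mul_mem_left _ hj)
      rw [hinf, Submodule.mem_bot, sub_eq_zero] at hu'
      rw [hu', Ideal.mem_span_singleton']
      refine ⟨π (c - b), ?_⟩
      rw [← map_mul, Ideal.Quotient.eq]
      exact Ideal.mem_span_singleton'.2 ⟨-b, by ring⟩
    · obtain ⟨y, hy', rfl⟩ := (Ideal.mem_map_iff_of_surjective π hπs).1 hy
      rw [smul_eq_mul, ← map_mul]
      refine Ideal.Quotient.eq_zero_iff_mem.2 ?_
      obtain ⟨u, hu, v, hv, rfl⟩ := Submodule.mem_sup.1 hy'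
      have hiv : i * v = 0 := by
        have : i * v ∈ I ⊓ J := ⟨I.mul_mem_right _ hi, J.mul_mem_left _ hv⟩
        rwa [hinf, Submodule.mem_bot] at this
      have hju : j * u = 0 := by
        have : j * u ∈ I ⊓ J := ⟨I.mul_mem_left _ hu, J.mul_mem_right _ hj⟩
        rwa [hinf, Submodule.mem_bot] at this
      exact Ideal.mem_span_singleton'.2 ⟨u, by linear_combination -u * hij + hju - hiv⟩
  have hG := injLT_quotient r (A ⧸ S) hr' hA' T (π i) hT1 hTmax hann
  refine ⟨(exists_injLT_iff_of_ringEquiv e).2 hG, ?_⟩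
  obtain ⟨d, hd, -, -, hdd⟩ := exists_dim _ hG
  rw [hdd] at hdep0
  rw [hr, ringKrullDim_eq_of_ringEquiv e, hd]
  norm_cast at hdep0 ⊢
  omega

end Groth.Misc15.GorLink
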