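import Mathlib
import Groth.Prelude.Def_CAlg
import Groth.Agent.GrMod.Hilbert
import Groth.Agent.Variety2.DimAffine
import Groth.Agent.GrSegreDim.Basic
import Groth.Agent.Smt.GradedDim

/-! Positively graded algebras over a field: irrelevant ideal, homogeneous regular elements,
standard graded algebras of dimension one. -/

set_option autoImplicit false

universe u

open DirectSum

namespace Groth.Misc15.GrCurve

variable {k : Type u} [Field k] {A : Type u} [CommRing A] [Algebra k A] (𝒜 : ℤ → Submodule k A)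
  [GradedAlgebra 𝒜] (hpos : ∀ n : ℤ, n < 0 → 𝒜 n = ⊥)
  (h0 : 𝒜 0 = Submodule.span k {(1 : A)})

include hpos in
theorem decompose_neg {x : A} {n : ℤ} (hn : n < 0) : (decompose 𝒜 x n : A) = 0 := by
  classical
  have := (decompose 𝒜 x n).2
  simp only [hpos n hn, Submodule.mem_bot] at this
  exact this

include hpos in
theorem eq_zero_of_mem_neg {x : A} {n : ℤ} (hn : n < 0) (hx : x ∈ 𝒜 n) : x = 0 := by
  rw [hpos n hn, Submodule.mem_bot] at hx
  exact hx

include hpos in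
theorem decompose_mul_zero (r x : A) :
    (decompose 𝒜 (r * x) 0 : A) = (decompose 𝒜 r 0 : A) * (decompose 𝒜 x 0 : A) := by
  classical
  induction r using DirectSum.Decomposition.inductionOn 𝒜 with
  | zero => simp
  | add a b ha hb =>
    rw [add_mul, decompose_add, DirectSum.add_apply, Submodule.coe_add, ha, hb, decompose_add,
      DirectSum.add_apply, Submodule.coe_add, add_mul]
  | @homogeneous i a =>
    rw [show ((decompose 𝒜 ((a : A) * x) 0 : 𝒜 0) : A) = _ from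
      congrArg (fun j => ((decompose 𝒜 ((a : A) * x) j : 𝒜 j) : A)) (add_neg_cancel i).symm,
      coe_decompose_mul_add_of_left_mem 𝒜 a.2]
    rcases lt_trichotomy i 0 with hi | rfl | hi
    · rw [eq_zero_of_mem_neg 𝒜 hpos hi a.2]; simp
    · rw [decompose_of_mem_same 𝒜 a.2, neg_zero]
    · rw [decompose_neg 𝒜 hpos (by omega : -i < 0), decompose_of_mem_ne 𝒜 a.2 hi.ne']
      simp

/-- the irrelevant ideal -/
noncomputable def irr : Ideal A where
  carrier := {x | (decompose 𝒜 x 0 : A) = 0}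
  add_mem' {a b} ha hb := by
    simp only [Set.mem_setOf_eq] at ha hb ⊢
    simp [ha, hb]
  zero_mem' := by simp
  smul_mem' r x hx := by
    simp only [Set.mem_setOf_eq, smul_eq_mul] at hx ⊢
    rw [decompose_mul_zero 𝒜 hpos, hx, mul_zero]

theorem mem_irr {x : A} : x ∈ irr 𝒜 hpos ↔ (decompose 𝒜 x 0 : A) = 0 := Iff.rfl

theorem mem_irr_of_mem {x : A} {n : ℤ} (hx : x ∈ 𝒜 n) (hn : 0 < n) : x ∈ irr 𝒜 hpos := by
  classical
  exact decompose_of_mem_ne 𝒜 hx hn.ne'

include h0 in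
theorem exists_scalar (x : A) : ∃ c : k, x - algebraMap k A c ∈ irr 𝒜 hpos := by
  classical
  obtain ⟨c, hc⟩ := Submodule.mem_span_singleton.1
    ((SetLike.ext_iff.1 h0 _).1 (decompose 𝒜 x 0).2)
  refine ⟨c, ?_⟩
  rw [mem_irr, decompose_sub, DirectSum.sub_apply, AddSubgroupClass.coe_sub,
    decompose_of_mem_same 𝒜 (show algebraMap k A c ∈ 𝒜 0 by
      rw [Algebra.algebraMap_eq_smul_one, h0]; exact Submodule.smul_mem _ c (Submodule.subset_span rfl)),
    Algebra.algebraMap_eq_smul_one, hc, sub_self]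

include h0 in
theorem irr_isMaximal [Nontrivial A] : (irr 𝒜 hpos).IsMaximal := by
  classical
  rw [Ideal.isMaximal_iff]
  refine ⟨fun h => one_ne_zero (α := A) ?_, fun J x hJ hx hxJ => ?_⟩
  · rw [mem_irr, decompose_of_mem_same 𝒜 SetLike.GradedOne.one_mem] at h
    exact h
  · obtain ⟨c, hc⟩ := exists_scalar 𝒜 hpos h0 x
    have hc0 : c ≠ 0 := fun h => hx (by simpa [h] using hc)
    have h2 : algebraMap k A c ∈ J := by simpa using J.sub_mem hxJ (hJ hc)
    have h3 := J.mul_mem_left (algebraMap k A c⁻¹) h2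
    rwa [← map_mul, inv_mul_cancel₀ hc0, map_one] at h3

include h0 in
theorem le_irr {I : Ideal A} (hI : I.IsHomogeneous 𝒜) (hne : I ≠ ⊤) : I ≤ irr 𝒜 hpos := by
  classical
  intro x hx
  have hmem : (decompose 𝒜 x 0 : A) ∈ I := hI 0 hx
  obtain ⟨c, hc⟩ := Submodule.mem_span_singleton.1
    ((SetLike.ext_iff.1 h0 _).1 (decompose 𝒜 x 0).2)
  rw [mem_irr, ← hc]
  by_contra hne'
  refine hne (Ideal.eq_top_of_isUnit_mem _ hmem ?_)
  rw [← hc, ← Algebra.algebraMap_eq_smul_one]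
  exact (isUnit_iff_ne_zero.2 fun h => hne' (by rw [h, zero_smul])).map _

theorem minimalPrime_homogeneous {P : Ideal A} (hP : P ∈ minimalPrimes A) :
    P.IsHomogeneous 𝒜 := by
  haveI := hP.1.1
  haveI : (P.homogeneousCore 𝒜).toIdeal.IsPrime := (inferInstance : P.IsPrime).homogeneousCore
  have he : (P.homogeneousCore 𝒜).toIdeal = P := le_antisymm (Ideal.toIdeal_homogeneousCore_le 𝒜 P)
    (hP.2 ⟨inferInstance, bot_le⟩ (Ideal.toIdeal_homogeneousCore_le 𝒜 P))
  rw [← he]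
  exact (P.homogeneousCore 𝒜).isHomogeneous

include h0 in
theorem height_irr [Nontrivial A] [Algebra.FiniteType k A] :
    ((irr 𝒜 hpos).height : WithBot ℕ∞) = ringKrullDim A := by
  haveI hm := irr_isMaximal 𝒜 hpos h0
  refine le_antisymm (Ideal.height_le_ringKrullDim_of_ne_top hm.ne_top) ?_
  rw [ringKrullDim, Order.krullDim]
  refine iSup_le fun l => ?_
  obtain ⟨P, hP, hPle⟩ := Ideal.exists_minimalPrimes_le (bot_le : (⊥ : Ideal A) ≤ l.head.asIdeal)
  haveI hPp : P.IsPrime := hP.1.1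
  have hPm : P ≤ irr 𝒜 hpos := le_irr 𝒜 hpos h0 (minimalPrime_homogeneous 𝒜 hP) hPp.ne_top
  haveI : Algebra.FiniteType k (A ⧸ P) :=
    Algebra.FiniteType.of_surjective (Ideal.Quotient.mkₐ k P) Ideal.Quotient.mk_surjective
  haveI hm' : ((irr 𝒜 hpos).map (Ideal.Quotient.mk P)).IsMaximal :=
    Ideal.IsMaximal.map_of_surjective_of_ker_le Ideal.Quotient.mk_surjective (by rwa [Ideal.mk_ker])
  have hle : ∀ i, P ≤ (l i).asIdeal := fun i => hPle.trans (l.monotone (Fin.zero_le i))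
  let l' : LTSeries (PrimeSpectrum (A ⧸ P)) :=
    { length := l.length
      toFun := fun i => ⟨(l i).asIdeal.map (Ideal.Quotient.mk P),
        Ideal.map_isPrime_of_surjective Ideal.Quotient.mk_surjective (by rw [Ideal.mk_ker]; exact hle i)⟩
      step := fun i => by
        show Ideal.map (Ideal.Quotient.mk P) (l i.castSucc).asIdeal < Ideal.map (Ideal.Quotient.mk P) (l i.succ).asIdeal
        refine lt_of_le_of_ne (Ideal.map_mono (l.step i).le) fun he => (l.step i).ne (PrimeSpectrum.ext ?_)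
        have := congrArg (Ideal.comap (Ideal.Quotient.mk P)) he
        rwa [Ideal.comap_map_mk (hle _), Ideal.comap_map_mk (hle _)] at this }
  have h1 : ((l.length : ℕ) : WithBot ℕ∞) ≤ ringKrullDim (A ⧸ P) := by
    rw [ringKrullDim, Order.krullDim]
    exact le_iSup (fun p : LTSeries (PrimeSpectrum (A ⧸ P)) => ((p.length : ℕ) : WithBot ℕ∞)) l'
  rw [← Groth.Smt.height_eq_ringKrullDim_of_isMaximal k (A ⧸ P)
    ((irr 𝒜 hpos).map (Ideal.Quotient.mk P))] at h1
  refine h1.trans (WithBot.coe_le_coe.2 ?_)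
  have h2 := Order.height_le_height_apply_of_strictMono (PrimeSpectrum.comap (Ideal.Quotient.mk P))
    (fun p q h => lt_of_le_of_ne (Ideal.comap_mono h.le) fun he => h.ne (PrimeSpectrum.ext
      (Ideal.comap_injective_of_surjective _ Ideal.Quotient.mk_surjective (congrArg PrimeSpectrum.asIdeal he))))
    (⟨_, hm'.isPrime⟩ : PrimeSpectrum (A ⧸ P))
  have e : PrimeSpectrum.comap (Ideal.Quotient.mk P) (⟨_, hm'.isPrime⟩ : PrimeSpectrum (A ⧸ P)) =
      ⟨irr 𝒜 hpos, hm.isPrime⟩ := PrimeSpectrum.ext (Ideal.comap_map_mk hPm)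
  rw [e, ← PrimeSpectrum.height_eq_orderHeight, ← PrimeSpectrum.height_eq_orderHeight] at h2
  exact h2

include hpos h0 in
theorem exists_regular [LocCoh.IsCohenMacaulayRing A] [Algebra.FiniteType k A]
    (h1 : 1 ≤ ringKrullDim A) :
    ∃ (e : ℕ) (x : A), 0 < e ∧ x ∈ 𝒜 e ∧ x ∈ nonZeroDivisors A := by
  classical
  haveI : Nontrivial A := by
    by_contra h
    rw [not_nontrivial_iff_subsingleton] at h
    rw [ringKrullDim_eq_bot_of_subsingleton] at h1
    simp at h1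
  haveI := irr_isMaximal 𝒜 hpos h0
  have hfin := minimalPrimes.finite_of_isNoetherianRing A
  have hsel : ∀ P ∈ hfin.toFinset, ∃ (d : ℕ) (g : A), 0 < d ∧ g ∈ 𝒜 d ∧ g ∉ P ∧
      ∀ Q ∈ hfin.toFinset, Q ≠ P → g ∈ Q := by
    intro P hP
    rw [Set.Finite.mem_toFinset] at hP
    haveI := hP.1.1
    let J : Ideal A := irr 𝒜 hpos ⊓ (hfin.toFinset.erase P).inf id
    have hJ : ¬ J ≤ P := by
      intro hle
      rcases (inferInstance : P.IsPrime).inf_le.1 hle with h | h
      · have hPm : P ≤ irr 𝒜 hpos := le_irr 𝒜 hpos h0 (minimalPrime_homogeneous 𝒜 hP) hP.1.1.ne_top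
        have heq : irr 𝒜 hpos = P := le_antisymm h hPm
        have hh' : (irr 𝒜 hpos).height = 0 := by
          rw [heq]; exact Ideal.height_eq_zero_iff.2 hP
        rw [← height_irr 𝒜 hpos h0, hh'] at h1
        exact not_le_of_gt (by norm_num) h1
      · obtain ⟨Q, hQ, hQP⟩ := (Ideal.IsPrime.inf_le' inferInstance).1 h
        rw [Finset.mem_erase, Set.Finite.mem_toFinset] at hQ
        exact hQ.1 (le_antisymm hQP (hP.2 ⟨hQ.2.1.1, bot_le⟩ hQP))
    obtain ⟨z, hzJ, hzP⟩ := SetLike.not_le_iff_exists.1 hJ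
    obtain ⟨i, hi⟩ : ∃ i, (decompose 𝒜 z i : A) ∉ P := by
      by_contra hall
      push Not at hall
      exact hzP (sum_support_decompose 𝒜 z ▸ Ideal.sum_mem _ fun i _ => hall i)
    have hipos : 0 < i := by
      rcases lt_trichotomy i 0 with h | h | h
      · exact absurd (by rw [decompose_neg 𝒜 hpos h]; exact zero_mem _) hi
      · subst h
        exact absurd (by rw [(mem_irr 𝒜 hpos).1 hzJ.1]; exact zero_mem _) hi
      · exact h
    refine ⟨i.toNat, _, by omega, by rw [Int.toNat_of_nonneg hipos.le]; exact (decompose 𝒜 z i).2,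
      hi, fun Q hQ hQP => ?_⟩
    have hzQ : z ∈ Q := (Finset.inf_le (f := id) (Finset.mem_erase.2 ⟨hQP, hQ⟩)) hzJ.2
    exact minimalPrime_homogeneous 𝒜 (hfin.mem_toFinset.1 hQ) i hzQ
  choose d g hd hg hgP hgQ using hsel
  let D := ∏ P ∈ hfin.toFinset.attach, d P.1 P.2
  have hD : 0 < D := Finset.prod_pos fun P _ => hd _ _
  let x := ∑ P ∈ hfin.toFinset.attach, g P.1 P.2 ^ (D / d P.1 P.2)
  refine ⟨D, x, hD, Submodule.sum_mem _ fun P hP => ?_, ?_⟩
  · have h := SetLike.pow_mem_graded (D / d P.1 P.2) (hg P.1 P.2)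
    rwa [nsmul_eq_mul, ← Nat.cast_mul,
      Nat.div_mul_cancel (Finset.dvd_prod_of_mem (fun P : hfin.toFinset => d P.1 P.2) hP)] at h
  · by_contra hx
    obtain ⟨Q, hQ, hxQ⟩ : ∃ Q ∈ associatedPrimes A A, x ∈ Q := by
      have : x ∈ ⋃ Q ∈ associatedPrimes A A, (Q : Set A) := by
        rw [biUnion_associatedPrimes_eq_compl_regular]
        exact fun hreg => hx (mem_nonZeroDivisors_iff_right.2 fun a ha => hreg (by
          show x * a = x * 0
          rw [mul_zero, mul_comm, ha]))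
      simpa using this
    have hQm := GrothGr.mem_minimalPrimes_of_mem_associatedPrimes_of_isCM hQ
    have hQf : Q ∈ hfin.toFinset := hfin.mem_toFinset.2 hQm
    haveI := hQm.1.1
    refine hgP Q hQf ((inferInstance : Q.IsPrime).mem_of_pow_mem (D / d Q hQf) ?_)
    have hrest : ∑ P ∈ hfin.toFinset.attach.erase ⟨Q, hQf⟩, g P.1 P.2 ^ (D / d P.1 P.2) ∈ Q := by
      refine Ideal.sum_mem _ fun P hP => Ideal.pow_mem_of_mem _ ?_ _ ?_
      · exact hgQ P.1 P.2 Q hQf fun h => (Finset.mem_erase.1 hP).1 (Subtype.ext h.symm)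
      · exact Nat.div_pos (Nat.le_of_dvd hD
          (Finset.dvd_prod_of_mem (fun P : hfin.toFinset => d P.1 P.2) (Finset.mem_erase.1 hP).2))
          (hd _ _)
    have := Q.sub_mem hxQ hrest
    simpa only [x, ← Finset.sum_erase_add _ _ (Finset.mem_attach _ (⟨Q, hQf⟩ : hfin.toFinset)),
      add_sub_cancel_left] using this

include hpos h0 in
theorem finiteType_of_noetherian [IsNoetherianRing A] : Algebra.FiniteType k A := by
  classical
  obtain ⟨s, hs⟩ := IsNoetherian.noetherian (irr 𝒜 hpos)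
  let G : Finset A := s.biUnion fun x => (decompose 𝒜 x).support.image fun i => (decompose 𝒜 x i : A)
  have hG : ∀ g ∈ G, ∃ i : ℤ, 0 < i ∧ g ∈ 𝒜 i := by
    intro g hg
    simp only [G, Finset.mem_biUnion, Finset.mem_image] at hg
    obtain ⟨x, hx, i, hi, rfl⟩ := hg
    refine ⟨i, ?_, SetLike.coe_mem _⟩
    rw [DFinsupp.mem_support_iff] at hi
    rcases lt_trichotomy i 0 with h | rfl | h
    · exact absurd (Subtype.ext (decompose_neg 𝒜 hpos h)) hi
    · exact absurd (Subtype.ext ((mem_irr 𝒜 hpos).1 (hs ▸ Submodule.subset_span hx))) hi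
    · exact h
  have hspan : irr 𝒜 hpos ≤ Ideal.span (G : Set A) := by
    rw [← hs, Submodule.span_le]
    intro x hx
    rw [SetLike.mem_coe, ← sum_support_decompose 𝒜 x]
    exact Ideal.sum_mem _ fun i hi => Ideal.subset_span
      (Finset.mem_coe.2 (Finset.mem_biUnion.2 ⟨x, hx, Finset.mem_image.2 ⟨i, hi, rfl⟩⟩))
  refine ⟨⟨G, top_le_iff.1 fun a _ => ?_⟩⟩
  suffices H : ∀ n : ℕ, ∀ a ∈ 𝒜 n, a ∈ Algebra.adjoin k (G : Set A) by
    rw [← sum_support_decompose 𝒜 a]
    refine Subalgebra.sum_mem _ fun i _ => ?_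
    rcases lt_or_ge i 0 with h | h
    · rw [decompose_neg 𝒜 hpos h]; exact Subalgebra.zero_mem _
    · exact H i.toNat _ (by rw [Int.toNat_of_nonneg h]; exact SetLike.coe_mem _)
  intro n
  induction n using Nat.strong_induction_on with
  | _ n ih =>
  intro a ha
  rcases Nat.eq_zero_or_pos n with rfl | hn
  · rw [Nat.cast_zero, h0, Submodule.mem_span_singleton] at ha
    obtain ⟨c, rfl⟩ := ha
    exact Subalgebra.smul_mem _ (Subalgebra.one_mem _) c
  obtain ⟨f, -, hfa⟩ := Submodule.mem_span_finset.1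
    (hspan (mem_irr_of_mem 𝒜 hpos ha (by exact_mod_cast hn)))
  rw [← decompose_of_mem_same 𝒜 ha, ← hfa, decompose_sum, DFinsupp.finsetSum_apply,
    AddSubmonoidClass.coe_finsetSum]
  refine Subalgebra.sum_mem _ fun g hg => ?_
  obtain ⟨i, hi, hgi⟩ := hG g hg
  rw [smul_eq_mul, show ((decompose 𝒜 (f g * g) (n : ℤ) : 𝒜 (n : ℤ)) : A) = _ from
    congrArg (fun j => ((decompose 𝒜 (f g * g) j : 𝒜 j) : A)) (sub_add_cancel (n : ℤ) i).symm,
    coe_decompose_mul_add_of_right_mem 𝒜 hgi]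
  rcases lt_or_ge ((n : ℤ) - i) 0 with h | h
  · rw [decompose_neg 𝒜 hpos h, zero_mul]; exact Subalgebra.zero_mem _
  · obtain ⟨m, hm⟩ : ∃ m : ℕ, (n : ℤ) - i = m := ⟨_, (Int.toNat_of_nonneg h).symm⟩
    rw [hm]
    exact Subalgebra.mul_mem _ (ih m (by omega) _ (SetLike.coe_mem _))
      (Algebra.subset_adjoin (Finset.mem_coe.2 hg))

variable (hstd : Ideal.span (⋃ n ∈ Set.Ioi (0 : ℤ), (𝒜 n : Set A)) =
  Ideal.span ((𝒜 1 : Submodule k A) : Set A))

include hstd in
theorem le_mul_one {n : ℤ} (hn : 0 ≤ n) : 𝒜 (n + 1) ≤ 𝒜 n * 𝒜 1 := by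
  classical
  intro x hx
  have hmem : x ∈ Submodule.span A ((𝒜 1 : Submodule k A) : Set A) := by
    rw [← Ideal.span, ← hstd]
    exact Ideal.subset_span (Set.mem_biUnion (Set.mem_Ioi.2 (by omega)) hx)
  suffices key : ∀ z ∈ Submodule.span A ((𝒜 1 : Submodule k A) : Set A), ∀ r : A,
      (decompose 𝒜 (r * z) (n + 1) : A) ∈ 𝒜 n * 𝒜 1 by
    simpa [decompose_of_mem_same 𝒜 hx] using key x hmem 1
  intro z hz
  induction hz using Submodule.span_induction with
  | mem s hs =>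
    intro r
    rw [coe_decompose_mul_add_of_right_mem 𝒜 hs]
    exact Submodule.mul_mem_mul (decompose 𝒜 r n).2 hs
  | zero => intro r; simp
  | add a b _ _ ha hb =>
    intro r
    rw [mul_add, decompose_add, DirectSum.add_apply, Submodule.coe_add]
    exact add_mem (ha r) (hb r)
  | smul c a _ ha => intro r; rw [smul_eq_mul, ← mul_assoc]; exact ha _

include h0 hstd in
theorem le_add (m : ℕ) : ∀ n : ℕ, 𝒜 ((m : ℤ) + n) ≤ 𝒜 m * 𝒜 n
  | 0 => fun x hx => by
    rw [Nat.cast_zero, add_zero] at hx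
    simpa using Submodule.mul_mem_mul hx
      (show (1 : A) ∈ 𝒜 ((0 : ℕ) : ℤ) by rw [Nat.cast_zero]; exact SetLike.GradedOne.one_mem)
  | n + 1 => by
    rw [show ((m : ℤ) + ((n + 1 : ℕ) : ℤ)) = ((m : ℤ) + n) + 1 by push_cast; ring]
    refine (le_mul_one 𝒜 hstd (by omega)).trans ?_
    refine (mul_le_mul_left (le_add m n) (a := 𝒜 1)).trans ?_
    rw [mul_assoc]
    refine mul_le_mul_right ?_ (a := 𝒜 (m : ℤ))
    rw [Submodule.mul_le]
    intro a ha b hb
    rw [Nat.cast_succ]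
    exact SetLike.mul_mem_graded ha hb

include h0 hstd in
theorem le_span_pow {c : ℕ} {z : A} (h : 𝒜 c ≤ Submodule.span k {z}) :
    ∀ j : ℕ, 𝒜 ((c * j : ℕ) : ℤ) ≤ Submodule.span k {z ^ j}
  | 0 => by rw [Nat.mul_zero, Nat.cast_zero, h0, pow_zero]
  | j + 1 => by
    rw [Nat.mul_succ, Nat.cast_add]
    refine (le_add 𝒜 h0 hstd (c * j) c).trans ?_
    refine (mul_le_mul' (le_span_pow h j) h).trans ?_
    rw [Submodule.span_mul_span, Set.singleton_mul_singleton, ← pow_succ]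

include hpos hstd in
theorem mem_pow : ∀ (j : ℕ) {x : A}, x ∈ 𝒜 j → x ∈ irr 𝒜 hpos ^ j
  | 0, x, _ => by simp
  | j + 1, x, hx => by
    rw [Nat.cast_succ] at hx
    refine Submodule.mul_induction_on (le_mul_one 𝒜 hstd (by omega) hx) (fun a ha b hb => ?_)
      fun a b ha hb => add_mem ha hb
    rw [pow_succ]
    exact Ideal.mul_mem_mul (mem_pow j ha) (mem_irr_of_mem 𝒜 hpos hb one_pos)

variable {𝒜} in
theorem exists_mem_of_mul_mem {x : A} {e : ℤ} (hx : x ∈ 𝒜 e) {j : ℤ} {a : A} (ha : a ∈ 𝒜 j)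
    (h : a ∈ Ideal.span {x}) : ∃ a' ∈ 𝒜 (j - e), a = x * a' := by
  classical
  obtain ⟨b, rfl⟩ := Ideal.mem_span_singleton'.1 h
  refine ⟨_, (decompose 𝒜 b (j - e)).2, ?_⟩
  conv_lhs => rw [← decompose_of_mem_same 𝒜 ha, ← sub_add_cancel j e]
  rw [coe_decompose_mul_add_of_right_mem 𝒜 hx, mul_comm]

include hpos h0 hstd in
/-- A standard graded algebra of dimension one with one-dimensional degree one is a polynomial ring. -/
theorem equiv_polynomial [Algebra.FiniteType k A] (h1 : ringKrullDim A = 1) {z : A}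
    (hz : z ∈ 𝒜 1) (hle : 𝒜 1 ≤ Submodule.span k {z}) :
    Nonempty (A ≃ₐ[k] Polynomial k) := by
  classical
  have hsurj : Function.Surjective (Polynomial.aeval z : Polynomial k →ₐ[k] A) := by
    intro a
    induction a using DirectSum.Decomposition.inductionOn 𝒜 with
    | zero => exact ⟨0, map_zero _⟩
    | add a b ha hb =>
      obtain ⟨p, hp⟩ := ha; obtain ⟨q, hq⟩ := hb
      exact ⟨p + q, by rw [map_add, hp, hq]⟩
    | @homogeneous i a =>
      rcases lt_or_ge i 0 with hi | hi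
      · exact ⟨0, by rw [map_zero, eq_zero_of_mem_neg 𝒜 hpos hi a.2]⟩
      · have hle' := le_span_pow 𝒜 h0 hstd (c := 1) (z := z) (by simpa using hle) i.toNat
        have : (a : A) ∈ 𝒜 ((1 * i.toNat : ℕ) : ℤ) := by
          rw [one_mul, Int.toNat_of_nonneg hi]; exact a.2
        obtain ⟨c, hc⟩ := Submodule.mem_span_singleton.1 (hle' this)
        exact ⟨Polynomial.C c * Polynomial.X ^ i.toNat, by simp [← hc, Algebra.smul_def]⟩
  refine ⟨(AlgEquiv.ofBijective (Polynomial.aeval z) ⟨?_, hsurj⟩).symm⟩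
  rw [injective_iff_map_eq_zero]
  intro p hp
  by_contra hp0
  let π : Polynomial k ⧸ Ideal.span {p} →+* A :=
    Ideal.Quotient.lift _ (Polynomial.aeval z).toRingHom fun a ha => by
      obtain ⟨b, rfl⟩ := Ideal.mem_span_singleton'.1 ha
      show Polynomial.aeval z (b * p) = 0
      rw [map_mul, hp, mul_zero]
  have hπ : Function.Surjective π := fun a => by
    obtain ⟨q, rfl⟩ := hsurj a; exact ⟨Ideal.Quotient.mk _ q, rfl⟩
  have h2 : ringKrullDim (Polynomial k ⧸ Ideal.span {p}) + 1 ≤ ringKrullDim (Polynomial k) :=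
    ringKrullDim_quotient_succ_le_of_nonZeroDivisor (mem_nonZeroDivisors_of_ne_zero hp0)
  have h3 : ringKrullDim (Polynomial k) = 1 := by
    rw [Polynomial.ringKrullDim_of_isNoetherianRing, ringKrullDim_eq_zero_of_field, zero_add]
  have h4 := ringKrullDim_le_of_surjective π hπ
  rw [h1] at h4
  rw [h3] at h2
  have := (add_le_add h4 (le_refl (1 : WithBot ℕ∞))).trans h2
  exact absurd this (by decide)

include hpos hstd in
/-- If `A` is a polynomial ring then degree one is spanned by one element. -/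
theorem exists_span_of_equiv (e : A ≃ₐ[k] Polynomial k) (h0' : 𝒜 0 = Submodule.span k {(1 : A)}) :
    ∃ z ∈ 𝒜 1, 𝒜 1 ≤ Submodule.span k {z} := by
  classical
  obtain ⟨g, hg⟩ : ∃ g, irr 𝒜 hpos = Ideal.span {g} := by
    haveI : IsPrincipalIdealRing A := IsPrincipalIdealRing.of_surjective e.symm.toRingEquiv.toRingHom
      e.symm.surjective
    exact ⟨_, (Ideal.span_singleton_generator (irr 𝒜 hpos)).symm⟩
  refine ⟨(decompose 𝒜 g 1 : A), (decompose 𝒜 g 1).2, fun a ha => ?_⟩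
  have : a ∈ Ideal.span {g} := hg ▸ mem_irr_of_mem 𝒜 hpos ha one_pos
  obtain ⟨b, rfl⟩ := Ideal.mem_span_singleton'.1 this
  have hg0 : (decompose 𝒜 g 0 : A) = 0 := (mem_irr 𝒜 hpos).1 (hg ▸ Ideal.mem_span_singleton_self g)
  suffices key : ∀ b : A, (decompose 𝒜 (b * g) 1 : A) = (decompose 𝒜 b 0 : A) * decompose 𝒜 g 1 by
    rw [← decompose_of_mem_same 𝒜 ha, key]
    obtain ⟨c, hc⟩ := Submodule.mem_span_singleton.1 ((SetLike.ext_iff.1 h0' _).1 (decompose 𝒜 b 0).2)
    rw [← hc, smul_mul_assoc, one_mul]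
    exact Submodule.smul_mem _ c (Submodule.subset_span rfl)
  intro b
  induction b using DirectSum.Decomposition.inductionOn 𝒜 with
  | zero => simp
  | add x y hx hy =>
    rw [add_mul, decompose_add, DirectSum.add_apply, Submodule.coe_add, hx, hy, decompose_add,
      DirectSum.add_apply, Submodule.coe_add, add_mul]
  | @homogeneous i x =>
    rw [show ((decompose 𝒜 ((x : A) * g) 1 : 𝒜 1) : A) = _ from
      congrArg (fun j => ((decompose 𝒜 ((x : A) * g) j : 𝒜 j) : A)) (add_sub_cancel i 1).symm,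
      coe_decompose_mul_add_of_left_mem 𝒜 x.2]
    rcases lt_trichotomy i 0 with hi | rfl | hi
    · rw [eq_zero_of_mem_neg 𝒜 hpos hi x.2]; simp
    · rw [decompose_of_mem_same 𝒜 x.2, sub_zero]
    · rw [decompose_of_mem_ne 𝒜 x.2 hi.ne', zero_mul]
      rcases eq_or_lt_of_le (show (1 : ℤ) ≤ i by omega) with rfl | hi'
      · rw [sub_self, hg0, mul_zero]
      · rw [decompose_neg 𝒜 hpos (by omega : 1 - i < 0), mul_zero]

/-- Regular powers are nonzero. -/
theorem pow_mem_ne [Nontrivial A] {e : ℕ} {x : A} (hx : x ∈ 𝒜 e) (hreg : x ∈ nonZeroDivisors A)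
    (j : ℕ) : x ^ j ∈ 𝒜 ((e * j : ℕ) : ℤ) ∧ x ^ j ≠ 0 := by
  refine ⟨?_, fun h => ?_⟩
  · have h := SetLike.pow_mem_graded j hx
    rwa [nsmul_eq_mul, ← Nat.cast_mul, mul_comm j e] at h
  · exact zero_notMem_nonZeroDivisors (h ▸ pow_mem hreg j)

include hpos h0 hstd in
theorem exists_ne_zero [Nontrivial A] {e : ℕ} (he : 0 < e) {x : A} (hx : x ∈ 𝒜 e)
    (hreg : x ∈ nonZeroDivisors A) (n : ℕ) : ∃ w ∈ 𝒜 n, w ≠ 0 := by
  by_contra! hall
  obtain ⟨d, hd⟩ := Nat.exists_eq_add_of_le (Nat.le_mul_of_pos_left n he)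
  obtain ⟨h1, h2⟩ := pow_mem_ne 𝒜 hx hreg n
  refine h2 ((Submodule.mem_bot k).1 ?_)
  rw [hd, Nat.cast_add] at h1
  have := le_add 𝒜 h0 hstd n d h1
  rwa [(Submodule.eq_bot_iff _).2 hall, Submodule.bot_mul] at this

include hpos h0 hstd in
/-- If degree one is at least two-dimensional then so is every positive degree. -/
theorem not_le_span [Nontrivial A] {e : ℕ} (he : 0 < e) {x : A} (hx : x ∈ 𝒜 e)
    (hreg : x ∈ nonZeroDivisors A) (hone : ∀ z ∈ 𝒜 1, ¬ 𝒜 1 ≤ Submodule.span k {z})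
    (n : ℕ) (hn : 0 < n) (z : A) : ¬ 𝒜 n ≤ Submodule.span k {z} := by
  intro hle
  have hzreg : z ∈ nonZeroDivisors A := by
    obtain ⟨h1, -⟩ := pow_mem_ne 𝒜 hx hreg n
    rw [mul_comm] at h1
    obtain ⟨c, hc⟩ := Submodule.mem_span_singleton.1 (le_span_pow 𝒜 h0 hstd hle e h1)
    have h3 : x ^ n ∈ nonZeroDivisors A := pow_mem hreg n
    rw [← hc, Algebra.smul_def] at h3
    obtain ⟨e', rfl⟩ := Nat.exists_eq_add_of_le he
    rw [add_comm 1 e', pow_succ, ← mul_assoc] at h3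
    exact (mul_mem_nonZeroDivisors.1 h3).2
  obtain ⟨m, rfl⟩ := Nat.exists_eq_add_of_le hn
  obtain ⟨w, hw, hw0⟩ := exists_ne_zero 𝒜 hpos h0 hstd he hx hreg (1 + m)
  have hmul : ((1 + m : ℕ) : ℤ) = (m : ℤ) + 1 := by push_cast; ring
  obtain ⟨c, hc, a, ha, hca⟩ : ∃ c ∈ 𝒜 m, ∃ a ∈ 𝒜 1, c * a ≠ 0 := by
    by_contra! hall
    refine hw0 ((Submodule.mem_bot k).1 ?_)
    have h2 : 𝒜 (m : ℤ) * 𝒜 1 ≤ ⊥ := Submodule.mul_le.2 fun c hc a ha => by
      rw [Submodule.mem_bot]; exact hall c hc a ha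
    exact h2 (le_mul_one 𝒜 hstd (by omega) (hmul ▸ hw))
  have hmem : ∀ a ∈ 𝒜 1, c * a ∈ Submodule.span k {z} := fun a ha => hle (by
    rw [hmul]; exact SetLike.mul_mem_graded hc ha)
  obtain ⟨l, hl⟩ := Submodule.mem_span_singleton.1 (hmem a ha)
  have hl0 : l ≠ 0 := fun h => hca (by rw [← hl, h, zero_smul])
  have hcreg : c ∈ nonZeroDivisors A := by
    refine (mul_mem_nonZeroDivisors.1 (?_ : c * a ∈ nonZeroDivisors A)).1
    rw [← hl, Algebra.smul_def]
    exact mul_mem ((isUnit_iff_ne_zero.2 hl0).map _).mem_nonZeroDivisors hzreg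
  refine hone a ha fun a' ha' => ?_
  obtain ⟨μ, hμ⟩ := Submodule.mem_span_singleton.1 (hmem a' ha')
  refine Submodule.mem_span_singleton.2 ⟨μ * l⁻¹, ?_⟩
  refine (mul_cancel_left_mem_nonZeroDivisors hcreg).1 ?_
  rw [mul_smul_comm, ← hl, smul_smul, mul_assoc, inv_mul_cancel₀ hl0, mul_one, hμ]

include hpos h0 hstd in
/-- The last degree in which `x` does not divide. -/
theorem exists_top [Algebra.FiniteType k A] [Nontrivial A] (h1 : ringKrullDim A = 1) {e : ℕ}
    (he : 0 < e) {x : A} (hx : x ∈ 𝒜 e) (hreg : x ∈ nonZeroDivisors A)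
    (hone : ∀ z ∈ 𝒜 1, ¬ 𝒜 1 ≤ Submodule.span k {z}) :
    ∃ (n : ℕ) (u : A), e ≤ n ∧ 0 < n ∧ u ∈ 𝒜 n ∧ u ∉ Ideal.span {x} ∧
      ∀ j : ℕ, n < j → ∀ a ∈ 𝒜 j, a ∈ Ideal.span {x} := by
  classical
  haveI : IsNoetherianRing A := Algebra.FiniteType.isNoetherianRing k A
  haveI hm := irr_isMaximal 𝒜 hpos h0
  have hrad : irr 𝒜 hpos ≤ (Ideal.span {x}).radical := by
    rw [Ideal.radical_eq_sInf]
    refine le_sInf fun P hP => ?_
    haveI := hP.2
    haveI : (P.homogeneousCore 𝒜).toIdeal.IsPrime := (inferInstance : P.IsPrime).homogeneousCore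
    set C := (P.homogeneousCore 𝒜).toIdeal
    have hxC : x ∈ C :=
      Ideal.subset_span ⟨⟨x, (e : ℤ), hx⟩, hP.1 (Ideal.mem_span_singleton_self x), rfl⟩
    have hCm : C ≤ irr 𝒜 hpos :=
      le_irr 𝒜 hpos h0 (P.homogeneousCore 𝒜).isHomogeneous (inferInstance : C.IsPrime).ne_top
    obtain ⟨Q, hQ, hQC⟩ := Ideal.exists_minimalPrimes_le (bot_le : (⊥ : Ideal A) ≤ C)
    haveI := hQ.1.1
    have hxQ : x ∉ Q := fun h => Set.disjoint_left.1
      (Ideal.disjoint_nonZeroDivisors_of_mem_minimalPrimes hQ) h hreg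
    have hlt : Q < C := lt_of_le_of_ne hQC fun h => hxQ (h ▸ hxC)
    rcases hCm.eq_or_lt with heq | hlt'
    · exact heq ▸ (Ideal.toIdeal_homogeneousCore_le 𝒜 P)
    · exfalso
      have h2 : (2 : ℕ∞) ≤ (irr 𝒜 hpos).height := by
        have a := Ideal.height_strict_mono_of_isPrime hlt
        have b := Ideal.height_strict_mono_of_isPrime hlt'
        have a' : 1 ≤ C.height := by
          rw [Order.one_le_iff_pos]; exact lt_of_le_of_lt zero_le a
        calc (2 : ℕ∞) = 1 + 1 := (one_add_one_eq_two).symm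
          _ ≤ C.height + 1 := by gcongr
          _ ≤ (irr 𝒜 hpos).height := Order.add_one_le_of_lt b
      have h3 : ((irr 𝒜 hpos).height : WithBot ℕ∞) = 1 := (height_irr 𝒜 hpos h0).trans h1
      rw [show ((irr 𝒜 hpos).height) = 1 from by exact_mod_cast h3] at h2
      norm_num at h2
  obtain ⟨N, hN⟩ := Ideal.exists_pow_le_of_le_radical_of_fg hrad (IsNoetherian.noetherian _)
  have hbig : ∀ j : ℕ, N ≤ j → ∀ a ∈ 𝒜 j, a ∈ Ideal.span {x} := fun j hj a ha =>
    hN (Ideal.pow_le_pow_right hj (mem_pow 𝒜 hpos hstd j ha))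
  have hex : ∃ j : ℕ, e ≤ j ∧ ∃ a ∈ 𝒜 j, a ∉ Ideal.span {x} := by
    refine ⟨e, le_rfl, ?_⟩
    by_contra! hall
    refine not_le_span 𝒜 hpos h0 hstd he hx hreg hone e he x fun a ha => ?_
    obtain ⟨a', ha', rfl⟩ := exists_mem_of_mul_mem hx ha (hall a ha)
    rw [sub_self, h0] at ha'
    obtain ⟨c, rfl⟩ := Submodule.mem_span_singleton.1 ha'
    rw [mul_smul_comm, mul_one]
    exact Submodule.smul_mem _ c (Submodule.subset_span rfl)
  obtain ⟨j0, hej, hj0⟩ := hex
  let p : ℕ → Prop := fun j => ∃ a ∈ 𝒜 j, a ∉ Ideal.span {x}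
  obtain ⟨a0, ha0, ha0x⟩ := hj0
  have hj0N : j0 ≤ N := le_of_not_gt fun h => ha0x (hbig j0 h.le a0 ha0)
  have hspec : p (Nat.findGreatest p N) := Nat.findGreatest_spec hj0N ⟨a0, ha0, ha0x⟩
  have hge : j0 ≤ Nat.findGreatest p N := Nat.le_findGreatest hj0N ⟨a0, ha0, ha0x⟩
  obtain ⟨u, hu, hux⟩ := hspec
  refine ⟨_, u, hej.trans hge, by omega, hu, hux, fun j hj a ha => ?_⟩
  by_contra hax
  rcases le_or_gt j N with h | h
  · exact Nat.findGreatest_is_greatest hj h ⟨a, ha, hax⟩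
  · exact hax (hbig j h.le a ha)

end Groth.Misc15.GrCurve
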