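import Mathlib
import Groth.Agent.Misc15.GrCurve
import Groth.Agent.GrMod.SupportDim
import Groth.Agent.GrMod.Bass
import Groth.Agent.GrMod.StarInjDim
import Groth.Agent.LocCohBase.CM
import Groth.Agent.Ega4Algebra2.CMEquiv

/-! A positively graded algebra is Cohen–Macaulay if its depth at the irrelevant ideal is its
dimension. -/

set_option autoImplicit false

universe u

open DirectSum

namespace Groth.Misc15.GrCM

open GrCurve

variable {k : Type u} [Field k] {A : Type u} [CommRing A] [Algebra k A] (𝒜 : ℤ → Submodule k A)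
  [GradedAlgebra 𝒜]

/-- The pieces as additive subgroups. -/
abbrev pieces : ℤ → AddSubgroup A := fun i => (𝒜 i).toAddSubgroup

noncomputable instance gradedRing_pieces : GradedRing (pieces 𝒜) where
  one_mem := SetLike.GradedOne.one_mem (A := 𝒜)
  mul_mem {i j a b} ha hb := SetLike.GradedMul.mul_mem (A := 𝒜) ha hb
  decompose' := (decompose 𝒜 : A → _)
  left_inv x := (decompose 𝒜).left_inv x
  right_inv x := (decompose 𝒜).right_inv x

variable (hpos : ∀ n : ℤ, n < 0 → 𝒜 n = ⊥) (h0 : 𝒜 0 = Submodule.span k {(1 : A)})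

include h0 in
theorem isCM_of_le_depth [Nontrivial A] [Algebra.FiniteType k A] {d : ℕ} (hd : ringKrullDim A = d)
    (hdepth : ∃ rs : List A, rs.length = d ∧ RingTheory.Sequence.IsWeaklyRegular A rs ∧
      ∀ r ∈ rs, r ∈ irr 𝒜 hpos) : LocCoh.IsCohenMacaulayRing A := by
  classical
  haveI : IsNoetherianRing A := Algebra.FiniteType.isNoetherianRing k A
  haveI hm := irr_isMaximal 𝒜 hpos h0
  -- localized module versus localized ring
  have eloc : ∀ (p : Ideal A) [p.IsPrime],
      Nonempty (LocalizedModule p.primeCompl A ≃ₗ[Localization.AtPrime p] Localization.AtPrime p) :=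
    fun p _ => ⟨((IsLocalizedModule.isBaseChange p.primeCompl (Localization.AtPrime p)
      (LocalizedModule.mkLinearMap p.primeCompl A)).equiv).symm ≪≫ₗ
      TensorProduct.AlgebraTensorModule.rid A (Localization.AtPrime p) (Localization.AtPrime p)⟩
  have hCMm : LocCoh.IsCohenMacaulayModule (Localization.AtPrime (irr 𝒜 hpos))
      (Localization.AtPrime (irr 𝒜 hpos)) := by
    show Module.supportDim _ _ = _
    obtain ⟨rs, hlen, hreg, hmem⟩ := hdepth
    have hne : irr 𝒜 hpos • (⊤ : Submodule A A) ≠ ⊤ := by simpa using hm.ne_top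
    have h1 : (d : ℕ∞) ≤ LocCoh.idealDepth (irr 𝒜 hpos) A :=
      (Groth.LocCohBase.le_idealDepth_iff_exists _ hne d).2 ⟨rs, hlen, hreg, hmem⟩
    have h2 := h1.trans (Groth.LocCohBase.idealDepth_le_depth_localized (irr 𝒜 hpos) (irr 𝒜 hpos)
      le_rfl A)
    obtain ⟨e⟩ := eloc (irr 𝒜 hpos)
    rw [LocCoh.depth, Groth.LocCohBase.idealDepth_congr e] at h2
    refine le_antisymm ?_ (Groth.LocCohBase.depth_le_supportDim _)
    rw [Module.supportDim_self_eq_ringKrullDim,
      IsLocalization.AtPrime.ringKrullDim_eq_height (irr 𝒜 hpos) (Localization.AtPrime (irr 𝒜 hpos)),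
      height_irr 𝒜 hpos h0, hd]
    exact WithBot.coe_le_coe.2 h2
  obtain ⟨n, hn⟩ := Groth.LocCohBase.exists_depth_eq (R := Localization.AtPrime (irr 𝒜 hpos))
    (Localization.AtPrime (irr 𝒜 hpos))
  -- homogeneous primes
  have hhom : ∀ (q : Ideal A) [q.IsPrime], q ≤ irr 𝒜 hpos →
      LocCoh.IsCohenMacaulayLocalRing (Localization.AtPrime q) := by
    intro q _ hq
    haveI : LocCoh.IsCohenMacaulayLocalRing (Localization.AtPrime (irr 𝒜 hpos)) :=
      { supportDim_eq_depth := hCMm }
    let B := Localization.AtPrime (irr 𝒜 hpos)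
    let q' : Ideal B := q.map (algebraMap A B)
    have hdisj : Disjoint ((irr 𝒜 hpos).primeCompl : Set A) q :=
      Set.disjoint_left.2 fun a ha haq => ha (hq haq)
    haveI : q'.IsPrime :=
      IsLocalization.isPrime_of_isPrime_disjoint _ B q inferInstance hdisj
    have hcomap : q'.comap (algebraMap A B) = q :=
      IsLocalization.under_map_of_isPrime_disjoint _ B inferInstance hdisj
    let B' := Localization.AtPrime q'
    let e' : LocalizedModule q'.primeCompl B ≃ₗ[B'] B' :=
      ((IsLocalizedModule.isBaseChange q'.primeCompl B'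
        (LocalizedModule.mkLinearMap q'.primeCompl B)).equiv).symm ≪≫ₗ
        TensorProduct.AlgebraTensorModule.rid B B' B'
    haveI : Nontrivial (LocalizedModule q'.primeCompl B) := e'.toEquiv.nontrivial
    have h := Groth.LocCohBase.isCM_localized n B hCMm hn q' inferInstance
    haveI : LocCoh.IsCohenMacaulayLocalRing B' :=
      { supportDim_eq_depth := by
          have h' : Module.supportDim B' (LocalizedModule q'.primeCompl B) = _ := h
          rw [Module.supportDim_eq_of_equiv e', LocCoh.depth,
            Groth.LocCohBase.idealDepth_congr e'] at h'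
          exact h' }
    let e : B' ≃+* Localization.AtPrime q := by
      haveI : IsLocalization.AtPrime B' q := by
        have h := IsLocalization.isLocalization_isLocalization_atPrime_isLocalization
          (irr 𝒜 hpos).primeCompl B' q'
        simpa [hcomap] using h
      exact (IsLocalization.algEquiv q.primeCompl B' (Localization.AtPrime q)).toRingEquiv
    exact Groth.Ega4b.isCohenMacaulayLocalRing_of_ringEquiv e inferInstance
  refine { isCohenMacaulayLocalRing_localization := fun p _ => ?_ }
  haveI : (GrothGr.core (pieces 𝒜) p).IsPrime := GrothGr.isPrime_core_int (pieces 𝒜) p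
  have hcore : GrothGr.core (pieces 𝒜) p ≤ irr 𝒜 hpos := by
    refine le_irr 𝒜 hpos h0 ?_ (inferInstance : (GrothGr.core (pieces 𝒜) p).IsPrime).ne_top
    exact (p.homogeneousCore (pieces 𝒜)).isHomogeneous
  by_cases hp : p.IsHomogeneous (pieces 𝒜)
  · exact hhom p (le_irr 𝒜 hpos h0 hp (inferInstance : p.IsPrime).ne_top)
  have hh := GrothGr.height_core_eq_one (pieces 𝒜) p hp
  obtain ⟨ep⟩ := eloc p
  obtain ⟨eq⟩ := eloc (GrothGr.core (pieces 𝒜) p)
  haveI : Nontrivial (LocalizedModule p.primeCompl A) := ep.toEquiv.nontrivial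
  have h1 := GrothGr.supportDim_core (pieces 𝒜) (pieces 𝒜) p hh inferInstance
  have h2 := GrothGr.depth_core_shift (pieces 𝒜) (pieces 𝒜) (M := A) p hh
  rw [Module.supportDim_eq_of_equiv ep, Module.supportDim_eq_of_equiv eq,
    (hhom _ hcore).supportDim_eq_depth] at h1
  simp only [LocCoh.depth] at h1 h2
  rw [Groth.LocCohBase.idealDepth_congr ep, Groth.LocCohBase.idealDepth_congr eq] at h2
  exact { supportDim_eq_depth := by rw [h1, LocCoh.depth, h2]; rfl }

end Groth.Misc15.GrCM
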