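import Mathlib
import Groth.Agent.Misc15.GrCurve
import Groth.Agent.Misc13.RegularPrefix
import Groth.Agent.S14424

/-! Homogeneous regular sequences in positively graded Cohen–Macaulay algebras. -/

set_option autoImplicit false

universe u

open DirectSum

namespace Groth.Misc15.GrRegSeq

open GrCurve

variable {k : Type u} [Field k] {A : Type u} [CommRing A] [Algebra k A] (𝒜 : ℤ → Submodule k A)
  [GradedAlgebra 𝒜] (hpos : ∀ n : ℤ, n < 0 → 𝒜 n = ⊥)
  (h0 : 𝒜 0 = Submodule.span k {(1 : A)})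

include hpos in
/-- Homogeneous prime avoidance. -/
theorem exists_avoid (P : Finset (Ideal A)) (hP : ∀ p ∈ P, p.IsPrime ∧ ¬ irr 𝒜 hpos ≤ p) :
    ∃ (n : ℕ) (z : A), 0 < n ∧ z ∈ 𝒜 n ∧ ∀ p ∈ P, z ∉ p := by
  classical
  let C := P.image fun p => (Ideal.homogeneousCore 𝒜 p).toIdeal
  have hC : ∀ c ∈ C, c.IsPrime ∧ c.IsHomogeneous 𝒜 ∧ ¬ irr 𝒜 hpos ≤ c := by
    intro c hc
    obtain ⟨p, hp, rfl⟩ := Finset.mem_image.1 hc
    obtain ⟨h1, h2⟩ := hP p hp
    exact ⟨h1.homogeneousCore, (Ideal.homogeneousCore 𝒜 p).isHomogeneous,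
      fun h => h2 (h.trans (Ideal.toIdeal_homogeneousCore_le 𝒜 p))⟩
  let Q := C.filter fun p => ∀ q ∈ C, p ≤ q → q ≤ p
  have hQ : ∀ p ∈ C, ∃ q ∈ Q, p ≤ q := by
    intro p hp
    obtain ⟨q, hmax⟩ := (C.filter fun q => p ≤ q).exists_maximal ⟨p, Finset.mem_filter.2 ⟨hp, le_rfl⟩⟩
    obtain ⟨hqP, hpq⟩ := Finset.mem_filter.1 hmax.prop
    exact ⟨q, Finset.mem_filter.2 ⟨hqP, fun r hr hqr =>
      hmax.le_of_ge (Finset.mem_filter.2 ⟨hr, hpq.trans hqr⟩) hqr⟩, hpq⟩
  suffices ∃ (n : ℕ) (z : A), 0 < n ∧ z ∈ 𝒜 n ∧ ∀ p ∈ Q, z ∉ p by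
    obtain ⟨n, z, h1, h2, h4⟩ := this
    refine ⟨n, z, h1, h2, fun p hp hz => ?_⟩
    obtain ⟨q, hq, hpq⟩ := hQ _ (Finset.mem_image_of_mem _ hp)
    exact h4 q hq (hpq (Ideal.mem_homogeneousCore_of_homogeneous_of_mem ⟨_, h2⟩ hz))
  have each : ∀ p : Q, ∃ (n : ℕ) (a : A), 0 < n ∧ a ∈ 𝒜 n ∧ a ∉ (p : Ideal A) ∧
      ∀ q : Q, q ≠ p → a ∈ (q : Ideal A) := by
    rintro ⟨p, hp⟩
    obtain ⟨hpC, hpmax⟩ := Finset.mem_filter.1 hp
    haveI := (hC p hpC).1
    let J : Ideal A := irr 𝒜 hpos ⊓ (Q.erase p).inf id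
    have hJ : ¬ J ≤ p := by
      intro hle
      rcases (inferInstance : p.IsPrime).inf_le.1 hle with h | h
      · exact (hC p hpC).2.2 h
      · obtain ⟨q, hq, hqp⟩ := (Ideal.IsPrime.inf_le' inferInstance).1 h
        obtain ⟨hne, hqQ⟩ := Finset.mem_erase.1 hq
        obtain ⟨hqC, hqmax⟩ := Finset.mem_filter.1 hqQ
        exact hne (le_antisymm hqp (hqmax p hpC hqp))
    obtain ⟨z, hzJ, hzp⟩ := SetLike.not_le_iff_exists.1 hJ
    obtain ⟨i, hi⟩ : ∃ i, (decompose 𝒜 z i : A) ∉ p := by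
      by_contra hall
      push Not at hall
      exact hzp (sum_support_decompose 𝒜 z ▸ Ideal.sum_mem _ fun i _ => hall i)
    have hipos : 0 < i := by
      rcases lt_trichotomy i 0 with h | h | h
      · exact absurd (by rw [decompose_neg 𝒜 hpos h]; exact zero_mem _) hi
      · subst h
        exact absurd (by rw [(mem_irr 𝒜 hpos).1 hzJ.1]; exact zero_mem _) hi
      · exact h
    refine ⟨i.toNat, _, by omega, by rw [Int.toNat_of_nonneg hipos.le]; exact (decompose 𝒜 z i).2,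
      hi, ?_⟩
    rintro ⟨q, hq⟩ hne
    have hzq : z ∈ q :=
      (Finset.inf_le (f := id) (Finset.mem_erase.2 ⟨fun h => hne (Subtype.ext h), hq⟩)) hzJ.2
    exact (hC q (Finset.mem_filter.1 hq).1).2.1 i hzq
  choose n a hn ha hap haq using each
  let N := ∏ p : Q, n p
  have hN : 0 < N := Finset.prod_pos fun p _ => hn p
  have hdvd : ∀ p, n p ∣ N := fun p => Finset.dvd_prod_of_mem _ (Finset.mem_univ p)
  have he : ∀ p, 0 < N / n p := fun p => Nat.div_pos (Nat.le_of_dvd hN (hdvd p)) (hn p)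
  refine ⟨N, ∑ p : Q, a p ^ (N / n p), hN, sum_mem fun p _ => ?_, fun p hp h => ?_⟩
  · have := SetLike.pow_mem_graded (N / n p) (ha p)
    rwa [nsmul_eq_mul, ← Nat.cast_mul, Nat.div_mul_cancel (hdvd p)] at this
  · haveI := (hC p (Finset.mem_filter.1 hp).1).1
    rw [← Finset.add_sum_erase _ _ (Finset.mem_univ (⟨p, hp⟩ : Q))] at h
    have h2 : (∑ q ∈ Finset.univ.erase (⟨p, hp⟩ : Q), a q ^ (N / n q)) ∈ p :=
      Ideal.sum_mem _ fun q hq => Ideal.pow_mem_of_mem _
        (haq q ⟨p, hp⟩ (Finset.mem_erase.1 hq).1.symm) _ (he q)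
    exact hap ⟨p, hp⟩
      ((Ideal.IsPrime.mem_of_pow_mem (by infer_instance) _ ((Ideal.add_mem_iff_left p h2).1 h)))

include hpos h0 in
/-- A positively graded Cohen–Macaulay algebra of dimension `s` has a regular sequence of length
`s` of positive degree homogeneous elements with degrees divisible by a given number. -/
theorem exists_regSeq [Algebra.FiniteType k A] [LocCoh.IsCohenMacaulayRing A] {s : ℕ}
    (hs : ringKrullDim A = s) {e : ℕ} (he : 0 < e) :
    ∃ L : List (ℕ × A), L.length = s ∧ (∀ p ∈ L, 0 < p.1 ∧ p.2 ∈ 𝒜 ((e * p.1 : ℕ) : ℤ)) ∧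
      RingTheory.Sequence.IsWeaklyRegular A (L.map Prod.snd) := by
  classical
  haveI : IsNoetherianRing A := Algebra.FiniteType.isNoetherianRing k A
  haveI : Nontrivial A := by
    by_contra h
    rw [not_nontrivial_iff_subsingleton] at h
    rw [ringKrullDim_eq_bot_of_subsingleton] at hs
    simp at hs
  haveI hm := irr_isMaximal 𝒜 hpos h0
  have hdepth : LocCoh.idealDepth (irr 𝒜 hpos) A = s := by
    rw [(Groth.Agent.S14424.result A).1 inferInstance _ hm.ne_top]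
    exact WithBot.coe_injective ((height_irr 𝒜 hpos h0).trans hs)
  suffices H : ∀ i ≤ s, ∃ L : List (ℕ × A), L.length = i ∧
      (∀ p ∈ L, 0 < p.1 ∧ p.2 ∈ 𝒜 ((e * p.1 : ℕ) : ℤ)) ∧
      RingTheory.Sequence.IsWeaklyRegular A (L.map Prod.snd) from H s le_rfl
  intro i
  induction i with
  | zero => exact fun _ => ⟨[], rfl, by simp, RingTheory.Sequence.IsWeaklyRegular.nil A A⟩
  | succ i ih =>
    intro hi
    obtain ⟨L, hlen, hL, hreg⟩ := ih (by omega)
    have hmem : ∀ x ∈ L.map Prod.snd, x ∈ irr 𝒜 hpos := by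
      intro x hx
      obtain ⟨p, hp, rfl⟩ := List.mem_map.1 hx
      exact mem_irr_of_mem 𝒜 hpos (hL p hp).2 (by exact_mod_cast Nat.mul_pos he (hL p hp).1)
    obtain ⟨-, hass⟩ := Groth.Misc13.RegularPrefix.not_le_of_length_lt hm.ne_top hreg hmem
      (by rw [hdepth, List.length_map, hlen]; exact_mod_cast hi)
    have hfin := associatedPrimes.finite A (A ⧸ Ideal.ofList (L.map Prod.snd))
    obtain ⟨d, z, hd, hz, hzQ⟩ := exists_avoid 𝒜 hpos hfin.toFinset fun Q hQ =>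
      ⟨(hfin.mem_toFinset.1 hQ).isPrime, hass Q (hfin.mem_toFinset.1 hQ)⟩
    refine ⟨L ++ [(d, z ^ e)], by simp [hlen], ?_, ?_⟩
    · intro p hp
      rcases List.mem_append.1 hp with hp | hp
      · exact hL p hp
      · rw [List.mem_singleton.1 hp]
        refine ⟨hd, ?_⟩
        have := SetLike.pow_mem_graded e hz
        rwa [nsmul_eq_mul, ← Nat.cast_mul] at this
    · rw [List.map_append, RingTheory.Sequence.isWeaklyRegular_append_iff]
      refine ⟨hreg, ?_⟩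
      rw [List.map_singleton, RingTheory.Sequence.isWeaklyRegular_singleton_iff]
      have hI : Ideal.ofList (L.map Prod.snd) • (⊤ : Submodule A A) = Ideal.ofList (L.map Prod.snd) := by
        rw [smul_eq_mul, Ideal.mul_top]
      rw [(Submodule.quotEquivOfEq _ _ hI).isSMulRegular_congr]
      refine IsSMulRegular.pow e ?_
      by_contra hn
      have : z ∈ ({r : A | IsSMulRegular (A ⧸ Ideal.ofList (L.map Prod.snd)) r}ᶜ : Set A) := hn
      rw [← biUnion_associatedPrimes_eq_compl_regular, Set.mem_iUnion₂] at this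
      obtain ⟨Q, hQ, hzq⟩ := this
      exact hzQ Q (hfin.mem_toFinset.2 hQ) hzq

include hpos h0 in
/-- In dimension one a regular homogeneous element generates the irrelevant ideal up to radical. -/
theorem irr_le_radical [Algebra.FiniteType k A] [Nontrivial A] (h1 : ringKrullDim A = 1) {e : ℕ}
    (he : 0 < e) {x : A} (hx : x ∈ 𝒜 e) (hreg : x ∈ nonZeroDivisors A) :
    irr 𝒜 hpos ≤ (Ideal.span {x}).radical := by
  classical
  haveI : IsNoetherianRing A := Algebra.FiniteType.isNoetherianRing k A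
  haveI hm := irr_isMaximal 𝒜 hpos h0
  rw [Ideal.radical_eq_sInf]
  refine le_sInf fun P hP => ?_
  haveI := hP.2
  haveI : (P.homogeneousCore 𝒜).toIdeal.IsPrime := (inferInstance : P.IsPrime).homogeneousCore
  set C := (P.homogeneousCore 𝒜).toIdeal
  have hxC : x ∈ C :=
    Ideal.subset_span ⟨⟨x, (e : ℤ), hx⟩, hP.1 (Ideal.mem_span_singleton_self x), rfl⟩
  have hCm : C ≤ irr 𝒜 hpos :=
    le_irr 𝒜 hpos h0 (P.homogeneousCore 𝒜).isHomogeneous (inferInstance : C.IsPrime).ne_top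
  obtain ⟨Q, hQ, hQC⟩ := Ideal.exists_minimalPrimes_le (bot_le : (⊥ : Ideal A) ≤ C)
  haveI := hQ.1.1
  have hxQ : x ∉ Q := fun h => Set.disjoint_left.1
    (Ideal.disjoint_nonZeroDivisors_of_mem_minimalPrimes hQ) h hreg
  have hlt : Q < C := lt_of_le_of_ne hQC fun h => hxQ (h ▸ hxC)
  rcases hCm.eq_or_lt with heq | hlt'
  · exact heq ▸ (Ideal.toIdeal_homogeneousCore_le 𝒜 P)
  · exfalso
    have a := Ideal.height_strict_mono_of_isPrime hlt
    have b := Ideal.height_strict_mono_of_isPrime hlt'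
    have a' : 1 ≤ C.height := by
      rw [Order.one_le_iff_pos]; exact lt_of_le_of_lt zero_le a
    have h2 : (2 : ℕ∞) ≤ (irr 𝒜 hpos).height := by
      calc (2 : ℕ∞) = 1 + 1 := (one_add_one_eq_two).symm
        _ ≤ C.height + 1 := by gcongr
        _ ≤ (irr 𝒜 hpos).height := Order.add_one_le_of_lt b
    rw [show ((irr 𝒜 hpos).height) = 1 from
      WithBot.coe_injective ((height_irr 𝒜 hpos h0).trans h1)] at h2
    norm_num at h2

include hpos in
theorem toIdeal_eq_irr {m : Ideal A}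
    (hm : m = Ideal.span (⋃ n ∈ Set.Ioi (0 : ℤ), (𝒜 n : Set A))) : m = irr 𝒜 hpos := by
  classical
  refine le_antisymm ?_ fun z hz => ?_
  · rw [hm, Ideal.span_le]
    intro z hz
    obtain ⟨n, hn, hzn⟩ := Set.mem_iUnion₂.1 hz
    exact mem_irr_of_mem 𝒜 hpos hzn hn
  · rw [← sum_support_decompose 𝒜 z]
    refine Ideal.sum_mem _ fun i _ => ?_
    rcases lt_trichotomy i 0 with hi | rfl | hi
    · rw [decompose_neg 𝒜 hpos hi]; exact zero_mem _
    · rw [(mem_irr 𝒜 hpos).1 hz]; exact zero_mem _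
    · rw [hm]; exact Ideal.subset_span (Set.mem_biUnion (Set.mem_Ioi.2 hi) (SetLike.coe_mem _))

end Groth.Misc15.GrRegSeq
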