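import Mathlib
import Groth.Agent.GrSyz.StarKoszul

/-! The pieces of the first graded local cohomology of the ring in the ideal of a regular element. -/

set_option autoImplicit false

universe u

open DirectSum GrLC

namespace Groth.Misc15.HOne

variable {k : Type u} [Field k] {R : Type u} [CommRing R] [Algebra k R] {𝒜 : ℤ → Submodule k R}
  [GradedAlgebra 𝒜] (I : StarInjRes 𝒜 𝒜)

theorem ε_component (r : R) (g : ℤ) :
    I.ε (decompose 𝒜 r g : R) = GrothGr.pr (I.X 0).gr g (I.ε r) := by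
  classical
  induction r using DirectSum.Decomposition.inductionOn 𝒜 with
  | zero => simp
  | add a b ha hb =>
    rw [decompose_add, DirectSum.add_apply, Submodule.coe_add, map_add, ha, hb, map_add I.ε a b,
      map_add]
  | @homogeneous i a =>
    rcases eq_or_ne i g with rfl | hne
    · rw [decompose_of_mem_same 𝒜 a.2, GrothGr.pr_of_mem _ (I.ε_grHom i _ a.2)]
    · rw [decompose_of_mem_ne 𝒜 a.2 hne, GrothGr.pr_of_mem_ne _ (I.ε_grHom i _ a.2) hne, map_zero]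

variable {e : ℕ} {x : R}

/-- An element of `X 0` whose product with `x ^ N` is `ε r`. -/
theorem exists_div (hx : x ∈ 𝒜 e) (hreg : x ∈ nonZeroDivisors R) (n : ℤ) (N : ℕ) {r : R}
    (hr : r ∈ 𝒜 (n + ((N * e : ℕ) : ℤ))) :
    ∃ ξ ∈ (I.X 0).gr n, x ^ N • ξ = I.ε r := by
  let c : ℤ := n + ((N * e : ℕ) : ℤ)
  let f : R →ₗ[R] R := LinearMap.mulLeft R (x ^ N)
  let g : R →ₗ[R] (I.X 0).carrier := LinearMap.toSpanSingleton R _ (I.ε r)
  have hxN : x ^ N ∈ 𝒜 ((N * e : ℕ) : ℤ) := by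
    have := SetLike.pow_mem_graded N hx
    rwa [nsmul_eq_mul, ← Nat.cast_mul] at this
  have hf : IsGrHom (Groth.GrSyzLib.shiftPc 𝒜 c) (Groth.GrSyzLib.shiftPc 𝒜 n) f := by
    intro j a ha
    show x ^ N * a ∈ 𝒜 (j - n)
    have := SetLike.mul_mem_graded hxN (show a ∈ 𝒜 (j - c) from ha)
    rwa [show ((N * e : ℕ) : ℤ) + (j - c) = j - n by simp only [c]; ring] at this
  have hinj : Function.Injective f := fun a b h =>
    (mul_cancel_left_mem_nonZeroDivisors (pow_mem hreg N)).1 h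
  have hg : IsGrHom (Groth.GrSyzLib.shiftPc 𝒜 c) (I.X 0).gr g := by
    intro j a ha
    show a • I.ε r ∈ (I.X 0).gr j
    rw [← map_smul, smul_eq_mul]
    refine I.ε_grHom j _ ?_
    have := SetLike.mul_mem_graded (show a ∈ 𝒜 (j - c) from ha) (show r ∈ 𝒜 c from hr)
    rwa [sub_add_cancel] at this
  obtain ⟨h, hh, hhg⟩ := I.starInj 0 (GMod.of 𝒜 R (Groth.GrSyzLib.shiftPc 𝒜 c))
    (GMod.of 𝒜 R (Groth.GrSyzLib.shiftPc 𝒜 n)) f hf hinj g hg
  refine ⟨h (1 : R), hh n (1 : R) ?_, ?_⟩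
  · show (1 : R) ∈ 𝒜 (n - n)
    rw [sub_self]
    exact SetLike.GradedOne.one_mem
  · have h1 : h (f (1 : R)) = g (1 : R) := LinearMap.congr_fun hhg (1 : R)
    have h2 : f (1 : R) = x ^ N • (1 : R) := rfl
    rw [h2] at h1
    refine (map_smul h (x ^ N) (1 : R)).symm.trans (h1.trans ?_)
    show (1 : R) • I.ε r = I.ε r
    exact one_smul _ _

variable (mR : HomogeneousIdeal 𝒜)

/-- Torsion is torsion for the regular element. -/
theorem mem_gam_iff [IsNoetherianRing R] (hxm : x ∈ mR.toIdeal)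
    (hrad : mR.toIdeal ≤ (Ideal.span {x}).radical) {V : Type u} [AddCommGroup V] [Module R V]
    (v : V) : v ∈ gam mR.toIdeal V ↔ ∃ N : ℕ, x ^ N • v = 0 := by
  constructor
  · rintro ⟨N, hN⟩
    exact ⟨N, hN _ (Ideal.pow_mem_pow hxm N)⟩
  · rintro ⟨N, hN⟩
    obtain ⟨M, hM⟩ := Ideal.exists_pow_le_of_le_radical_of_fg hrad (IsNoetherian.noetherian _)
    refine ⟨M * N, fun r hr => ?_⟩
    have h1 : r ∈ Ideal.span {x ^ N} := by
      rw [← Ideal.span_singleton_pow]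
      rw [pow_mul] at hr
      exact Ideal.pow_right_mono hM N hr
    obtain ⟨a, rfl⟩ := Ideal.mem_span_singleton'.1 h1
    rw [mul_smul, hN, smul_zero]

/-- A piece of the first local cohomology vanishes iff division by powers of `x` is possible. -/
theorem hcomp_eq_bot_iff [IsNoetherianRing R] (hx : x ∈ 𝒜 e) (hreg : x ∈ nonZeroDivisors R)
    (hxm : x ∈ mR.toIdeal) (hrad : mR.toIdeal ≤ (Ideal.span {x}).radical) (n : ℤ) :
    I.Hcomp mR 1 n = ⊥ ↔
      ∀ (N : ℕ) (r : R), r ∈ 𝒜 (n + ((N * e : ℕ) : ℤ)) → r ∈ Ideal.span {x ^ N} := by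
  classical
  constructor
  · intro h N r hr
    obtain ⟨ξ, hξ, hξr⟩ := exists_div I hx hreg n N hr
    have hz1 : I.d 0 ξ ∈ gam mR.toIdeal (I.X 1).carrier := by
      rw [mem_gam_iff mR hxm hrad]
      refine ⟨N, ?_⟩
      rw [← map_smul, hξr]
      exact LinearMap.mem_ker.1 (I.exact_zero.ge ⟨r, rfl⟩)
    have hz2 : I.d 0 ξ ∈ LinearMap.ker (I.d 1) := (I.exact_succ 0).ge ⟨ξ, rfl⟩
    have hz : I.toH mR 1 ⟨I.d 0 ξ, hz1, hz2⟩ ∈ I.Hcomp mR 1 n :=
      ⟨⟨I.d 0 ξ, hz1, hz2⟩, I.d_grHom 0 n ξ hξ, rfl⟩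
    rw [h, Submodule.mem_bot] at hz
    obtain ⟨y, hy, hyz⟩ := (Submodule.Quotient.mk_eq_zero _).1 hz
    change I.d 0 y = I.d 0 ξ at hyz
    obtain ⟨r0, hr0⟩ : ξ - y ∈ LinearMap.range I.ε := by
      rw [← I.exact_zero, LinearMap.mem_ker, map_sub, hyz, sub_self]
    obtain ⟨N', hN'⟩ := (mem_gam_iff mR hxm hrad y).1 hy
    have h1 : I.ε (x ^ N' * r) = I.ε (x ^ N' * (x ^ N * r0)) := by
      rw [← smul_eq_mul, map_smul, ← hξr, ← smul_eq_mul, map_smul, ← smul_eq_mul, map_smul, hr0,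
        smul_sub, smul_sub, smul_comm (x ^ N') (x ^ N) y, hN', smul_zero, sub_zero]
    rw [(mul_cancel_left_mem_nonZeroDivisors (pow_mem hreg N')).1 (I.ε_injective h1)]
    exact Ideal.mul_mem_right _ _ (Ideal.mem_span_singleton_self _)
  · intro h
    rw [Submodule.eq_bot_iff]
    rintro _ ⟨⟨z, hzg, hzk⟩, hzn, rfl⟩
    change z ∈ (I.X 1).gr n at hzn
    obtain ⟨ξ', hξ'⟩ : z ∈ LinearMap.range (I.d 0) := (I.exact_succ 0) ▸ hzk
    obtain ⟨N, hN⟩ := (mem_gam_iff mR hxm hrad z).1 hzg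
    let ξ := GrothGr.pr (I.X 0).gr n ξ'
    have hξz : I.d 0 ξ = z := by
      rw [GrothGr.map_pr _ _ (I.d_grHom 0), hξ', GrothGr.pr_of_mem _ hzn]
    have hxN : x ^ N ∈ 𝒜 ((N * e : ℕ) : ℤ) := by
      have := SetLike.pow_mem_graded N hx
      rwa [nsmul_eq_mul, ← Nat.cast_mul] at this
    obtain ⟨r, hr⟩ : x ^ N • ξ ∈ LinearMap.range I.ε := by
      rw [← I.exact_zero, LinearMap.mem_ker, map_smul, hξz, hN]
    have hr' : I.ε (decompose 𝒜 r (n + ((N * e : ℕ) : ℤ)) : R) = x ^ N • ξ := by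
      rw [ε_component, hr, GrothGr.pr_of_mem]
      have := GrothGr.smul_mem (I.X 0).gr 𝒜 hxN (GrothGr.pr_mem (I.X 0).gr n ξ')
      rwa [add_comm] at this
    obtain ⟨a, ha⟩ := Ideal.mem_span_singleton'.1 (h N _ (decompose 𝒜 r _).2)
    refine (Submodule.Quotient.mk_eq_zero _).2 ⟨ξ - I.ε a, ?_, ?_⟩
    · show ξ - I.ε a ∈ gam mR.toIdeal (I.X 0).carrier
      rw [mem_gam_iff mR hxm hrad]
      refine ⟨N, ?_⟩
      rw [smul_sub, ← map_smul I.ε, smul_eq_mul, mul_comm, ha, hr', sub_self]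
    · show I.d 0 (ξ - I.ε a) = z
      rw [map_sub, hξz, show I.d 0 (I.ε a) = 0 from LinearMap.mem_ker.1 (I.exact_zero.ge ⟨a, rfl⟩),
        sub_zero]

end Groth.Misc15.HOne
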