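import Groth.Agent.GrSyz.Ring
import Groth.Agent.GrSyz.Hilbert
import Groth.Agent.Calg5.HilbertFn
import Groth.Agent.GrDualH.Base
import Groth.Agent.Misc15.CMUnmixed
import Groth.Agent.Calg8.PointsIdeal

/-!
Top coefficient of Hilbert functions of quotients by homogeneous ideals of a polynomial ring:
additivity over the local lengths at the primes of smallest height.
-/

set_option autoImplicit false
set_option linter.style.haveILetI false

universe u

open Polynomial

namespace Groth.Misc15.HilbLead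

/-- Eventual vanishing of iterated differences. -/
theorem exists_fwdDiff_eq_zero : ∀ {r : ℕ} {f : ℕ → ℚ} {g : ℚ → ℚ}, Calg5.HilbertFn.Num r f →
    (∃ N, ∀ j : ℕ, N ≤ j → f j = g j) → ∃ N, ∀ j : ℕ, N ≤ j → (fwdDiff (1 : ℚ))^[r] g (j : ℚ) = 0
  | 0, f, g, ⟨N, hN⟩, ⟨N', hN'⟩ => ⟨N + N', fun j hj => by
      rw [Function.iterate_zero_apply, ← hN' j (by omega), hN j (by omega)]⟩
  | r + 1, f, g, hf, ⟨N', hN'⟩ => by
    simp_rw [Function.iterate_succ_apply]
    refine exists_fwdDiff_eq_zero (r := r) hf ⟨N', fun j hj => ?_⟩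
    show f (j + 1) - f j = g ((j : ℚ) + 1) - g j
    rw [hN' j hj, hN' (j + 1) (by omega), Nat.cast_add, Nat.cast_one]

/-- A polynomial with few differences has no coefficient in that degree. -/
theorem coeff_eq_zero {r : ℕ} {f : ℕ → ℚ} {q : ℚ[X]} (hf : ∀ e, r ≤ e → Calg5.HilbertFn.Num e f)
    (h : ∃ N, ∀ j : ℕ, N ≤ j → f j = q.eval (j : ℚ)) : q.coeff r = 0 := by
  by_contra hne
  obtain ⟨N, hN⟩ := exists_fwdDiff_eq_zero (g := fun x => q.eval x) (hf _ (Polynomial.le_natDegree_of_ne_zero hne)) h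
  have := hN N le_rfl
  rw [Polynomial.fwdDiff_iter_degree_eq_factorial] at this
  simp only [Pi.smul_apply, Pi.natCast_apply, smul_eq_mul, mul_eq_zero, Nat.cast_eq_zero] at this
  rcases this with h | h
  · exact hne (by rw [Polynomial.leadingCoeff_eq_zero.1 h, Polynomial.coeff_zero])
  · exact Nat.factorial_ne_zero _ h

theorem num_succ : ∀ {r : ℕ} {f : ℕ → ℚ}, Calg5.HilbertFn.Num r f → Calg5.HilbertFn.Num (r + 1) f
  | r, f, hf => Calg5.HilbertFn.Num.sub (hf.shift 1) hf

theorem num_mono {r s : ℕ} (h : r ≤ s) {f : ℕ → ℚ} (hf : Calg5.HilbertFn.Num r f) : Calg5.HilbertFn.Num s f := by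
  induction h with
  | refl => exact hf
  | step _ ih => exact num_succ ih

/-- Translating changes only lower order terms. -/
theorem num_translate {r : ℕ} {f : ℕ → ℚ} (hf : Calg5.HilbertFn.Num (r + 1) f) :
    ∀ d : ℕ, Calg5.HilbertFn.Num r fun j => f (j + d) - f j
  | 0 => Calg5.HilbertFn.Num.congr Calg5.HilbertFn.Num.zero ⟨0, fun j _ => by simp⟩
  | d + 1 => Calg5.HilbertFn.Num.congr (Calg5.HilbertFn.Num.add ((show Calg5.HilbertFn.Num r fun j => f (j + 1) - f j from hf).shift d)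
      (num_translate hf d)) ⟨0, fun j _ => by simp only [Nat.add_assoc]; ring⟩

theorem num_sum {r : ℕ} {κ : Type*} (s : Finset κ) {f : κ → ℕ → ℚ} (h : ∀ i ∈ s, Calg5.HilbertFn.Num r (f i)) :
    Calg5.HilbertFn.Num r fun j => ∑ i ∈ s, f i j := by
  classical
  induction s using Finset.induction_on with
  | empty => simpa using Calg5.HilbertFn.Num.zero
  | insert i s hi ih =>
    simp_rw [Finset.sum_insert hi]
    exact Calg5.HilbertFn.Num.add (h i (Finset.mem_insert_self i s)) (ih fun l hl => h l (Finset.mem_insert_of_mem hl))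

section Poly

variable {K : Type u} [Field K] {n : ℕ}

local notation "R" => MvPolynomial (Fin (n + 1)) K
local notation "𝒮" => GrSyz.stdGr K (Fin (n + 1))

/-- The Hilbert function of a quotient. -/
noncomputable def hf (B : Ideal (MvPolynomial (Fin (n + 1)) K)) (g : ℤ) : ℚ :=
  (Module.finrank K
    ↥(Submodule.map (Ideal.Quotient.mkₐ K B).toLinearMap (GrSyz.stdGr K (Fin (n + 1)) g)) : ℚ)

instance finite_stdGr (g : ℤ) : Module.Finite K (GrSyz.stdGr K (Fin (n + 1)) g) :=
  (Groth.GrSyzLib.finite_and_finrank_stdGr n g).1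

theorem hf_eq (B : Ideal R) (g : ℤ) :
    hf B g = (Module.finrank K (𝒮 g) : ℚ) -
      (Module.finrank K ↥(𝒮 g ⊓ B.restrictScalars K) : ℚ) := by
  have h := Groth.GrSyzLib.finrank_eq_map_add_inf_ker (Ideal.Quotient.mkₐ K B).toLinearMap (𝒮 g)
  have hk : LinearMap.ker (Ideal.Quotient.mkₐ K B).toLinearMap = B.restrictScalars K := by
    ext x
    exact Ideal.Quotient.eq_zero_iff_mem
  rw [hk] at h
  rw [hf, h]
  push_cast
  ring

theorem hf_neg (B : Ideal R) {g : ℤ} (hg : g < 0) : hf B g = 0 := by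
  have h0 : 𝒮 g = ⊥ := eq_bot_iff.2 fun p hp => Groth.GrSyzLib.eq_zero_of_neg hg hp
  rw [hf, h0, Submodule.map_bot, finrank_bot, Nat.cast_zero]

theorem hf_top (g : ℤ) : hf (⊤ : Ideal R) g = 0 := by
  rw [hf_eq, Submodule.restrictScalars_top, inf_top_eq, sub_self]

/-- Colon by a homogeneous element. -/
theorem isHomogeneous_colon {B : Ideal R} (hB : B.IsHomogeneous 𝒮) {x : R} {d : ℤ} (hx : x ∈ 𝒮 d) :
    (B.colon {x}).IsHomogeneous 𝒮 := fun i r hr => by
  rw [Submodule.mem_colon_singleton, smul_eq_mul] at hr ⊢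
  rw [mul_comm] at hr
  have h := Groth.GrDualH.proj_smul (k := K) (𝒜 := 𝒮) (ℳ := 𝒮) hx (i + d) r
  rw [add_sub_cancel_right] at h
  show (DirectSum.decompose 𝒮 r i : R) * x ∈ B
  rw [mul_comm, ← smul_eq_mul]
  have h' := hB (i + d) hr
  change Groth.GrDualH.proj 𝒮 (i + d) (x * r) ∈ B at h'
  rw [← smul_eq_mul x r, h] at h'
  exact h'

/-- A homogeneous prime colon ideal. -/
theorem exists_prime_colon {B : Ideal R} (hB : B.IsHomogeneous 𝒮) (hne : B ≠ ⊤) :
    ∃ (x : R) (d : ℕ), x ∈ 𝒮 (d : ℤ) ∧ x ∉ B ∧ (B.colon {x}).IsPrime ∧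
      (B.colon {x}).IsHomogeneous 𝒮 := by
  let S : Set (Ideal R) := {P | ∃ (x : R) (d : ℤ), x ∈ 𝒮 d ∧ x ∉ B ∧ B.colon {x} = P}
  obtain ⟨_, ⟨x, d, hx, hxB, rfl⟩, hmax⟩ := set_has_maximal_iff_noetherian.2
    (inferInstance : IsNoetherian R R) S ⟨_, 1, 0, SetLike.one_mem_graded 𝒮,
      fun h => hne ((Ideal.eq_top_iff_one B).2 h), rfl⟩
  have hd : 0 ≤ d := by
    by_contra h
    exact hxB (by rw [Groth.GrSyzLib.eq_zero_of_neg (lt_of_not_ge h) hx]; exact zero_mem _)
  refine ⟨x, d.toNat, by rwa [Int.toNat_of_nonneg hd], hxB, ?_, isHomogeneous_colon hB hx⟩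
  refine (isHomogeneous_colon hB hx).isPrime_of_homogeneous_mem_or_mem (fun h => hxB (by
    simpa using Submodule.mem_colon_singleton.1 ((Ideal.eq_top_iff_one _).1 h))) ?_
  rintro a b ⟨i, ha⟩ - hab
  by_contra hcon
  rw [not_or] at hcon
  obtain ⟨haP, hbP⟩ := hcon
  have hax : a * x ∉ B := fun h => haP (Submodule.mem_colon_singleton.2 h)
  have hle : B.colon {x} ≤ B.colon {a * x} := fun r hr => by
    rw [Submodule.mem_colon_singleton, smul_eq_mul] at hr ⊢
    rw [mul_left_comm]
    exact B.mul_mem_left a hr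
  rcases hle.eq_or_lt with h | h
  · refine hbP (h ▸ ?_)
    rw [Submodule.mem_colon_singleton, smul_eq_mul] at hab ⊢
    rwa [← mul_assoc, mul_comm b a]
  · exact hmax _ ⟨a * x, i + d, SetLike.mul_mem_graded ha hx, hax, rfl⟩ h

theorem isHomogeneous_sup_span {B : Ideal R} (hB : B.IsHomogeneous 𝒮) {x : R} {d : ℤ}
    (hx : x ∈ 𝒮 d) : (B ⊔ Ideal.span {x}).IsHomogeneous 𝒮 :=
  hB.sup (Ideal.homogeneous_span 𝒮 _ fun y hy => ⟨d, (Set.mem_singleton_iff.1 hy) ▸ hx⟩)

/-- The Hilbert function along an extension by one element. -/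
theorem hf_step {B : Ideal R} (hB : B.IsHomogeneous 𝒮) {x : R} {d : ℤ} (hx : x ∈ 𝒮 d) (g : ℤ) :
    hf B g = hf (B ⊔ Ideal.span {x}) g + hf (B.colon {x}) (g - d) := by
  classical
  set A := B ⊔ Ideal.span {x}
  set P := B.colon {x}
  let q : R →ₗ[K] R ⧸ B := (Ideal.Quotient.mkₐ K B).toLinearMap
  have hq : LinearMap.ker q = B.restrictScalars K := by
    ext y
    exact Ideal.Quotient.eq_zero_iff_mem
  let φ : R →ₗ[K] R ⧸ B := q ∘ₗ LinearMap.mulLeft K x
  have hφ : LinearMap.ker φ = P.restrictScalars K := by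
    ext r
    show Ideal.Quotient.mk B (x * r) = 0 ↔ r ∈ P
    rw [Ideal.Quotient.eq_zero_iff_mem, Submodule.mem_colon_singleton, smul_eq_mul, mul_comm]
  have himg : (𝒮 (g - d)).map φ = (𝒮 g ⊓ A.restrictScalars K).map q := by
    refine le_antisymm ?_ ?_
    · rintro _ ⟨r, hr, rfl⟩
      refine ⟨x * r, ⟨?_, Ideal.mem_sup_right (Ideal.mul_mem_right _ _ (Ideal.mem_span_singleton_self x))⟩,
        rfl⟩
      have := SetLike.mul_mem_graded (A := 𝒮) hx hr
      rwa [add_sub_cancel] at this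
    · rintro _ ⟨y, ⟨hy, hyA⟩, rfl⟩
      obtain ⟨b, hb, z, hz, hbz⟩ := Submodule.mem_sup.1 hyA
      obtain ⟨r, rfl⟩ := Ideal.mem_span_singleton'.1 hz
      refine ⟨Groth.GrDualH.proj 𝒮 (g - d) r, Groth.GrDualH.proj_mem (ℳ := 𝒮) _ r, ?_⟩
      show Ideal.Quotient.mk B (x * Groth.GrDualH.proj 𝒮 (g - d) r) = Ideal.Quotient.mk B y
      have h : Groth.GrDualH.proj 𝒮 g y = Groth.GrDualH.proj 𝒮 g b +
          x * Groth.GrDualH.proj 𝒮 (g - d) r := by
        rw [← hbz, map_add, mul_comm r x, ← smul_eq_mul x r,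
          Groth.GrDualH.proj_smul (k := K) (𝒜 := 𝒮) (ℳ := 𝒮) hx g r, smul_eq_mul]
      rw [Groth.GrDualH.proj_of_mem hy] at h
      rw [Ideal.Quotient.eq, h, sub_add_cancel_right]
      exact B.neg_mem (hB g hb)
  have h1 := Groth.GrSyzLib.finrank_eq_map_add_inf_ker φ (𝒮 (g - d))
  rw [himg, hφ] at h1
  haveI : Module.Finite K ↥(𝒮 g ⊓ A.restrictScalars K) :=
    Submodule.finiteDimensional_of_le inf_le_left
  have h2 := Groth.GrSyzLib.finrank_eq_map_add_inf_ker q (𝒮 g ⊓ A.restrictScalars K)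
  rw [hq, inf_assoc, inf_eq_right.2 (show B.restrictScalars K ≤ A.restrictScalars K from
    fun y hy => Ideal.mem_sup_left hy)] at h2
  rw [hf_eq, hf_eq, hf_eq, h1, h2]
  push_cast
  ring

/-- The Hilbert function of a quotient by an ideal of height at least `c`. -/
theorem num_hf (B : Ideal R) : B.IsHomogeneous 𝒮 → ∀ c : ℕ, (c : ℕ∞) ≤ B.height →
    Calg5.HilbertFn.Num (n + 1 - c) fun j : ℕ => hf B j := by
  induction B using (wellFounded_gt (α := Ideal R)).induction with
  | _ B ih => ?_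
  intro hB c hc
  by_cases hne : B = ⊤
  · exact Calg5.HilbertFn.Num.congr Calg5.HilbertFn.Num.zero ⟨0, fun j _ => by rw [hne, hf_top]⟩
  obtain ⟨x, d, hx, hxB, hP, hPh⟩ := exists_prime_colon hB hne
  set P := B.colon {x} with hPdef
  have hBP : B ≤ P := fun r hr => Submodule.mem_colon_singleton.2 (B.mul_mem_right x hr)
  rcases hBP.eq_or_lt with hEq | hlt
  · -- the ideal is prime
    haveI : B.IsPrime := hEq ▸ hP
    by_cases hv : ∀ v : Fin (n + 1), (MvPolynomial.X v : R) ∈ B
    · refine num_mono (Nat.zero_le _) ⟨1, fun j hj => ?_⟩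
      show hf B (j : ℤ) = 0
      suffices hle : 𝒮 (j : ℤ) ≤ B.restrictScalars K by rw [hf_eq, inf_eq_left.2 hle, sub_self]
      intro p hp
      show p ∈ B
      have hir : p ∈ RingHom.ker (MvPolynomial.constantCoeff : R →+* K) :=
        Groth.GrSyzLib.constantCoeff_eq_zero_of_ne (by exact_mod_cast (by omega : j ≠ 0)) hp
      rw [Groth.Calg8.ker_constantCoeff_eq_idealOfVars] at hir
      exact (Ideal.span_le.2 (by rintro _ ⟨v, rfl⟩; exact hv v)) hir
    · push Not at hv
      obtain ⟨v, hv⟩ := hv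
      have hXd := Groth.GrSyzLib.X_mem (k := K) v
      set A := B ⊔ Ideal.span {(MvPolynomial.X v : R)} with hA
      have hBA : B < A := lt_of_le_of_ne le_sup_left fun h =>
        hv (h ▸ Ideal.mem_sup_right (Ideal.mem_span_singleton_self _))
      have hcolon : B.colon {(MvPolynomial.X v : R)} = B := le_antisymm
        (fun r hr => ((‹B.IsPrime›).mem_or_mem (Submodule.mem_colon_singleton.1 hr)).resolve_right hv)
        fun r hr => Submodule.mem_colon_singleton.2 (B.mul_mem_right _ hr)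
      have hAh : ((c + 1 : ℕ) : ℕ∞) ≤ A.height := by
        rw [Ideal.height_eq_inf_minimalPrimes]
        refine le_iInf₂ fun Q hQ => ?_
        haveI := hQ.isPrime
        push_cast
        exact (add_le_add hc le_rfl).trans
          (Ideal.height_add_one_le_of_lt_of_isPrime (hBA.trans_le hQ.1.2))
      have hc' : c ≤ n := by
        have hAne : A ≠ ⊤ := ne_top_of_le_ne_top (RingHom.ker_ne_top
          (MvPolynomial.constantCoeff : R →+* K)) (sup_le (Groth.Misc15.Unmixed.le_origin hB)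
            ((Ideal.span_singleton_le_iff_mem _).2 (MvPolynomial.constantCoeff_X K v)))
        have h1 : (A.height : WithBot ℕ∞) ≤ ringKrullDim R :=
          Ideal.height_le_ringKrullDim_of_ne_top hAne
        rw [MvPolynomial.ringKrullDim_of_isNoetherianRing, ringKrullDim_eq_zero_of_field, zero_add,
          Nat.card_fin] at h1
        have h2 : ((c + 1 : ℕ) : WithBot ℕ∞) ≤ ((n + 1 : ℕ) : WithBot ℕ∞) :=
          (WithBot.coe_le_coe.2 hAh).trans h1
        have := Nat.cast_le.1 h2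
        omega
      have hind := (ih A hBA (isHomogeneous_sup_span hB hXd) (c + 1) hAh).shift 1
      rw [show n + 1 - (c + 1) = n - c by omega] at hind
      rw [show n + 1 - c = n - c + 1 by omega]
      refine Calg5.HilbertFn.Num.congr (r := n - c) hind ⟨0, fun j _ => ?_⟩
      have h := hf_step hB hXd ((j : ℤ) + 1)
      rw [hcolon, add_sub_cancel_right] at h
      show hf A ((j + 1 : ℕ) : ℤ) = hf B ((j + 1 : ℕ) : ℤ) - hf B (j : ℤ)
      rw [Nat.cast_add, Nat.cast_one, h, add_sub_cancel_right]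
  · have hBA : B < B ⊔ Ideal.span {x} := lt_of_le_of_ne le_sup_left fun h =>
      hxB (h ▸ Ideal.mem_sup_right (Ideal.mem_span_singleton_self _))
    have h1 := ih _ hBA (isHomogeneous_sup_span hB hx) c (hc.trans (Ideal.height_mono le_sup_left))
    have h2 := ih P hlt hPh c (hc.trans (Ideal.height_mono hBP))
    have h3 : Calg5.HilbertFn.Num (n + 1 - c) fun j : ℕ => hf P ((j : ℤ) - d) :=
      Calg5.HilbertFn.Num.of_shift d (Calg5.HilbertFn.Num.congr h2 ⟨0, fun j _ => by
        show _ = hf P (((j + d : ℕ) : ℤ) - d)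
        rw [Nat.cast_add, add_sub_cancel_right]⟩)
    exact Calg5.HilbertFn.Num.congr (Calg5.HilbertFn.Num.add h1 h3) ⟨0, fun j _ => (hf_step hB hx j).symm⟩

variable (c₀ : Ideal (MvPolynomial (Fin (n + 1)) K)) (c : ℕ)

/-- Local length at a prime. -/
noncomputable def loclen (Q : Ideal R) [Q.IsPrime] (B : Ideal R) : ℕ∞ :=
  Module.length (Localization.AtPrime Q) (Localization.AtPrime Q ⧸ B.map (algebraMap R (Localization.AtPrime Q)))

theorem loclen_top (Q : Ideal R) [Q.IsPrime] : loclen Q ⊤ = 0 := by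
  rw [loclen, Module.length_eq_zero_iff, Ideal.map_top]
  exact Submodule.Quotient.subsingleton_iff.2 rfl

theorem loclen_step (Q : Ideal R) [hQ : Q.IsPrime] (B : Ideal R) (x : R) :
    loclen Q B = loclen Q (B.colon {x}) + loclen Q (B ⊔ Ideal.span {x}) := by
  set L := Localization.AtPrime Q
  set B' := B.map (algebraMap R L)
  set P' := (B.colon {x}).map (algebraMap R L)
  set A' := (B ⊔ Ideal.span {x}).map (algebraMap R L) with hA'
  let xl := algebraMap R L x
  let f : (L ⧸ P') →ₗ[L] L ⧸ B' := Submodule.mapQ P' B' (LinearMap.lsmul L L xl) (by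
    rw [Ideal.map_le_iff_le_comap]
    intro r hr
    show algebraMap R L x * algebraMap R L r ∈ B'
    rw [← map_mul, mul_comm]
    exact Ideal.mem_map_of_mem _ (Submodule.mem_colon_singleton.1 hr))
  have hA : A' = B' ⊔ Ideal.span {xl} := by
    rw [hA', Ideal.map_sup, Ideal.map_span, Set.image_singleton]
  let g : (L ⧸ B') →ₗ[L] L ⧸ A' := Submodule.mapQ B' A' LinearMap.id (hA ▸ le_sup_left)
  have hgs : Function.Surjective g := fun y => by
    obtain ⟨a, rfl⟩ := Submodule.Quotient.mk_surjective _ y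
    exact ⟨Submodule.Quotient.mk a, rfl⟩
  have hfi : Function.Injective f := (injective_iff_map_eq_zero f).2 fun y hy => by
    obtain ⟨z, rfl⟩ := Submodule.Quotient.mk_surjective _ y
    refine (Submodule.Quotient.mk_eq_zero P').2 ?_
    have hz : xl * z ∈ B' := (Submodule.Quotient.mk_eq_zero B').1 hy
    obtain ⟨⟨r, s⟩, hrs⟩ := IsLocalization.surj Q.primeCompl z
    have h1 : algebraMap R L (x * r) ∈ B' := by
      rw [map_mul, ← hrs, ← mul_assoc]
      exact B'.mul_mem_right _ hz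
    obtain ⟨u, hu, hu'⟩ := (IsLocalization.algebraMap_mem_map_algebraMap_iff Q.primeCompl L B _).1 h1
    refine (IsLocalization.mem_map_algebraMap_iff Q.primeCompl L).2
      ⟨⟨⟨u * r, Submodule.mem_colon_singleton.2 (by rwa [smul_eq_mul, mul_assoc, mul_comm r x])⟩,
        s * ⟨u, hu⟩⟩, ?_⟩
    show z * algebraMap R L ((s : R) * u) = algebraMap R L (u * r)
    rw [map_mul, map_mul, ← hrs]
    ring
  have hex : Function.Exact f g := fun y => by
    obtain ⟨a, rfl⟩ := Submodule.Quotient.mk_surjective _ y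
    show Submodule.Quotient.mk (p := A') a = 0 ↔ _
    rw [Submodule.Quotient.mk_eq_zero, hA, Submodule.mem_sup]
    constructor
    · rintro ⟨b, hb, z, hz, rfl⟩
      obtain ⟨t, rfl⟩ := Ideal.mem_span_singleton'.1 hz
      refine ⟨Submodule.Quotient.mk t, (Submodule.Quotient.eq B').2 ?_⟩
      show xl * t - (b + t * xl) ∈ B'
      rw [mul_comm t, sub_add_cancel_right]
      exact B'.neg_mem hb
    · rintro ⟨y, hy⟩
      obtain ⟨t, rfl⟩ := Submodule.Quotient.mk_surjective _ y
      have h : xl * t - a ∈ B' := (Submodule.Quotient.eq B').1 hy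
      exact ⟨a - xl * t, by simpa using B'.neg_mem h, xl * t,
        Ideal.mul_mem_right _ _ (Ideal.mem_span_singleton_self xl), sub_add_cancel _ _⟩
  exact Module.length_eq_add_of_exact f g hfi hgs hex

theorem loclen_self (Q : Ideal R) [Q.IsPrime] : loclen Q Q = 1 := by
  rw [loclen, Localization.AtPrime.map_eq_maximalIdeal, Module.length_eq_one_iff]
  exact isSimpleModule_iff_isCoatom.2 (IsLocalRing.maximalIdeal.isMaximal _).out

theorem loclen_of_not_le (Q : Ideal R) [Q.IsPrime] {P : Ideal R} (h : ¬ P ≤ Q) :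
    loclen Q P = 0 := by
  obtain ⟨x, hx, hxQ⟩ := SetLike.not_le_iff_exists.1 h
  rw [loclen, Module.length_eq_zero_iff]
  exact Submodule.Quotient.subsingleton_iff.2 (Ideal.eq_top_of_isUnit_mem _
    (Ideal.mem_map_of_mem _ hx) (IsLocalization.map_units (Localization.AtPrime Q) (⟨x, hxQ⟩ : Q.primeCompl)))

theorem isArtinianRing_loc {Q : Ideal R} [Q.IsPrime] (hQ : Q ∈ c₀.minimalPrimes) :
    IsArtinianRing (Localization.AtPrime Q ⧸ c₀.map (algebraMap R (Localization.AtPrime Q))) := by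
  set L := Localization.AtPrime Q
  haveI : IsNoetherianRing L := IsLocalization.isNoetherianRing Q.primeCompl _ inferInstance
  haveI : Ring.KrullDimLE 0 (L ⧸ c₀.map (algebraMap R L)) :=
    Ideal.krullDimLE_zero_quotient_iff_forall_minimalPrimes_isMaximal.2 fun p hp => by
      haveI := hp.isPrime
      have hle : p ≤ IsLocalRing.maximalIdeal L := IsLocalRing.le_maximalIdeal hp.isPrime.ne_top
      have hge : Q ≤ p.comap (algebraMap R L) := hQ.2
        ⟨inferInstance, Ideal.map_le_iff_le_comap.1 hp.1.2⟩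
        ((Ideal.comap_mono hle).trans (Localization.AtPrime.comap_maximalIdeal (I := Q)).le)
      rw [le_antisymm hle (Localization.AtPrime.map_eq_maximalIdeal (I := Q) ▸
        Ideal.map_le_iff_le_comap.2 hge)]
      infer_instance
  exact (@isArtinianRing_iff_isNoetherianRing_krullDimLE_zero (L ⧸ c₀.map (algebraMap R L)) _).2
    (show IsNoetherianRing (L ⧸ c₀.map (algebraMap R L)) ∧ Ring.KrullDimLE 0 (L ⧸ c₀.map (algebraMap R L)) from
      ⟨inferInstance, inferInstance⟩)

theorem loclen_ne_top {Q : Ideal R} [Q.IsPrime] (hQ : Q ∈ c₀.minimalPrimes) {B : Ideal R}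
    (hB : c₀ ≤ B) : loclen Q B ≠ ⊤ := by
  set L := Localization.AtPrime Q
  haveI : IsNoetherianRing L := IsLocalization.isNoetherianRing Q.primeCompl _ inferInstance
  haveI := isArtinianRing_loc c₀ hQ
  haveI : IsArtinian L (L ⧸ c₀.map (algebraMap R L)) :=
    isArtinian_of_surjective_algebraMap (show Function.Surjective (algebraMap L (L ⧸ c₀.map (algebraMap R L))) from Ideal.Quotient.mk_surjective)
  have hfl : Module.length L (L ⧸ c₀.map (algebraMap R L)) ≠ ⊤ := Module.length_ne_top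
  exact ne_top_of_le_ne_top hfl (Module.length_le_of_surjective
    (Submodule.mapQ _ _ LinearMap.id (Ideal.map_mono hB) : _ →ₗ[L] L ⧸ B.map (algebraMap R L))
    fun y => by
      obtain ⟨a, rfl⟩ := Submodule.Quotient.mk_surjective _ y
      exact ⟨Submodule.Quotient.mk a, rfl⟩)

open scoped Classical in
/-- Local length at a prime, zero at non-primes. -/
noncomputable def mult (Q : Ideal R) (B : Ideal R) : ℕ :=
  if h : Q.IsPrime then (@loclen K _ n Q h B).toNat else 0

theorem mult_eq (Q : Ideal R) [h : Q.IsPrime] (B : Ideal R) : mult Q B = (loclen Q B).toNat :=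
  dif_pos h

/-- The top part of the Hilbert function is the sum over the primes of smallest height. -/
theorem num_assoc (hc₀ : (c : ℕ∞) ≤ c₀.height) (hcn : c ≤ n) (T : Finset (Ideal R))
    (hT : ∀ Q, Q ∈ T ↔ Q ∈ c₀.minimalPrimes ∧ Q.height = c) (B : Ideal R) :
    B.IsHomogeneous 𝒮 → c₀ ≤ B →
      Calg5.HilbertFn.Num (n - c) fun j : ℕ => hf B j - ∑ Q ∈ T, (mult Q B : ℚ) * hf Q j := by
  induction B using (wellFounded_gt (α := Ideal R)).induction with
  | _ B ih => ?_
  intro hB hle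
  by_cases hne : B = ⊤
  · refine Calg5.HilbertFn.Num.congr Calg5.HilbertFn.Num.zero ⟨0, fun j _ => ?_⟩
    rw [hne, hf_top, zero_sub, eq_comm, neg_eq_zero]
    refine Finset.sum_eq_zero fun Q hQ => ?_
    haveI := ((hT Q).1 hQ).1.isPrime
    rw [mult_eq, loclen_top]
    simp
  obtain ⟨x, d, hx, hxB, hP, hPh⟩ := exists_prime_colon hB hne
  set P := B.colon {x} with hPdef
  set A := B ⊔ Ideal.span {x}
  have hBP : B ≤ P := fun r hr => Submodule.mem_colon_singleton.2 (B.mul_mem_right x hr)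
  have hBA : B < A := lt_of_le_of_ne le_sup_left fun h =>
    hxB (h ▸ Ideal.mem_sup_right (Ideal.mem_span_singleton_self _))
  have hA := ih A hBA (isHomogeneous_sup_span hB hx) (hle.trans le_sup_left)
  have hcP : (c : ℕ∞) ≤ P.height := hc₀.trans (Ideal.height_mono (hle.trans hBP))
  have hPnum := num_hf P hPh c hcP
  rw [show n + 1 - c = n - c + 1 by omega] at hPnum
  -- the translated function of the prime
  have hsh : Calg5.HilbertFn.Num (n - c) fun j : ℕ => hf P ((j : ℤ) - d) - hf P j :=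
    Calg5.HilbertFn.Num.of_shift d (Calg5.HilbertFn.Num.congr (Calg5.HilbertFn.Num.sub Calg5.HilbertFn.Num.zero (num_translate hPnum d)) ⟨0, fun j _ => by
      show 0 - (hf P ((j + d : ℕ) : ℤ) - hf P (j : ℤ)) = _
      rw [Nat.cast_add, add_sub_cancel_right]
      ring⟩)
  -- multiplicities
  have hmult : ∀ Q ∈ T, (mult Q B : ℚ) = mult Q A + if Q = P then 1 else 0 := by
    intro Q hQ
    obtain ⟨hQmin, hQc⟩ := (hT Q).1 hQ
    haveI := hQmin.isPrime
    rw [mult_eq, mult_eq, loclen_step Q B x,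
      ENat.toNat_add (loclen_ne_top c₀ hQmin (hle.trans hBP)) (loclen_ne_top c₀ hQmin (hle.trans le_sup_left))]
    rw [show A = B ⊔ Ideal.span {x} from rfl]
    by_cases h : Q = P
    · subst h
      rw [if_pos rfl, loclen_self]
      push_cast
      simp [add_comm]
    · have hnle : ¬ P ≤ Q := fun hPQ => h (le_antisymm (hQmin.2 ⟨hP, hle.trans hBP⟩ hPQ) hPQ)
      rw [if_neg h, loclen_of_not_le Q hnle]
      simp
  have hPpart : Calg5.HilbertFn.Num (n - c) fun j : ℕ => hf P j - if P ∈ T then hf P j else 0 := by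
    by_cases h : P ∈ T
    · exact Calg5.HilbertFn.Num.congr Calg5.HilbertFn.Num.zero ⟨0, fun j _ => by rw [if_pos h, sub_self]⟩
    · refine Calg5.HilbertFn.Num.congr (num_mono (s := n - c) ?_ (num_hf P hPh (c + 1) ?_))
        ⟨0, fun j _ => by rw [if_neg h, sub_zero]⟩
      · omega
      · push_cast
        refine (ENat.add_one_le_iff (ENat.natCast_ne_top c)).2 (lt_of_le_of_ne hcP fun he => h ((hT P).2 ⟨?_, he.symm⟩))
        obtain ⟨P₁, hP₁, hP₁P⟩ := Ideal.exists_minimalPrimes_le (hle.trans hBP)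
        haveI := hP₁.isPrime
        rcases hP₁P.eq_or_lt with e | e
        · exact e ▸ hP₁
        · have h1 := Ideal.height_add_one_le_of_lt_of_isPrime e
          rw [← he] at h1
          have h2 : (c : ℕ∞) + 1 ≤ c :=
            (add_le_add (hc₀.trans (Ideal.height_mono hP₁.1.2)) le_rfl).trans h1
          exact absurd ((ENat.add_one_le_iff (ENat.natCast_ne_top c)).1 h2) (lt_irrefl _)
  refine Calg5.HilbertFn.Num.congr (Calg5.HilbertFn.Num.add (Calg5.HilbertFn.Num.add hA hsh) hPpart) ⟨0, fun j _ => ?_⟩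
  show _ = hf B j - _
  rw [hf_step hB hx j]
  have : ∑ Q ∈ T, (mult Q B : ℚ) * hf Q j =
      ∑ Q ∈ T, (mult Q A : ℚ) * hf Q j + if P ∈ T then hf P j else 0 := by
    rw [Finset.sum_congr rfl fun Q hQ => by rw [hmult Q hQ, add_mul], Finset.sum_add_distrib]
    congr 1
    simp [ite_mul, Finset.sum_ite_eq']
  rw [this]
  ring

end Poly

end Groth.Misc15.HilbLead
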