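import Groth.Agent.Misc15.GorLink
import Groth.Agent.Gorenstein.BaseChange
import Groth.Agent.Ega4Algebra2.CMEquiv

/-!
Linkage in Gorenstein rings: Cohen–Macaulay and Gorenstein quotients.
-/

set_option autoImplicit false
set_option linter.style.haveILetI false

universe u

open IsLocalRing GrothGoren

namespace Groth.Misc15.LinkLocal

variable {C : Type u} [CommRing C]

theorem map_inf_eq_bot (S : Submonoid C) (L : Type u) [CommRing L] [Algebra C L] [IsLocalization S L]
    {I J : Ideal C} (h : I ⊓ J = ⊥) :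
    I.map (algebraMap C L) ⊓ J.map (algebraMap C L) = ⊥ := by
  refine eq_bot_iff.2 fun z hz => ?_
  obtain ⟨⟨⟨i, hi⟩, s⟩, h1⟩ := (IsLocalization.mem_map_algebraMap_iff S L).1 hz.1
  obtain ⟨⟨⟨j, hj⟩, t⟩, h2⟩ := (IsLocalization.mem_map_algebraMap_iff S L).1 hz.2
  have h3 : algebraMap C L (i * (t : C)) = algebraMap C L (j * (s : C)) := by
    rw [map_mul, map_mul, ← h1, ← h2, mul_right_comm]
  obtain ⟨u, hu⟩ := (IsLocalization.eq_iff_exists S L).1 h3
  have h4 : (u : C) * (i * (t : C)) ∈ I ⊓ J :=
    ⟨I.mul_mem_left _ (I.mul_mem_right _ hi), hu ▸ J.mul_mem_left _ (J.mul_mem_right _ hj)⟩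
  rw [h, Submodule.mem_bot] at h4
  have h5 : z * (algebraMap C L (s : C) * algebraMap C L ((u : C) * (t : C))) = 0 := by
    rw [← mul_assoc, h1, ← map_mul, show i * ((u : C) * (t : C)) = (u : C) * (i * (t : C)) by ring,
      h4, map_zero]
  rw [Submodule.mem_bot]
  have hu' : IsUnit (algebraMap C L (s : C) * algebraMap C L ((u : C) * (t : C))) :=
    (IsLocalization.map_units L s).mul (IsLocalization.map_units L (u * t))
  exact hu'.mul_left_eq_zero.1 h5

variable [IsNoetherianRing C]

theorem annihilator_map (S : Submonoid C) (L : Type u) [CommRing L] [Algebra C L]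
    [IsLocalization S L] (I : Ideal C) :
    Submodule.annihilator (I.map (algebraMap C L)) =
      (Submodule.annihilator I).map (algebraMap C L) := by
  classical
  refine le_antisymm (fun z hz => ?_) (Ideal.map_le_iff_le_comap.2 fun a ha => ?_)
  · obtain ⟨T, hT⟩ := (IsNoetherian.noetherian I : I.FG)
    obtain ⟨⟨a, s⟩, ha⟩ := IsLocalization.surj S z
    have hu : ∀ g : T, ∃ u : S, (u : C) * (a * g) = 0 := fun g => by
      have hmem : (g : C) ∈ I := hT ▸ Submodule.subset_span g.2
      have h0 := Submodule.mem_annihilator.1 hz _ (Ideal.mem_map_of_mem (algebraMap C L) hmem)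
      rw [smul_eq_mul] at h0
      have h1 : algebraMap C L (a * g) = 0 := by
        rw [map_mul, show algebraMap C L a = z * algebraMap C L (s : C) from ha.symm, mul_right_comm,
          h0, zero_mul]
      obtain ⟨u, hu⟩ := (IsLocalization.map_eq_zero_iff S L _).1 h1
      exact ⟨u, hu⟩
    choose u hu using hu
    refine (IsLocalization.mem_map_algebraMap_iff S L).2 ⟨⟨⟨((∏ g, u g : S) : C) * a, ?_⟩,
      s * ∏ g, u g⟩, ?_⟩
    · rw [← hT]
      refine (Submodule.mem_annihilator_span _ _).2 fun g => ?_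
      show ((∏ g, u g : S) : C) * a * (g : C) = 0
      obtain ⟨c, hc⟩ : u g ∣ ∏ g, u g := Finset.dvd_prod_of_mem _ (Finset.mem_univ _)
      rw [hc, Submonoid.coe_mul, show (u g : C) * (c : C) * a * (g : C) =
        (c : C) * ((u g : C) * (a * (g : C))) by ring, hu g, mul_zero]
    · show z * algebraMap C L ((s * ∏ g, u g : S) : C) =
        algebraMap C L (((∏ g, u g : S) : C) * a)
      rw [Submonoid.coe_mul, map_mul, map_mul, ← mul_assoc,
        show z * algebraMap C L (s : C) = algebraMap C L a from ha, mul_comm]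
  · rw [Ideal.mem_comap, Submodule.mem_annihilator]
    intro y hy
    obtain ⟨⟨⟨i, hi⟩, t⟩, ht⟩ := (IsLocalization.mem_map_algebraMap_iff S L).1 hy
    refine (IsLocalization.map_units L t).mul_left_eq_zero.1 ?_
    rw [smul_eq_mul, mul_assoc, show y * algebraMap C L (t : C) = algebraMap C L i from ht,
      ← map_mul, show a * i = 0 from Submodule.mem_annihilator.1 ha i hi, map_zero]

/-- The local rings of `C/I` have the dimension of those of `C`. -/
def DimCond (I : Ideal C) : Prop :=
  ∀ (Q : Ideal (C ⧸ I)) [Q.IsPrime],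
    ringKrullDim (Localization.AtPrime Q) =
      ringKrullDim (Localization.AtPrime (Q.comap (Ideal.Quotient.mk I)))

variable [LocCoh.IsGorensteinRing C]
set_option linter.overlappingInstances false

theorem injLT_loc (P : Ideal C) [P.IsPrime] :
    ∃ m, InjLT (Localization.AtPrime P) (Localization.AtPrime P) m := by
  haveI := LocCoh.IsGorensteinRing.isGorensteinLocalRing_localization (A := C) P
  exact (isGorenstein_iff _).1 inferInstance

theorem loc_ne_top {I : Ideal C} {P : Ideal C} [P.IsPrime] (h : I ≤ P) :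
    I.map (algebraMap C (Localization.AtPrime P)) ≠ ⊤ :=
  ne_top_of_le_ne_top (maximalIdeal.isMaximal _).ne_top (Ideal.map_le_iff_le_comap.2 fun x hx =>
    (IsLocalization.AtPrime.to_map_mem_maximal_iff (Localization.AtPrime P) P x).2 (h hx))

theorem loc_eq_top {I : Ideal C} {P : Ideal C} [P.IsPrime] (h : ¬ I ≤ P) :
    I.map (algebraMap C (Localization.AtPrime P)) = ⊤ := by
  obtain ⟨x, hx, hxP⟩ := SetLike.not_le_iff_exists.1 h
  exact Ideal.eq_top_of_isUnit_mem _ (Ideal.mem_map_of_mem _ hx)
    (IsLocalization.map_units (Localization.AtPrime P) (⟨x, hxP⟩ : P.primeCompl))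

omit [LocCoh.IsGorensteinRing C] in
/-- Maximal depth of the localised quotient. -/
theorem isMaxDepth_loc {I : Ideal C} (hcm : LocCoh.IsCohenMacaulayRing (C ⧸ I)) (hdim : DimCond I)
    {P : Ideal C} [hP : P.IsPrime] (hIP : I ≤ P) :
    Groth.GorResidual.IsMaxDepth (I.map (algebraMap C (Localization.AtPrime P))) := by
  obtain ⟨Q, hQ, rfl⟩ : ∃ Q : Ideal (C ⧸ I), Q.IsPrime ∧ Q.comap (Ideal.Quotient.mk I) = P :=
    ⟨P.map (Ideal.Quotient.mk I), Groth.Misc15.Unmixed.isPrime_map_mk hIP,
      Groth.Misc15.Unmixed.comap_map_mk hIP⟩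
  obtain ⟨e⟩ := nonempty_quotient_atPrime_equiv I Q
  haveI := Groth.Ega4b.isCohenMacaulayLocalRing_of_ringEquiv e.symm
    (hcm.isCohenMacaulayLocalRing_localization Q)
  haveI : IsNoetherianRing (Localization.AtPrime (Q.comap (Ideal.Quotient.mk I))) :=
    IsLocalization.isNoetherianRing (Q.comap (Ideal.Quotient.mk I)).primeCompl _ inferInstance
  exact (Groth.GorResidual.isMaxDepth_of_cm
    ((ringKrullDim_eq_of_ringEquiv e).trans (hdim Q))).1

theorem isMaxDepth_link {I : Ideal C} (hcm : LocCoh.IsCohenMacaulayRing (C ⧸ I)) (hdim : DimCond I)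
    {J : Ideal C} (hJ : Submodule.annihilator I = J) (P : Ideal C) [P.IsPrime] (hJP : J ≤ P) :
    Groth.GorResidual.IsMaxDepth (J.map (algebraMap C (Localization.AtPrime P))) := by
  set A := Localization.AtPrime P
  haveI : IsNoetherianRing A := IsLocalization.isNoetherianRing P.primeCompl _ inferInstance
  have hann : Submodule.annihilator (I.map (algebraMap C A)) = J.map (algebraMap C A) :=
    hJ ▸ annihilator_map P.primeCompl A I
  have hne := loc_ne_top hJP
  by_cases hIP : I ≤ P
  · exact hann ▸ Groth.Misc15.GorLink.isMaxDepth_annihilator (injLT_loc P)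
      (isMaxDepth_loc hcm hdim hIP) (hann.symm ▸ hne)
  · have h0 : J.map (algebraMap C A) = ⊥ := by
      rw [← hann, loc_eq_top hIP, eq_bot_iff]
      intro a ha
      simpa using Submodule.mem_annihilator.1 ha 1 Submodule.mem_top
    intro r hr
    obtain ⟨rs, hlen, hreg, hmem⟩ := Groth.Misc15.GorLink.exists_regular_seq (injLT_loc P) hr
    exact (Groth.LocCohBase.le_idealDepth_iff_exists _
      (Groth.Misc15.GorLink.smul_top_ne_top _ hne) r).2
      ⟨rs, hlen, ((Submodule.quotEquivOfEqBot _ h0).isWeaklyRegular_congr rs).2 hreg, hmem⟩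

/-- A directly linked quotient of a Cohen–Macaulay one is Cohen–Macaulay. -/
theorem isCohenMacaulayRing_link {I J : Ideal C} (hcm : LocCoh.IsCohenMacaulayRing (C ⧸ I))
    (hdim : DimCond I) (hJ : Submodule.annihilator I = J) :
    LocCoh.IsCohenMacaulayRing (C ⧸ J) := by
  refine { isCohenMacaulayLocalRing_localization := fun Q _ => ?_ }
  obtain ⟨e⟩ := nonempty_quotient_atPrime_equiv J Q
  set P := Q.comap (Ideal.Quotient.mk J)
  have hJP : J ≤ P := fun x hx => by
    show Ideal.Quotient.mk J x ∈ Q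
    rw [Ideal.Quotient.eq_zero_iff_mem.2 hx]
    exact zero_mem _
  set A := Localization.AtPrime P
  haveI : IsNoetherianRing A := IsLocalization.isNoetherianRing P.primeCompl _ inferInstance
  set K := J.map (algebraMap C A)
  haveI : Nontrivial (A ⧸ K) := Ideal.Quotient.nontrivial_iff.2 (loc_ne_top hJP)
  haveI : IsLocalRing (A ⧸ K) := .of_surjective' (Ideal.Quotient.mk K) Ideal.Quotient.mk_surjective
  obtain ⟨r, hr, -⟩ := exists_dim A (injLT_loc P)
  have hd := isMaxDepth_link hcm hdim hJ P hJP r hr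
  rw [Groth.Smt.depth_eq_of_surjective A (A ⧸ K) Ideal.Quotient.mk_surjective] at hd
  refine Groth.Ega4b.isCohenMacaulayLocalRing_of_ringEquiv e
    { supportDim_eq_depth := le_antisymm ?_ (Groth.LocCohBase.depth_le_supportDim (A ⧸ K)) }
  rw [Module.supportDim_self_eq_ringKrullDim]
  refine ((ringKrullDim_quotient_le K).trans hr.le).trans ?_
  exact WithBot.coe_le_coe.2 hd

/-- A linked quotient with principal link is Gorenstein. -/
theorem isGorensteinRing_link {I J : Ideal C} (hcm : LocCoh.IsCohenMacaulayRing (C ⧸ I))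
    (hdim : DimCond I) (hJ : Submodule.annihilator I = J) {f : C}
    (hf : Submodule.annihilator J = Ideal.span {f}) : LocCoh.IsGorensteinRing (C ⧸ J) := by
  refine { isGorensteinLocalRing_localization := fun Q _ => (isGorenstein_iff _).2 ?_ }
  obtain ⟨e⟩ := nonempty_quotient_atPrime_equiv J Q
  set P := Q.comap (Ideal.Quotient.mk J)
  have hJP : J ≤ P := fun x hx => by
    show Ideal.Quotient.mk J x ∈ Q
    rw [Ideal.Quotient.eq_zero_iff_mem.2 hx]
    exact zero_mem _
  set A := Localization.AtPrime P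
  haveI : IsNoetherianRing A := IsLocalization.isNoetherianRing P.primeCompl _ inferInstance
  haveI : Nontrivial (A ⧸ J.map (algebraMap C A)) :=
    Ideal.Quotient.nontrivial_iff.2 (loc_ne_top hJP)
  haveI : IsLocalRing (A ⧸ J.map (algebraMap C A)) :=
    .of_surjective' (Ideal.Quotient.mk _) Ideal.Quotient.mk_surjective
  haveI : IsNoetherianRing (Localization.AtPrime Q) :=
    IsLocalization.isNoetherianRing Q.primeCompl _ inferInstance
  obtain ⟨r, hr, -⟩ := exists_dim A (injLT_loc P)
  refine (exists_injLT_iff_of_ringEquiv e).1 ?_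
  refine Groth.Misc15.GorLink.injLT_quotient r A hr (injLT_loc P) _ (algebraMap C A f)
    (loc_ne_top hJP) (isMaxDepth_link hcm hdim hJ P hJP) ?_
  rw [annihilator_map P.primeCompl A J, hf, Ideal.map_span, Set.image_singleton]

/-- Geometric linkage: the sum gives a Gorenstein quotient, one dimension lower. -/
theorem isGorensteinRing_sup {I J : Ideal C} (hcm : LocCoh.IsCohenMacaulayRing (C ⧸ I))
    (hdim : DimCond I) (hJ : Submodule.annihilator I = J) (hI : Submodule.annihilator J = I)
    (hinf : I ⊓ J = ⊥) :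
    LocCoh.IsGorensteinRing (C ⧸ (I ⊔ J)) ∧ ∀ (Q : Ideal (C ⧸ (I ⊔ J))) [Q.IsPrime],
      ringKrullDim (Localization.AtPrime (Q.comap (Ideal.Quotient.mk (I ⊔ J)))) ≤
        ringKrullDim (Localization.AtPrime Q) + 1 := by
  have key : ∀ (Q : Ideal (C ⧸ (I ⊔ J))) [Q.IsPrime],
      (∃ m, InjLT (Localization.AtPrime Q) (Localization.AtPrime Q) m) ∧
      ringKrullDim (Localization.AtPrime (Q.comap (Ideal.Quotient.mk (I ⊔ J)))) ≤
        ringKrullDim (Localization.AtPrime Q) + 1 := by
    intro Q _
    obtain ⟨e⟩ := nonempty_quotient_atPrime_equiv (I ⊔ J) Q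
    set P := Q.comap (Ideal.Quotient.mk (I ⊔ J))
    have hle : I ⊔ J ≤ P := fun x hx => by
      show Ideal.Quotient.mk (I ⊔ J) x ∈ Q
      rw [Ideal.Quotient.eq_zero_iff_mem.2 hx]
      exact zero_mem _
    set A := Localization.AtPrime P
    haveI : IsNoetherianRing A := IsLocalization.isNoetherianRing P.primeCompl _ inferInstance
    obtain ⟨hG, hd⟩ := Groth.Misc15.GorLink.injLT_sup (injLT_loc P)
      (isMaxDepth_loc hcm hdim (le_sup_left.trans hle)) (loc_ne_top (le_sup_left.trans hle))
      (loc_ne_top (le_sup_right.trans hle)) (hJ ▸ annihilator_map P.primeCompl A I)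
      (hI ▸ annihilator_map P.primeCompl A J) (map_inf_eq_bot P.primeCompl A hinf)
    let e' := (Ideal.quotEquivOfEq (Ideal.map_sup (algebraMap C A) I J).symm).trans e
    haveI : IsNoetherianRing (Localization.AtPrime Q) :=
      IsLocalization.isNoetherianRing Q.primeCompl _ inferInstance
    haveI : Nontrivial (A ⧸ (I.map (algebraMap C A) ⊔ J.map (algebraMap C A))) :=
      Ideal.Quotient.nontrivial_iff.2 (by rw [← Ideal.map_sup]; exact loc_ne_top hle)
    haveI : IsLocalRing (A ⧸ (I.map (algebraMap C A) ⊔ J.map (algebraMap C A))) :=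
      .of_surjective' (Ideal.Quotient.mk _) Ideal.Quotient.mk_surjective
    refine ⟨(exists_injLT_iff_of_ringEquiv e').1 hG, hd.trans_eq ?_⟩
    rw [ringKrullDim_eq_of_ringEquiv e']
  exact ⟨{ isGorensteinLocalRing_localization := fun Q _ => (isGorenstein_iff _).2 (key Q).1 },
    fun Q _ => (key Q).2⟩

end Groth.Misc15.LinkLocal
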