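import Mathlib

/-! Rings and modules graded by an abelian group: components and homogeneous maximal ideals. -/

set_option autoImplicit false

namespace Groth.Misc15.MGraded

open DirectSum

variable {k M A : Type*} [Field k] [AddCommGroup M] [DecidableEq M] [CommRing A] [Algebra k A]
  (𝒜 : M → Submodule k A) [GradedAlgebra 𝒜]
  {P : Type*} [AddCommGroup P] [Module A P] [Module k P]
  (ℳ : M → Submodule k P) [Decomposition ℳ] [SetLike.GradedSMul 𝒜 ℳ]

/-- Component of degree `g`. -/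
def pr (g : M) : P →+ P where
  toFun x := (decompose ℳ x g : P)
  map_zero' := by simp
  map_add' x y := by simp

omit [Module A P] in
theorem pr_mem (g : M) (x : P) : pr ℳ g x ∈ ℳ g := (decompose ℳ x g).2

omit [Module A P] in
theorem pr_of_mem {g : M} {x : P} (hx : x ∈ ℳ g) : pr ℳ g x = x := decompose_of_mem_same ℳ hx

omit [Module A P] in
theorem pr_of_mem_ne {g h : M} {x : P} (hx : x ∈ ℳ g) (hne : g ≠ h) : pr ℳ h x = 0 :=
  decompose_of_mem_ne ℳ hx hne

omit [Module A P] in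
theorem eq_sum_pr (x : P) [∀ (i : M) (y : ℳ i), Decidable (y ≠ 0)] :
    x = ∑ g ∈ (decompose ℳ x).support, pr ℳ g x :=
  (DirectSum.sum_support_decompose ℳ x).symm

theorem pr_smul_right {i : M} {x : P} (hx : x ∈ ℳ i) (a : A) (g : M) :
    pr ℳ g (a • x) = pr 𝒜 (g - i) a • x := by
  induction a using DirectSum.Decomposition.inductionOn 𝒜 with
  | zero => simp
  | @homogeneous j a =>
    have hax : (a : A) • x ∈ ℳ (j + i) := SetLike.GradedSMul.smul_mem a.2 hx
    by_cases h : j = g - i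
    · subst h
      rw [pr_of_mem 𝒜 a.2, pr_of_mem ℳ]
      rwa [sub_add_cancel] at hax
    · rw [pr_of_mem_ne 𝒜 a.2 h, zero_smul, pr_of_mem_ne ℳ hax]
      exact fun e => h (by rw [← e, add_sub_cancel_right])
  | add a b ha hb => rw [add_smul, map_add, map_add, ha, hb, add_smul]

theorem pr_mul_right {i : M} {x : A} (hx : x ∈ 𝒜 i) (a : A) (g : M) :
    pr 𝒜 g (a * x) = pr 𝒜 (g - i) a * x := by
  haveI : SetLike.GradedSMul 𝒜 𝒜 := SetLike.GradedMul.toGradedSMul 𝒜
  exact pr_smul_right 𝒜 𝒜 hx a g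

/-- An element outside an ideal has a component outside it. -/
theorem exists_pr_notMem (I : Ideal A) {s : A} (hs : s ∉ I) : ∃ g, pr 𝒜 g s ∉ I := by
  classical
  by_contra! h
  exact hs (by rw [eq_sum_pr 𝒜 s]; exact sum_mem fun g _ => h g)

theorem pr_zero_notMem (m : Ideal A) (hfix : ∀ i : M, i ≠ 0 → ∀ a ∈ 𝒜 i, a ∈ m) {s : A}
    (hs : s ∉ m) : pr 𝒜 0 s ∉ m := by
  obtain ⟨g, hg⟩ := exists_pr_notMem 𝒜 m hs
  obtain rfl : g = 0 := by
    by_contra h; exact hg (hfix g h _ (pr_mem 𝒜 g s))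
  exact hg

end Groth.Misc15.MGraded
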