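import Groth.Prelude.Def_W4c5nonratstablectREq
import Groth.Agent.Misc15.ProjPts
import Mathlib

/-! Lines in affine and projective space and direct R-links. -/

set_option autoImplicit false

universe u

open CategoryTheory CategoryTheory.Limits AlgebraicGeometry Groth.Misc15.ProjPts

namespace Groth.Misc15.REqLine

variable {k : Type u} [Field k] {K : Type u} [Field K] [Algebra k K]

/-- the coordinate ring of the affine line -/
abbrev KT (K : Type u) [Field K] : Type u := MvPolynomial (Fin 1) K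

/-- a rational point of the affine line -/
noncomputable def linePt (e : K) : Spec (CommRingCat.of K) ⟶ Spec (CommRingCat.of (KT K)) :=
  Spec.map (CommRingCat.ofHom (MvPolynomial.eval fun _ => e))

lemma linePt_C (e : K) : linePt e ≫ Spec.map (CommRingCat.ofHom (MvPolynomial.C : K →+* KT K)) = 𝟙 _ := by
  rw [linePt, ← Spec.map_comp, ← CommRingCat.ofHom_comp]
  rw [show (MvPolynomial.eval fun _ => e).comp (MvPolynomial.C : K →+* KT K) = RingHom.id K from
    RingHom.ext fun x => MvPolynomial.eval_C x]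
  simp

theorem link_of_map {X : Scheme.{u}} {f : X ⟶ Spec (CommRingCat.of k)} {Z : Scheme.{u}} (V : Z.Opens)
    (h0 : (V : Scheme.{u}) ⟶ X) (p : Z ⟶ Spec (CommRingCat.of k)) (hp : h0 ≫ f = V.ι ≫ p)
    (g : Spec (CommRingCat.of (KT K)) ⟶ Z)
    (hg : g ≫ p = Spec.map (CommRingCat.ofHom MvPolynomial.C) ≫ REq.specMap k K)
    (A B : REq.Pts f K) (A' B' : Spec (CommRingCat.of K) ⟶ (V : Scheme.{u}))
    (hA : A' ≫ V.ι = linePt 0 ≫ g) (hB : B' ≫ V.ι = linePt 1 ≫ g)
    (hA0 : A' ≫ h0 = A.1) (hB0 : B' ≫ h0 = B.1) :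
    REq.ElemLink f K A B := by
  set W := g ⁻¹ᵁ V
  let j : (W : Scheme.{u}) ⟶ CohB1.ProjSpaceOver 1 (Spec (CommRingCat.of K)) := W.ι ≫ chart 0 K
  have hsub : ∀ (e : K) (P : Spec (CommRingCat.of K) ⟶ (V : Scheme.{u})), P ≫ V.ι = linePt e ≫ g →
      Set.range (linePt e) ⊆ Set.range W.ι := fun e P hP => by
    rw [Scheme.Opens.range_ι]
    rintro _ ⟨z, rfl⟩
    show g (linePt e z) ∈ V
    rw [← Scheme.Hom.comp_apply, ← hP, Scheme.Hom.comp_apply]
    exact (P z).2
  let a0 := IsOpenImmersion.lift W.ι (linePt (0 : K)) (hsub 0 A' hA)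
  let b0 := IsOpenImmersion.lift W.ι (linePt (1 : K)) (hsub 1 B' hB)
  have ha0 : a0 ≫ W.ι = linePt 0 := IsOpenImmersion.lift_fac _ _ _
  have hb0 : b0 ≫ W.ι = linePt 1 := IsOpenImmersion.lift_fac _ _ _
  have hj : j ≫ REq.P1K.toSpec K = W.ι ≫ Spec.map (CommRingCat.ofHom MvPolynomial.C) := by
    show (W.ι ≫ chart 0 K) ≫ CohB1.ProjSpaceOver.toBase 1 (Spec (CommRingCat.of K)) = _
    rw [Category.assoc, chart_toBase]
  let h : (j.opensRange : Scheme.{u}) ⟶ X := j.isoOpensRange.inv ≫ (g ∣_ V) ≫ h0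
  refine ⟨j.opensRange, h, a0 ≫ j.isoOpensRange.hom, b0 ≫ j.isoOpensRange.hom, ?_, ?_, ?_, ?_, ?_⟩
  · rw [← cancel_epi j.isoOpensRange.hom]
    simp only [h, Category.assoc, Iso.hom_inv_id_assoc, hp]
    rw [morphismRestrict_ι_assoc, hg, Scheme.Hom.isoOpensRange_hom_ι_assoc, reassoc_of% hj]
  · rw [Category.assoc, Scheme.Hom.isoOpensRange_hom_ι_assoc, hj, reassoc_of% ha0, linePt_C]
  · rw [Category.assoc, Scheme.Hom.isoOpensRange_hom_ι_assoc, hj, reassoc_of% hb0, linePt_C]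
  · simp only [h, Category.assoc, Iso.hom_inv_id_assoc]
    have : a0 ≫ (g ∣_ V) = A' := by
      rw [← cancel_mono V.ι, Category.assoc, morphismRestrict_ι, reassoc_of% ha0, hA]
    rw [reassoc_of% this, hA0]
  · simp only [h, Category.assoc, Iso.hom_inv_id_assoc]
    have : b0 ≫ (g ∣_ V) = B' := by
      rw [← cancel_mono V.ι, Category.assoc, morphismRestrict_ι, reassoc_of% hb0, hB]
    rw [reassoc_of% this, hB0]

theorem link_comp {X Y : Scheme.{u}} {f : X ⟶ Spec (CommRingCat.of k)} (i : Y ⟶ X) (A B : REq.Pts (i ≫ f) K)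
    (A' B' : REq.Pts f K) (hA : A.1 ≫ i = A'.1) (hB : B.1 ≫ i = B'.1) (h : REq.ElemLink (i ≫ f) K A B) :
    REq.ElemLink f K A' B' := by
  obtain ⟨U, h, a, b, h1, h2, h3, h4, h5⟩ := h
  exact ⟨U, h ≫ i, a, b, by rw [Category.assoc, h1], h2, h3, by rw [reassoc_of% h4, hA],
    by rw [reassoc_of% h5, hB]⟩

/-- points of a retract of an open of affine space are joined by lines -/
theorem link_retract {n : ℕ} {X : Scheme.{u}} (f : X ⟶ Spec (CommRingCat.of k)) (U : X.Opens)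
    (V : (Spec (CommRingCat.of (MvPolynomial (Fin n) k))).Opens)
    (a : (U : Scheme.{u}) ⟶ (V : Scheme.{u})) (b : (V : Scheme.{u}) ⟶ (U : Scheme.{u}))
    (hab : a ≫ b = 𝟙 (U : Scheme.{u}))
    (ha : a ≫ V.ι ≫ Spec.map (CommRingCat.ofHom (algebraMap k (MvPolynomial (Fin n) k))) = U.ι ≫ f)
    (hb : b ≫ U.ι ≫ f = V.ι ≫ Spec.map (CommRingCat.ofHom (algebraMap k (MvPolynomial (Fin n) k))))
    (A B : REq.Pts (U.ι ≫ f) K) : REq.ElemLink (U.ι ≫ f) K A B := by
  have hcoord : ∀ P : REq.Pts (U.ι ≫ f) K, ∃ c : Fin n → K,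
      (P.1 ≫ a) ≫ V.ι = Spec.map (CommRingCat.ofHom (MvPolynomial.eval₂Hom (algebraMap k K) c)) := by
    intro P
    obtain ⟨φ, hφ⟩ : ∃ φ : MvPolynomial (Fin n) k →+* K, (P.1 ≫ a) ≫ V.ι = Spec.map (CommRingCat.ofHom φ) :=
      ⟨(Spec.preimage ((P.1 ≫ a) ≫ V.ι)).hom, (Spec.map_preimage _).symm⟩
    refine ⟨fun l => φ (MvPolynomial.X l), hφ.trans (congrArg (fun ψ => Spec.map (CommRingCat.ofHom ψ)) ?_)⟩
    have hc : φ.comp (algebraMap k (MvPolynomial (Fin n) k)) = algebraMap k K := by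
      have h2 : P.1 ≫ a ≫ V.ι ≫ Spec.map (CommRingCat.ofHom (algebraMap k (MvPolynomial (Fin n) k))) =
          Spec.map (CommRingCat.ofHom (algebraMap k K)) := by rw [ha]; exact P.2
      rw [← Category.assoc, ← Category.assoc, hφ, ← Spec.map_comp, ← CommRingCat.ofHom_comp] at h2
      exact congrArg CommRingCat.Hom.hom (Spec.map_injective h2)
    refine MvPolynomial.ringHom_ext (fun r => ?_) fun l => ?_
    · rw [MvPolynomial.eval₂Hom_C, ← hc, RingHom.comp_apply, MvPolynomial.algebraMap_eq]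
    · rw [MvPolynomial.eval₂Hom_X']
  obtain ⟨x, hx⟩ := hcoord A
  obtain ⟨y, hy⟩ := hcoord B
  let φ : MvPolynomial (Fin n) k →+* KT K := MvPolynomial.eval₂Hom (MvPolynomial.C.comp (algebraMap k K))
    fun l => MvPolynomial.C (x l) + MvPolynomial.X 0 * MvPolynomial.C (y l - x l)
  have hline : ∀ (e : K), linePt e ≫ Spec.map (CommRingCat.ofHom φ) =
      Spec.map (CommRingCat.ofHom (MvPolynomial.eval₂Hom (algebraMap k K) fun l => x l + e * (y l - x l))) := by
    intro e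
    rw [linePt, ← Spec.map_comp, ← CommRingCat.ofHom_comp]
    congr 2
    refine MvPolynomial.ringHom_ext (fun r => ?_) fun l => ?_
    · simp [φ]
    · simp [φ]
  refine link_of_map V b (Spec.map (CommRingCat.ofHom (algebraMap k (MvPolynomial (Fin n) k)))) hb
    (Spec.map (CommRingCat.ofHom φ)) ?_ A B (A.1 ≫ a) (B.1 ≫ a) ?_ ?_ ?_ ?_
  · rw [← Spec.map_comp, ← Spec.map_comp, ← CommRingCat.ofHom_comp, ← CommRingCat.ofHom_comp]
    congr 2
    exact RingHom.ext fun r => by simp [φ]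
  · rw [hx, hline]; simp
  · rw [hy, hline]; simp
  · rw [Category.assoc, hab, Category.comp_id]
  · rw [Category.assoc, hab, Category.comp_id]

theorem almostRTrivial_of_retract [Infinite k] {X : Scheme.{u}} (f : X ⟶ Spec (CommRingCat.of k)) [IsIntegral X]
    (hX : REq.IsRetractRational f) : REq.IsAlmostRTrivial f := by
  obtain ⟨U, n, V, a, b, ⟨u0, hu0⟩, hab, ha, hb⟩ := hX
  refine ⟨U, U.2.dense ⟨u0, hu0⟩, fun K _ _ => ⟨?_, ?_⟩⟩
  · obtain ⟨_, ⟨g, rfl⟩, hgv, hgV⟩ := PrimeSpectrum.isTopologicalBasis_basic_opens.exists_subset_of_mem_open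
      (a ⟨u0, hu0⟩).2 V.2
    have hg : g ≠ 0 := fun h => hgv (h ▸ zero_mem _)
    obtain ⟨c, hc⟩ : ∃ c : Fin n → k, MvPolynomial.eval c g ≠ 0 := by
      by_contra hno
      simp only [not_exists, not_not] at hno
      exact hg (MvPolynomial.funext fun c => by simp [hno c])
    let q : Spec (CommRingCat.of k) ⟶ Spec (CommRingCat.of (MvPolynomial (Fin n) k)) :=
      Spec.map (CommRingCat.ofHom (MvPolynomial.eval c))
    have hq : Set.range q ⊆ Set.range V.ι := by
      rw [Scheme.Opens.range_ι]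
      rintro _ ⟨z, rfl⟩
      refine hgV ?_
      show g ∉ ((MvPolynomial.eval c : MvPolynomial (Fin n) k →+* k) |> Ideal.comap) z.asIdeal
      intro hmem
      exact z.2.ne_top (Ideal.eq_top_of_isUnit_mem _ hmem (isUnit_iff_ne_zero.mpr hc))
    let q' := IsOpenImmersion.lift V.ι q hq
    have hq' : q' ≫ V.ι = q := IsOpenImmersion.lift_fac _ _ _
    refine ⟨⟨REq.specMap k K ≫ q' ≫ b ≫ U.ι, ?_⟩, ?_⟩
    · simp only [Category.assoc, hb]
      rw [reassoc_of% hq']
      show _ ≫ Spec.map _ ≫ Spec.map _ = _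
      rw [← Spec.map_comp, ← CommRingCat.ofHom_comp,
        show (MvPolynomial.eval c).comp (algebraMap k (MvPolynomial (Fin n) k)) = RingHom.id k from
          RingHom.ext fun r => MvPolynomial.eval_C r]
      simp
    · show Set.range (REq.specMap k K ≫ q' ≫ b ≫ U.ι) ⊆ (U : Set X)
      rw [← Scheme.Opens.range_ι U]
      rintro _ ⟨z, rfl⟩
      exact ⟨(REq.specMap k K ≫ q' ≫ b) z, rfl⟩
  · intro A B hA hB
    have hA' : Set.range A.1 ⊆ Set.range U.ι := by rw [Scheme.Opens.range_ι]; exact hA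
    have hB' : Set.range B.1 ⊆ Set.range U.ι := by rw [Scheme.Opens.range_ι]; exact hB
    refine Relation.EqvGen.rel _ _ (link_comp U.ι ⟨IsOpenImmersion.lift U.ι A.1 hA', ?_⟩
      ⟨IsOpenImmersion.lift U.ι B.1 hB', ?_⟩ A B (IsOpenImmersion.lift_fac _ _ _) (IsOpenImmersion.lift_fac _ _ _)
      (link_retract f U V a b hab ha hb _ _))
    · rw [IsOpenImmersion.lift_fac_assoc]; exact A.2
    · rw [IsOpenImmersion.lift_fac_assoc]; exact B.2

theorem not_requiv_of_cover {Y : Scheme.{u}} (g : Y ⟶ Spec (CommRingCat.of k))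
    (V W : Set Y) (hV : IsClosed V) (hW : IsClosed W) (hVW : V ∪ W = Set.univ)
    (hT : ∀ z : REq.Pts g K, ¬ (Set.range z.1.base ⊆ V ∩ W))
    (p q : REq.Pts g K) (hp : Set.range p.1.base ⊆ V) (hq : Set.range q.1.base ⊆ W) :
    ¬ REq.REquiv g K p q := by
  intro hpq
  suffices key : ∀ {A B : REq.Pts g K}, REq.REquiv g K A B →
      (Set.range A.1.base ⊆ V ↔ Set.range B.1.base ⊆ V) from
    hT q fun y hy => ⟨(key hpq).mp hp hy, hq hy⟩
  intro A B h
  induction h with
  | refl _ => rfl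
  | symm _ _ _ ih => exact ih.symm
  | trans _ _ _ _ _ ih ih' => exact ih.trans ih'
  | rel A B h =>
    obtain ⟨U, h, a, b, -, -, -, ha, hb⟩ := h
    have := irreducibleSpace_projSpaceOver (n := 1) K
    have hpre : IsPreirreducible (Set.univ : Set U) :=
      (PreirreducibleSpace.isPreirreducible_univ (X := CohB1.ProjSpaceOver 1 (Spec (CommRingCat.of K)))).preimage
        U.ι.isOpenEmbedding
    have hcl := isPreirreducible_iff_isClosed_union_isClosed.mp hpre _ _ (hV.preimage h.continuous)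
      (hW.preimage h.continuous) (fun x _ => by
        have : h x ∈ V ∪ W := hVW ▸ Set.mem_univ _
        exact this)
    rcases hcl with hc | hc
    · refine iff_of_true ?_ ?_
      · rintro _ ⟨z, rfl⟩; rw [← ha]; exact hc (Set.mem_univ (a z))
      · rintro _ ⟨z, rfl⟩; rw [← hb]; exact hc (Set.mem_univ (b z))
    · refine iff_of_false (fun hv => hT A fun y hy => ⟨hv hy, ?_⟩) (fun hv => hT B fun y hy => ⟨hv hy, ?_⟩)
      · obtain ⟨z, rfl⟩ := hy; rw [← ha]; exact hc (Set.mem_univ (a z))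
      · obtain ⟨z, rfl⟩ := hy; rw [← hb]; exact hc (Set.mem_univ (b z))

/-! ### projective space -/

lemma pt_smul {n : ℕ} {R : Type u} [CommRing R] {f : MvPolynomial (Fin (n + 1)) Z.{u}} (hf : f ∈ gr n 1)
    (a : R) (c : Fin (n + 1) → R) (h : IsUnit (ev c f)) (h' : IsUnit (ev (fun l => a * c l) f)) :
    pt f hf (fun l => a * c l) h' = pt f hf c h := by
  rw [pt, pt]
  congr 3
  refine RingHom.ext fun x => ?_
  obtain ⟨d, p, hp, rfl⟩ := HomogeneousLocalization.Away.mk_surjective (gr n) hf x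
  rw [evAway_lift, evAway_lift, HomogeneousLocalization.Away.val_mk]
  refine (h'.pow d).mul_left_injective ?_
  simp only
  rw [lift_mk, ev_smul a c ((MvPolynomial.mem_homogeneousSubmodule d p).mp (by simpa using hp)),
    ev_smul a c ((MvPolynomial.mem_homogeneousSubmodule 1 f).mp hf), pow_one, mul_pow, ← lift_mk c h p d]
  ring

theorem link_projSpace {n : ℕ} (V : (CohB1.ProjSpaceOver n (Spec (CommRingCat.of k))).Opens)
    (A B : REq.Pts (V.ι ≫ CohB1.ProjSpaceOver.toBase n (Spec (CommRingCat.of k))) K) :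
    REq.ElemLink (V.ι ≫ CohB1.ProjSpaceOver.toBase n (Spec (CommRingCat.of k))) K A B := by
  classical
  obtain ⟨i, α, hα, hA⟩ := exists_coords K ((A.1 ≫ V.ι) ≫ toZ k)
  obtain ⟨j, β, hβ, hB⟩ := exists_coords K ((B.1 ≫ V.ι) ≫ toZ k)
  obtain ⟨s, hsa, hsb⟩ : ∃ s : Finset (Fin (n + 1)), ∑ l ∈ s, α l ≠ 0 ∧ ∑ l ∈ s, β l ≠ 0 := by
    by_cases h1 : β i = 0
    · by_cases h2 : α j = 0
      · refine ⟨{i, j}, ?_⟩
        have hij : i ≠ j := by
          rintro rfl
          rw [hβ] at h1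
          exact one_ne_zero h1
        rw [Finset.sum_pair hij, Finset.sum_pair hij, hα, hβ, h1, h2]
        simp
      · exact ⟨{j}, by simpa using h2, by simp [hβ]⟩
    · exact ⟨{i}, by simp [hα], by simpa using h1⟩
  set F : MvPolynomial (Fin (n + 1)) Z.{u} := ∑ l ∈ s, MvPolynomial.X l
  have hF : F ∈ gr n 1 := Submodule.sum_mem _ fun l _ => X_mem l
  have hev : ∀ {R : Type u} [CommRing R] (c : Fin (n + 1) → R), ev c F = ∑ l ∈ s, c l := fun c => by
    simp [F, map_sum]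
  set α' : Fin (n + 1) → K := fun l => (∑ l ∈ s, α l)⁻¹ * α l with hα'
  set β' : Fin (n + 1) → K := fun l => (∑ l ∈ s, β l)⁻¹ * β l with hβ'
  let c : Fin (n + 1) → KT K := fun l => MvPolynomial.C (α' l) + MvPolynomial.X 0 * MvPolynomial.C (β' l - α' l)
  have hα1 : ∑ l ∈ s, α' l = 1 := by rw [← Finset.mul_sum, inv_mul_cancel₀ hsa]
  have hβ1 : ∑ l ∈ s, β' l = 1 := by rw [← Finset.mul_sum, inv_mul_cancel₀ hsb]
  have hc : IsUnit (ev c F) := by
    have : ev c F = 1 := by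
      rw [hev]
      simp only [c, Finset.sum_add_distrib, ← Finset.mul_sum, ← map_sum, Finset.sum_sub_distrib, hα1, hβ1]
      simp
    rw [this]; exact isUnit_one
  let g : Spec (CommRingCat.of (KT K)) ⟶ CohB1.ProjSpaceOver n (Spec (CommRingCat.of k)) :=
    pullback.lift (pt F hF c hc) (Spec.map (CommRingCat.ofHom MvPolynomial.C) ≫ REq.specMap k K)
      (specULiftZIsTerminal.hom_ext _ _)
  have hend : ∀ (P : REq.Pts (V.ι ≫ CohB1.ProjSpaceOver.toBase n (Spec (CommRingCat.of k))) K) (m : Fin (n + 1))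
      (γ : Fin (n + 1) → K) (hγ : IsUnit (ev γ (MvPolynomial.X m))) (hγs : ∑ l ∈ s, γ l ≠ 0) (e : K)
      (_ : (MvPolynomial.eval fun _ => e) ∘ c = fun l => (∑ l ∈ s, γ l)⁻¹ * γ l)
      (_ : (P.1 ≫ V.ι) ≫ toZ k = pt (MvPolynomial.X m) (X_mem m) γ hγ),
      P.1 ≫ V.ι = linePt e ≫ g := by
    intro P m γ hγ hγs e he hP
    apply pullback.hom_ext
    · refine hP.trans (Eq.trans ?_ (Category.assoc _ _ _).symm)
      have hγF : IsUnit (ev γ F) := by rw [hev]; exact isUnit_iff_ne_zero.mpr hγs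
      have hγF' : IsUnit (ev (fun l => (∑ l ∈ s, γ l)⁻¹ * γ l) F) := by
        rw [hev, ← Finset.mul_sum, inv_mul_cancel₀ hγs]; exact isUnit_one
      show _ = linePt e ≫ (g ≫ toZ k)
      rw [show g ≫ toZ k = pt F hF c hc from pullback.lift_fst _ _ _]
      rw [linePt, pt_comp _ hF c hc (he ▸ hγF'), pt_change (X_mem m) hF γ hγ hγF, ← pt_smul hF _ γ hγF hγF']
      congr 1
      exact he.symm
    · refine ((Category.assoc _ _ _).trans P.2).trans (Eq.trans ?_ (Category.assoc _ _ _).symm)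
      show _ = linePt e ≫ (g ≫ CohB1.ProjSpaceOver.toBase n (Spec (CommRingCat.of k)))
      rw [show g ≫ CohB1.ProjSpaceOver.toBase n (Spec (CommRingCat.of k)) = Spec.map (CommRingCat.ofHom MvPolynomial.C) ≫
          REq.specMap k K from pullback.lift_snd _ _ _, reassoc_of% (linePt_C e)]
  refine link_of_map V (𝟙 _) _ (Category.id_comp _) g (pullback.lift_snd _ _ _) A B A.1 B.1
    (hend A i α _ hsa 0 ?_ hA) (hend B j β _ hsb 1 ?_ hB) (Category.comp_id _) (Category.comp_id _)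
  · funext l; simp [c, hα']
  · funext l; simp [c, hβ']

end Groth.Misc15.REqLine
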