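import Mathlib
import Groth.Agent.Misc15.Arc
import Groth.Agent.Misc15.Approx
import Groth.Agent.Misc15.REqLine

/-! Moving a rational point of a smooth variety into a retract of an open of affine space. -/

set_option autoImplicit false

universe u

open CategoryTheory CategoryTheory.Limits AlgebraicGeometry
open scoped TensorProduct

namespace Groth.Misc15.Moving

variable {k : Type u} [Field k] {K : Type u} [Field K] [Algebra k K]

theorem isDomain_tensor {X : Scheme.{u}} (f : X ⟶ Spec (CommRingCat.of k)) [GeometricallyIntegral f]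
    (R : Type u) [CommRing R] [Algebra k R] [Nontrivial R] (j : Spec (CommRingCat.of R) ⟶ X)
    [IsOpenImmersion j] (hj : j ≫ f = Spec.map (CommRingCat.ofHom (algebraMap k R))) :
    IsDomain (K ⊗[k] R) := by
  let s := Spec.map (CommRingCat.ofHom (algebraMap k K))
  haveI : IsIntegral (pullback s f) :=
    GeometricallyIntegral.isIntegral_of_subsingleton (pullback.fst s f)
  let e : Spec (CommRingCat.of (K ⊗[k] R)) ≅ pullback (pullback.snd s f) j :=
    (pullbackSpecIso k K R).symm ≪≫ pullback.congrHom rfl hj.symm ≪≫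
      (pullbackLeftPullbackSndIso s f j).symm
  haveI : Nontrivial (K ⊗[k] R) :=
    (Algebra.TensorProduct.includeRight_injective (algebraMap k K).injective).nontrivial
  haveI : Nonempty (Spec (CommRingCat.of (K ⊗[k] R)) : Scheme.{u}) :=
    inferInstanceAs (Nonempty (PrimeSpectrum (K ⊗[k] R)))
  haveI : IsOpenImmersion (e.hom ≫ pullback.fst (pullback.snd s f) j) := inferInstance
  have := isIntegral_of_isOpenImmersion (e.hom ≫ pullback.fst (pullback.snd s f) j)
  exact (affine_isIntegral_iff _).1 this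

theorem link_curve {X : Scheme.{u}} (f : X ⟶ Spec (CommRingCat.of k)) {R : Type u} [CommRing R]
    [Algebra k R] (j : Spec (CommRingCat.of R) ⟶ X)
    (hjf : j ≫ f = Spec.map (CommRingCat.ofHom (algebraMap k R)))
    (A : REq.Pts f K) (xh : R →ₐ[k] K) (hA : Spec.map (CommRingCat.ofHom xh.toRingHom) ≫ j = A.1)
    (yh : R →ₐ[k] K) (B : REq.Pts f K) (hB : Spec.map (CommRingCat.ofHom yh.toRingHom) ≫ j = B.1)
    (t0 : K) (d : Polynomial K) (hd0 : (Polynomial.aeval (0 : K)).restrictScalars k d ≠ 0)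
    (hdt : (Polynomial.aeval t0).restrictScalars k d ≠ 0) (h0 : R →ₐ[k] Localization.Away d)
    (hev0 : (Approx.evAway ((Polynomial.aeval (0 : K)).restrictScalars k) d hd0).comp h0 = xh)
    (hevt : (Approx.evAway ((Polynomial.aeval t0).restrictScalars k) d hdt).comp h0 = yh) :
    REq.ElemLink f K A B := by
  let σ : Polynomial K →+* REqLine.KT K :=
    Polynomial.eval₂RingHom MvPolynomial.C (MvPolynomial.C t0 * MvPolynomial.X 0)
  let jd : Spec (CommRingCat.of (Localization.Away d)) ⟶ Spec (CommRingCat.of (Polynomial K)) :=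
    Spec.map (CommRingCat.ofHom (algebraMap _ _))
  haveI : IsOpenImmersion jd := IsOpenImmersion.of_isLocalization d
  have hline : ∀ (s ε : K), s = ε * t0 → ∀ (hε : (Polynomial.aeval s).restrictScalars k d ≠ 0),
      (Spec.map (CommRingCat.ofHom (Approx.evAway ((Polynomial.aeval s).restrictScalars k) d hε).toRingHom) ≫
        jd.isoOpensRange.hom) ≫ jd.opensRange.ι = REqLine.linePt ε ≫ Spec.map (CommRingCat.ofHom σ) := by
    intro s ε hs hε
    rw [Category.assoc, Scheme.Hom.isoOpensRange_hom_ι, REqLine.linePt]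
    show Spec.map _ ≫ Spec.map _ = _
    rw [← Spec.map_comp, ← Spec.map_comp, ← CommRingCat.ofHom_comp, ← CommRingCat.ofHom_comp]
    congr 2
    refine Polynomial.ringHom_ext (fun a => ?_) ?_
    · simp [σ, Approx.evAway_algebraMap]
    · simp [σ, hs, Approx.evAway_algebraMap, mul_comm]
  have l0 := hline 0 0 (zero_mul t0).symm hd0
  have l1 := hline t0 1 (one_mul t0).symm hdt
  refine REqLine.link_of_map (k := k) jd.opensRange
    (jd.isoOpensRange.inv ≫ Spec.map (CommRingCat.ofHom h0.toRingHom) ≫ j)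
    (Spec.map (CommRingCat.ofHom (algebraMap k (Polynomial K)))) ?_
    (Spec.map (CommRingCat.ofHom σ)) ?_ A B
    _ _
    l0 l1 ?_ ?_
  · rw [← cancel_epi jd.isoOpensRange.hom]
    simp only [Category.assoc, Iso.hom_inv_id_assoc, hjf, Scheme.Hom.isoOpensRange_hom_ι_assoc]
    show _ = Spec.map _ ≫ Spec.map _
    rw [← Spec.map_comp, ← Spec.map_comp, ← CommRingCat.ofHom_comp, ← CommRingCat.ofHom_comp]
    exact congrArg (fun g => Spec.map (CommRingCat.ofHom g))
      (h0.comp_algebraMap.trans (IsScalarTower.algebraMap_eq k (Polynomial K) (Localization.Away d)))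
  · show _ = Spec.map _ ≫ Spec.map _
    rw [← Spec.map_comp, ← Spec.map_comp, ← CommRingCat.ofHom_comp, ← CommRingCat.ofHom_comp]
    congr 2
    exact RingHom.ext fun r => by simp [σ, Polynomial.algebraMap_apply]
  · simp only [Category.assoc, Iso.hom_inv_id_assoc]
    rw [← Category.assoc, ← Spec.map_comp, ← CommRingCat.ofHom_comp, ← hA, ← hev0]
    rfl
  · simp only [Category.assoc, Iso.hom_inv_id_assoc]
    rw [← Category.assoc, ← Spec.map_comp, ← CommRingCat.ofHom_comp, ← hB, ← hevt]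
    rfl

theorem exists_link [Infinite K] {X : Scheme.{u}} (f : X ⟶ Spec (CommRingCat.of k)) [IsIntegral X]
    [GeometricallyIntegral f] [Smooth f] {n : ℕ} (U : X.Opens)
    (V : (Spec (CommRingCat.of (MvPolynomial (Fin n) k))).Opens)
    (a : (U : Scheme.{u}) ⟶ (V : Scheme.{u})) (b : (V : Scheme.{u}) ⟶ (U : Scheme.{u}))
    (hne : (U : Set X).Nonempty) (hab : a ≫ b = 𝟙 (U : Scheme.{u}))
    (ha : a ≫ V.ι ≫ Spec.map (CommRingCat.ofHom (algebraMap k (MvPolynomial (Fin n) k))) = U.ι ≫ f)
    (hb : b ≫ U.ι ≫ f = V.ι ≫ Spec.map (CommRingCat.ofHom (algebraMap k (MvPolynomial (Fin n) k))))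
    (x : REq.Pts f K) :
    ∃ y : REq.Pts f K, REq.InOpen f U y ∧ REq.ElemLink f K x y := by
  classical
  obtain ⟨W, hW, hxW, -⟩ := exists_isAffineOpen_mem_and_subset (x := x.1 default) (U := ⊤) trivial
  let j : Spec (CommRingCat.of Γ(X, W)) ⟶ X := hW.fromSpec
  have hj : Set.range j = (W : Set X) := hW.range_fromSpec
  letI : Algebra k Γ(X, W) := (Spec.preimage (j ≫ f)).hom.toAlgebra
  have hjf : j ≫ f = Spec.map (CommRingCat.ofHom (algebraMap k Γ(X, W))) :=
    (Spec.map_preimage _).symm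
  haveI : Algebra.Smooth k Γ(X, W) := by
    haveI : Smooth (Spec.map (CommRingCat.ofHom (algebraMap k Γ(X, W)))) := by
      rw [← hjf]; infer_instance
    exact RingHom.smooth_algebraMap.1 ((HasRingHomProperty.Spec_iff (P := @Smooth)).1 this)
  have hxr : Set.range x.1 ⊆ Set.range j := by
    rw [hj]
    rintro _ ⟨z, rfl⟩
    rw [Subsingleton.elim z default]
    exact hxW
  let xW := IsOpenImmersion.lift j x.1 hxr
  have hxW' : xW ≫ j = x.1 := IsOpenImmersion.lift_fac _ _ _
  let xh : Γ(X, W) →ₐ[k] K :=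
    { (Spec.preimage xW).hom with
      commutes' := fun r => by
        have h2 : Spec.map (Spec.preimage xW) ≫ Spec.map (CommRingCat.ofHom (algebraMap k Γ(X, W))) =
            Spec.map (CommRingCat.ofHom (algebraMap k K)) := by
          rw [Spec.map_preimage, ← hjf, ← Category.assoc, hxW']; exact x.2
        rw [← Spec.map_comp] at h2
        exact RingHom.congr_fun (congrArg CommRingCat.Hom.hom (Spec.map_injective h2)) r }
  haveI : Nontrivial Γ(X, W) := RingHom.domain_nontrivial xh.toRingHom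
  haveI := isDomain_tensor (K := K) f Γ(X, W) j hjf
  haveI : IsDomain Γ(X, W) :=
    (Algebra.TensorProduct.includeRight_injective (R := k) (A := K) (B := Γ(X, W))
      (algebraMap k K).injective).isDomain Algebra.TensorProduct.includeRight.toRingHom
  haveI : IsNoetherianRing (K ⊗[k] Γ(X, W)) := Algebra.FiniteType.isNoetherianRing K _
  -- a hypersurface avoiding U
  have hUne : ((j ⁻¹ᵁ U : (Spec (CommRingCat.of Γ(X, W))).Opens) :
      Set (Spec (CommRingCat.of Γ(X, W)))).Nonempty := by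
    obtain ⟨z, hzU, hzW⟩ := nonempty_preirreducible_inter U.2 W.2 hne ⟨_, hxW⟩
    obtain ⟨w, rfl⟩ : z ∈ Set.range j := by rw [hj]; exact hzW
    exact ⟨w, hzU⟩
  obtain ⟨w, hw⟩ := hUne
  obtain ⟨_, ⟨h, rfl⟩, hwh, hhU⟩ :=
    PrimeSpectrum.isTopologicalBasis_basic_opens.exists_subset_of_mem_open hw (j ⁻¹ᵁ U).2
  have hh : h ≠ 0 := fun e => hwh (e ▸ zero_mem _)
  let xA : K ⊗[k] Γ(X, W) →ₐ[K] K := Algebra.TensorProduct.lift (Algebra.ofId K K) xh fun _ _ => mul_comm _ _
  obtain ⟨φA, hφx, hφh⟩ := Arc.exists_arc xA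
    (h := (1 : K) ⊗ₜ[k] h) (fun e => hh (Algebra.TensorProduct.includeRight_injective
      (R := k) (A := K) (B := Γ(X, W)) (algebraMap k K).injective (e.trans (map_zero _).symm)))
  let φ : Γ(X, W) →ₐ[k] PowerSeries K :=
    (φA.restrictScalars k).comp Algebra.TensorProduct.includeRight
  have hx : ∀ r, PowerSeries.constantCoeff (φ r) = xh r := fun r => by
    show PowerSeries.constantCoeff (φA ((1 : K) ⊗ₜ[k] r)) = _
    rw [hφx]; simp [xA]
  -- the generic point of the arc
  set L := FractionRing (PowerSeries K)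
  let φL : Γ(X, W) →ₐ[k] L := (IsScalarTower.toAlgHom k (PowerSeries K) L).comp φ
  let η : Spec (CommRingCat.of L) ⟶ Spec (CommRingCat.of Γ(X, W)) :=
    Spec.map (CommRingCat.ofHom φL.toRingHom)
  have hηU : Set.range (η ≫ j) ⊆ Set.range U.ι := by
    rw [Scheme.Opens.range_ι]
    rintro _ ⟨z, rfl⟩
    refine hhU (?_ : η z ∈ PrimeSpectrum.basicOpen h)
    intro hmem
    have : φL h ∈ z.asIdeal := hmem
    refine z.2.ne_top (Ideal.eq_top_of_isUnit_mem _ this (isUnit_iff_ne_zero.2 ?_))
    exact fun e => hφh ((IsFractionRing.injective (PowerSeries K) L) (e.trans (map_zero _).symm))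
  let ηU := IsOpenImmersion.lift U.ι (η ≫ j) hηU
  have hηU' : ηU ≫ U.ι = η ≫ j := IsOpenImmersion.lift_fac _ _ _
  have hηk : η ≫ Spec.map (CommRingCat.ofHom (algebraMap k Γ(X, W))) =
      Spec.map (CommRingCat.ofHom (algebraMap k L)) := by
    rw [← Spec.map_comp, ← CommRingCat.ofHom_comp]
    exact congrArg (fun g => Spec.map (CommRingCat.ofHom g)) φL.comp_algebraMap
  let γ : MvPolynomial (Fin n) k →ₐ[k] L :=
    { (Spec.preimage (ηU ≫ a ≫ V.ι)).hom with
      commutes' := fun r => by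
        have h2 : Spec.map (Spec.preimage (ηU ≫ a ≫ V.ι)) ≫
            Spec.map (CommRingCat.ofHom (algebraMap k (MvPolynomial (Fin n) k))) =
            Spec.map (CommRingCat.ofHom (algebraMap k L)) := by
          rw [Spec.map_preimage, Category.assoc, Category.assoc, ha, reassoc_of% hηU', hjf, hηk]
        rw [← Spec.map_comp] at h2
        exact RingHom.congr_fun (congrArg CommRingCat.Hom.hom (Spec.map_injective h2)) r }
  set c : Fin n → L := fun i => γ (MvPolynomial.X i)
  have hγ : γ = MvPolynomial.aeval c := MvPolynomial.algHom_ext fun i => (MvPolynomial.aeval_X c i).symm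
  have hSγ : Spec.map (CommRingCat.ofHom (MvPolynomial.aeval c).toRingHom) = ηU ≫ a ≫ V.ι := by
    rw [← hγ]; exact Spec.map_preimage _
  -- a basic open neighbourhood in affine space
  obtain ⟨_, ⟨g, rfl⟩, hpg, hgsub⟩ :=
    PrimeSpectrum.isTopologicalBasis_basic_opens.exists_subset_of_mem_open
      (a := (ηU ≫ a ≫ V.ι) default) (u := ((V.ι ''ᵁ (b ⁻¹ᵁ (U.ι ⁻¹ᵁ W))) : Set (Spec (CommRingCat.of (MvPolynomial (Fin n) k)))))
      (by
        refine ⟨(ηU ≫ a) default, ?_, rfl⟩
        show U.ι (b ((ηU ≫ a) default)) ∈ W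
        rw [← Scheme.Hom.comp_apply b, ← Scheme.Hom.comp_apply, Category.assoc, reassoc_of% hab, hηU',
          ← SetLike.mem_coe, ← hj]
        exact ⟨η default, rfl⟩) (V.ι ''ᵁ (b ⁻¹ᵁ (U.ι ⁻¹ᵁ W))).2
  have hg : MvPolynomial.aeval c g ≠ 0 := fun e => by
    refine hpg ?_
    rw [← hSγ]
    show g ∈ Ideal.comap (MvPolynomial.aeval c).toRingHom
      (default : Spec (CommRingCat.of L)).asIdeal
    rw [Ideal.mem_comap]
    show MvPolynomial.aeval c g ∈ _
    rw [e]; exact zero_mem _
  let loc : Spec (CommRingCat.of (Localization.Away g)) ⟶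
      Spec (CommRingCat.of (MvPolynomial (Fin n) k)) :=
    Spec.map (CommRingCat.ofHom (algebraMap _ _))
  have hloc : Set.range loc ⊆ (V.ι ''ᵁ (b ⁻¹ᵁ (U.ι ⁻¹ᵁ W)) : Set _) := by
    rintro _ ⟨z, rfl⟩
    refine hgsub ?_
    show g ∉ (z.asIdeal.comap (algebraMap (MvPolynomial (Fin n) k) (Localization.Away g)))
    exact fun hmem => z.2.ne_top (Ideal.eq_top_of_isUnit_mem _ hmem
      (IsLocalization.Away.algebraMap_isUnit g))
  let bD := IsOpenImmersion.lift V.ι loc (by
    rw [Scheme.Opens.range_ι]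
    intro z hz
    obtain ⟨v, -, rfl⟩ := hloc hz
    exact v.2)
  have hbD : bD ≫ V.ι = loc := IsOpenImmersion.lift_fac _ _ _
  have hbDW : Set.range (bD ≫ b ≫ U.ι) ⊆ Set.range j := by
    rw [hj]
    rintro _ ⟨z, rfl⟩
    obtain ⟨v, hv, hvz⟩ := hloc ⟨z, rfl⟩
    have : bD z = v := V.ι.isOpenEmbedding.injective (by
      rw [← Scheme.Hom.comp_apply, hbD]; exact hvz.symm)
    show U.ι (b (bD z)) ∈ W
    rw [this]; exact hv
  let bW := IsOpenImmersion.lift j (bD ≫ b ≫ U.ι) hbDW
  have hbW : bW ≫ j = bD ≫ b ≫ U.ι := IsOpenImmersion.lift_fac _ _ _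
  let β : Γ(X, W) →ₐ[k] Localization.Away g :=
    { (Spec.preimage bW).hom with
      commutes' := fun r => by
        have h2 : Spec.map (Spec.preimage bW) ≫ Spec.map (CommRingCat.ofHom (algebraMap k Γ(X, W))) =
            Spec.map (CommRingCat.ofHom (algebraMap k (Localization.Away g))) := by
          rw [Spec.map_preimage, ← hjf, reassoc_of% hbW, hb, reassoc_of% hbD, ← Spec.map_comp,
            ← CommRingCat.ofHom_comp, ← IsScalarTower.algebraMap_eq]
        rw [← Spec.map_comp] at h2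
        exact RingHom.congr_fun (congrArg CommRingCat.Hom.hom (Spec.map_injective h2)) r }
  have hSβ : Spec.map (CommRingCat.ofHom β.toRingHom) = bW := Spec.map_preimage _
  have hc : ∀ r, Approx.evAway (MvPolynomial.aeval c) g hg (β r) =
      algebraMap (PowerSeries K) L (φ r) := by
    intro r
    have key : Spec.map (CommRingCat.ofHom (Approx.evAway (MvPolynomial.aeval c) g hg).toRingHom) ≫
        bW = η := by
      rw [← cancel_mono j, Category.assoc, hbW, ← hηU']
      have h1 : Spec.map (CommRingCat.ofHom (Approx.evAway (MvPolynomial.aeval c) g hg).toRingHom) ≫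
          bD = ηU ≫ a := by
        rw [← cancel_mono V.ι, Category.assoc, Category.assoc, hbD, ← hSγ, ← Spec.map_comp,
          ← CommRingCat.ofHom_comp]
        congr 2
        exact RingHom.ext (Approx.evAway_algebraMap _ g hg)
      rw [reassoc_of% h1, reassoc_of% hab]
    rw [← hSβ, ← Spec.map_comp, ← CommRingCat.ofHom_comp] at key
    exact RingHom.congr_fun (congrArg CommRingCat.Hom.hom (Spec.map_injective key)) r
  obtain ⟨t0, d, hd0, hdt, h0, e, he, hev0, hevt⟩ := Approx.approx g β xh φ hx c hg hc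
  -- the point in U
  let P := Spec.map (CommRingCat.ofHom (Approx.evAway (MvPolynomial.aeval e) g he).toRingHom) ≫ bD ≫ b
  have hP : P ≫ U.ι = Spec.map (CommRingCat.ofHom
      ((Approx.evAway (MvPolynomial.aeval e) g he).comp β).toRingHom) ≫ j := by
    show _ = Spec.map (CommRingCat.ofHom
      ((Approx.evAway (MvPolynomial.aeval e) g he).toRingHom.comp β.toRingHom)) ≫ j
    rw [CommRingCat.ofHom_comp, Spec.map_comp, hSβ]
    simp only [P, Category.assoc, hbW]
  have hPk : (P ≫ U.ι) ≫ f = REq.specMap k K := by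
    rw [hP, Category.assoc, hjf, ← Spec.map_comp, ← CommRingCat.ofHom_comp]
    exact congrArg (fun g => Spec.map (CommRingCat.ofHom g))
      (((Approx.evAway (MvPolynomial.aeval e) g he).comp β).comp_algebraMap)
  refine ⟨⟨P ≫ U.ι, hPk⟩, ?_, ?_⟩
  · show Set.range (P ≫ U.ι) ⊆ (U : Set X)
    rw [← Scheme.Opens.range_ι U]
    rintro _ ⟨z, rfl⟩
    exact ⟨P z, rfl⟩
  exact link_curve f j hjf x xh (by rw [show Spec.map (CommRingCat.ofHom xh.toRingHom) = xW from Spec.map_preimage xW]; exact hxW') ((Approx.evAway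
    (MvPolynomial.aeval e) g he).comp β) ⟨P ≫ U.ι, hPk⟩ hP.symm t0 d hd0 hdt h0 hev0 hevt

theorem isRTrivial [Infinite k] {X : Scheme.{u}} (f : X ⟶ Spec (CommRingCat.of k))
    [GeometricallyIntegral f] [Smooth f] (hX : REq.IsRetractRational f) : REq.IsRTrivial f := by
  haveI : IsIntegral X := GeometricallyIntegral.isIntegral_of_subsingleton f
  intro K _ _
  haveI : Infinite K := Infinite.of_injective _ (algebraMap k K).injective
  obtain ⟨U', -, hU'⟩ := REqLine.almostRTrivial_of_retract f hX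
  refine ⟨⟨(hU' K).1.choose⟩, fun A B => ?_⟩
  obtain ⟨U, n, V, a, b, hne, hab, ha, hb⟩ := hX
  obtain ⟨A', hA', hA⟩ := exists_link f U V a b hne hab ha hb A
  obtain ⟨B', hB', hB⟩ := exists_link f U V a b hne hab ha hb B
  have hA'' : Set.range A'.1 ⊆ Set.range U.ι := by rw [Scheme.Opens.range_ι]; exact hA'
  have hB'' : Set.range B'.1 ⊆ Set.range U.ι := by rw [Scheme.Opens.range_ι]; exact hB'
  refine .trans _ _ _ (.rel _ _ hA) (.trans _ _ _ (.rel _ _ ?_) (.symm _ _ (.rel _ _ hB)))
  refine REqLine.link_comp U.ι ⟨IsOpenImmersion.lift U.ι A'.1 hA'', ?_⟩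
    ⟨IsOpenImmersion.lift U.ι B'.1 hB'', ?_⟩ A' B' (IsOpenImmersion.lift_fac _ _ _)
    (IsOpenImmersion.lift_fac _ _ _) (REqLine.link_retract f U V a b hab ha hb _ _)
  · rw [IsOpenImmersion.lift_fac_assoc]; exact A'.2
  · rw [IsOpenImmersion.lift_fac_assoc]; exact B'.2

end Groth.Misc15.Moving
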