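import Mathlib
import Groth.Prelude.Def_GrSeg
import Groth.Agent.GrDualH.Base

/-! Segre products: the Veronese-diagonal projection `diag` on `M ⊗ N` and its linearity over `R # S`. -/

set_option autoImplicit false

universe u

open scoped TensorProduct

namespace Groth.Misc15.Segre

open GrSeg Groth.GrDualH

variable {k : Type u} [Field k]
variable {R : Type u} [CommRing R] [Algebra k R] (𝒜 : ℤ → Submodule k R) [GradedAlgebra 𝒜]
variable {S : Type u} [CommRing S] [Algebra k S] (ℬ : ℤ → Submodule k S) [GradedAlgebra ℬ]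
variable {M : Type u} [AddCommGroup M] [Module R M] [Module k M] [IsScalarTower k R M]
  {τ : Type u} [SetLike τ M] [AddSubgroupClass τ M] (ℳ : ℤ → τ) [DirectSum.Decomposition ℳ]
  [SetLike.GradedSMul 𝒜 ℳ]
variable {N : Type u} [AddCommGroup N] [Module S N] [Module k N] [IsScalarTower k S N]
  {τ' : Type u} [SetLike τ' N] [AddSubgroupClass τ' N] (𝒩 : ℤ → τ') [DirectSum.Decomposition 𝒩]
  [SetLike.GradedSMul ℬ 𝒩]

theorem finite_proj_ne_zero (m : M) : {g : ℤ | proj ℳ g m ≠ 0}.Finite := by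
  classical
  refine (DirectSum.decompose ℳ m).support.finite_toSet.subset fun g hg => ?_
  simp only [Finset.mem_coe, DFinsupp.mem_support_toFun]
  intro h
  exact hg (show ((DirectSum.decompose ℳ m g : ℳ g) : M) = 0 by rw [h]; rfl)

/-- One term of the diagonal projection. -/
noncomputable def diagTerm (g : ℤ) : M →ₗ[k] N →ₗ[k] M ⊗[k] N :=
  (TensorProduct.mk k M N).compl₁₂ (projₗ 𝒜 ℳ g) (projₗ ℬ 𝒩 g)

theorem finite_diagTerm (m : M) :
    (Function.support fun g => diagTerm 𝒜 ℬ ℳ 𝒩 g m).Finite :=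
  (finite_proj_ne_zero ℳ m).subset fun g hg h => hg <| LinearMap.ext fun n => by
    simp [diagTerm, projₗ, h]

/-- The bilinear map `(m, n) ↦ ∑ m_g ⊗ n_g`. -/
noncomputable def diagBil : M →ₗ[k] N →ₗ[k] M ⊗[k] N where
  toFun m := ∑ᶠ g, diagTerm 𝒜 ℬ ℳ 𝒩 g m
  map_add' m m' := by
    simp only [map_add]
    exact finsum_add_distrib (finite_diagTerm 𝒜 ℬ ℳ 𝒩 m) (finite_diagTerm 𝒜 ℬ ℳ 𝒩 m')
  map_smul' c m := by
    simp only [map_smul, RingHom.id_apply]
    exact (smul_finsum' c (finite_diagTerm 𝒜 ℬ ℳ 𝒩 m)).symm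

/-- The projection of `M ⊗ N` onto `⊕ M_g ⊗ N_g`. -/
noncomputable def diag : M ⊗[k] N →ₗ[k] M ⊗[k] N :=
  TensorProduct.lift (diagBil 𝒜 ℬ ℳ 𝒩)

theorem diag_tmul {g h : ℤ} {m : M} {n : N} (hm : m ∈ ℳ g) (hn : n ∈ 𝒩 h) :
    diag 𝒜 ℬ ℳ 𝒩 (m ⊗ₜ n) = if g = h then m ⊗ₜ[k] n else 0 := by
  have h1 : ∑ᶠ i, diagTerm 𝒜 ℬ ℳ 𝒩 i m = diagTerm 𝒜 ℬ ℳ 𝒩 g m :=
    finsum_eq_single _ g fun i hi => LinearMap.ext fun y => by
      simp [diagTerm, projₗ, proj_of_mem_ne hm (Ne.symm hi)]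
  rw [diag, TensorProduct.lift.tmul]
  show (∑ᶠ i, diagTerm 𝒜 ℬ ℳ 𝒩 i m) n = _
  rw [h1]
  split
  · subst g; simp [diagTerm, projₗ, proj_of_mem hm, proj_of_mem hn]
  · next hne => simp [diagTerm, projₗ, proj_of_mem_ne hn (Ne.symm hne)]

omit [Module R M] [IsScalarTower k R M] [Module S N] [IsScalarTower k S N] in
/-- Induction along tensors of homogeneous elements. -/
theorem induction_homogeneous {p : M ⊗[k] N → Prop}
    (h0 : p 0) (hadd : ∀ x y, p x → p y → p (x + y))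
    (h : ∀ g h, ∀ m ∈ ℳ g, ∀ n ∈ 𝒩 h, p (m ⊗ₜ n)) (x : M ⊗[k] N) : p x := by
  induction x using TensorProduct.induction_on with
  | zero => exact h0
  | add a b ha hb => exact hadd a b ha hb
  | tmul m n =>
    induction m using DirectSum.Decomposition.inductionOn ℳ with
    | zero => rw [TensorProduct.zero_tmul]; exact h0
    | add a b ha hb => rw [TensorProduct.add_tmul]; exact hadd _ _ ha hb
    | @homogeneous g a =>
      induction n using DirectSum.Decomposition.inductionOn 𝒩 with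
      | zero => rw [TensorProduct.tmul_zero]; exact h0
      | add x y hx hy => rw [TensorProduct.tmul_add]; exact hadd _ _ hx hy
      | @homogeneous g' b => exact h g g' _ a.2 _ b.2

theorem diag_act_diag (y : R ⊗[k] S) (z : M ⊗[k] N) :
    diag 𝒜 ℬ ℳ 𝒩 (act k R S M N y (diag 𝒜 ℬ ℳ 𝒩 z)) =
      act k R S M N (diag 𝒜 ℬ 𝒜 ℬ y) (diag 𝒜 ℬ ℳ 𝒩 z) ∧
    diag 𝒜 ℬ ℳ 𝒩 (act k R S M N (diag 𝒜 ℬ 𝒜 ℬ y) z) =
      act k R S M N (diag 𝒜 ℬ 𝒜 ℬ y) (diag 𝒜 ℬ ℳ 𝒩 z) := by
  revert y
  induction z using induction_homogeneous ℳ 𝒩 with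
  | h0 => intro y; simp only [map_zero, and_self]
  | hadd a b ha hb => intro y; simp only [map_add, (ha y).1, (ha y).2, (hb y).1, (hb y).2, and_self]
  | h g g' m hm n hn =>
    intro y
    induction y using induction_homogeneous 𝒜 ℬ with
    | h0 => simp only [map_zero, LinearMap.zero_apply, and_self]
    | hadd a b ha hb =>
      simp only [map_add, LinearMap.add_apply, ha.1, ha.2, hb.1, hb.2, and_self]
    | h i i' r hr s hs =>
      have hrm := smul_mem (ℳ := ℳ) hr hm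
      have hsn := smul_mem (ℳ := 𝒩) hs hn
      rw [diag_tmul 𝒜 ℬ ℳ 𝒩 hm hn, diag_tmul 𝒜 ℬ 𝒜 ℬ hr hs]
      by_cases hg : g = g' <;> by_cases hi : i = i' <;>
        simp [hg, hi, act_tmul, diag_tmul 𝒜 ℬ ℳ 𝒩 hrm hsn]

variable {P : Type u} [AddCommGroup P] [Module k P] {τQ : Type u} [SetLike τQ P]
  [AddSubgroupClass τQ P] {𝒬 : ℤ → τQ} [DirectSum.Decomposition 𝒬] {φ : P →ₗ[k] M ⊗[k] N}

theorem diag_image (himg : ∀ n, φ '' (𝒬 n : Set P) = (segrePiece k ℳ 𝒩 n : Set (M ⊗[k] N)))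
    (p : P) : diag 𝒜 ℬ ℳ 𝒩 (φ p) = φ p := by
  induction p using DirectSum.Decomposition.inductionOn 𝒬 with
  | zero => simp
  | add a b ha hb => simp [ha, hb]
  | @homogeneous g a =>
    have : φ (a : P) ∈ (segrePiece k ℳ 𝒩 g : Set (M ⊗[k] N)) := by
      rw [← himg]; exact ⟨_, a.2, rfl⟩
    refine Submodule.span_induction ?_ ?_ ?_ ?_ this
    · rintro _ ⟨m, hm, n, hn, rfl⟩; simp [diag_tmul 𝒜 ℬ ℳ 𝒩 hm hn]
    · simp
    · intro x y _ _ hx hy; simp [hx, hy]
    · intro c x _ hx; simp [hx]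

theorem diag_mem_range (himg : ∀ n, φ '' (𝒬 n : Set P) = (segrePiece k ℳ 𝒩 n : Set (M ⊗[k] N)))
    (z : M ⊗[k] N) : ∃ p, φ p = diag 𝒜 ℬ ℳ 𝒩 z := by
  induction z using induction_homogeneous ℳ 𝒩 with
  | h0 => exact ⟨0, by simp⟩
  | hadd a b ha hb =>
    obtain ⟨p, hp⟩ := ha; obtain ⟨q, hq⟩ := hb
    exact ⟨p + q, by simp [hp, hq]⟩
  | h g g' m hm n hn =>
    rw [diag_tmul 𝒜 ℬ ℳ 𝒩 hm hn]
    split
    · next he =>
      subst he
      have : m ⊗ₜ[k] n ∈ (segrePiece k ℳ 𝒩 g : Set (M ⊗[k] N)) :=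
        Submodule.subset_span ⟨m, hm, n, hn, rfl⟩
      rw [← himg] at this
      obtain ⟨p, -, hp⟩ := this
      exact ⟨p, hp⟩
    · exact ⟨0, map_zero _⟩

omit 𝒜 ℬ ℳ 𝒩 in
theorem act_mul (x y : R ⊗[k] S) :
    act k R S M N (x * y) = (act k R S M N x).comp (act k R S M N y) := by
  induction x using TensorProduct.induction_on with
  | zero => simp
  | add a b ha hb => simp [add_mul, ha, hb, LinearMap.add_comp]
  | tmul r s =>
    induction y using TensorProduct.induction_on with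
    | zero => simp
    | add a b ha hb => simp [mul_add, ha, hb, LinearMap.comp_add]
    | tmul r' s' =>
      refine TensorProduct.ext' fun m n => ?_
      simp [act_tmul, mul_smul]

theorem act_one : act k R S M N 1 = LinearMap.id := by
  refine TensorProduct.ext' fun m n => ?_
  simp [Algebra.TensorProduct.one_def, act_tmul]

/-- The action as a ring homomorphism to endomorphisms. -/
noncomputable def actHom (k R S M N : Type u) [Field k] [CommRing R] [Algebra k R] [CommRing S]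
    [Algebra k S] [AddCommGroup M] [Module R M] [Module k M] [IsScalarTower k R M]
    [AddCommGroup N] [Module S N] [Module k N] [IsScalarTower k S N] :
    R ⊗[k] S →+* Module.End k (M ⊗[k] N) where
  toFun := act k R S M N
  map_one' := act_one
  map_mul' := act_mul
  map_zero' := map_zero _
  map_add' := map_add _

theorem act_self (x y : R ⊗[k] S) : act k R S R S x y = x * y := by
  induction x using TensorProduct.induction_on with
  | zero => simp
  | add a b ha hb => simp [add_mul, ha, hb]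
  | tmul r s =>
    induction y using TensorProduct.induction_on with
    | zero => simp
    | add a b ha hb => simp [mul_add, ha, hb]
    | tmul r' s' => simp [act_tmul]

end Groth.Misc15.Segre
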