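import Mathlib
import Groth.Prelude.Def_CAlg
import Groth.Agent.LocCohBase.CM
import Groth.Agent.Gorenstein.Basic

/-! Elements killed by a maximal ideal modulo a regular element. -/

set_option autoImplicit false

universe u

open IsLocalRing

namespace Groth.Misc15.Socle

/-- A Cohen-Macaulay ring has height at most one at a maximal ideal associated to a regular
element. -/
theorem height_le_one_of_socle {T : Type u} [CommRing T] [LocCoh.IsCohenMacaulayRing T]
    (m : Ideal T) [m.IsMaximal] {t a : T} (ht : t ∈ m) (hreg : t ∈ nonZeroDivisors T)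
    (hma : ∀ z ∈ m, z * a ∈ Ideal.span {t}) (ha : ∀ s, s * a ∈ Ideal.span {t} → s ∈ m) :
    m.height ≤ 1 := by
  haveI := LocCoh.IsCohenMacaulayRing.isCohenMacaulayLocalRing_localization (R := T) m
  let A := Localization.AtPrime m
  let ι := algebraMap T A
  have hA : LocCoh.IsCohenMacaulayModule A A := LocCoh.IsCohenMacaulayLocalRing.supportDim_eq_depth
  have htm : ι t ∈ maximalIdeal A := (IsLocalization.AtPrime.to_map_mem_maximal_iff A m t).2 ht
  have htr : IsSMulRegular A (ι t) := by
    refine isSMulRegular_iff_right_eq_zero_of_smul.2 fun y hy => ?_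
    obtain ⟨⟨b, s⟩, hb⟩ := IsLocalization.surj m.primeCompl y
    have : ι (t * b) = 0 := by rw [map_mul, ← hb, ← mul_assoc, ← smul_eq_mul (ι t) y, hy, zero_mul]
    obtain ⟨s', hs'⟩ := (IsLocalization.map_eq_zero_iff m.primeCompl A _).1 this
    have hb0 : (s' : T) * b = 0 := (mem_nonZeroDivisors_iff_right.1 hreg) _ (by
      rw [mul_assoc, mul_comm b t]; exact hs')
    have : ι b = 0 := (IsLocalization.map_eq_zero_iff m.primeCompl A _).2 ⟨s', hb0⟩
    rw [this] at hb
    exact (IsLocalization.map_units A s).mul_left_eq_zero.1 hb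
  have hM := Groth.LocCohBase.isCM_quotSMulTop hA htm htr
  let w : QuotSMulTop (ι t) A := Submodule.Quotient.mk (ι a)
  have hw : ∀ y : A, y • w = 0 ↔ y ∈ maximalIdeal A := by
    intro y
    rw [← Submodule.Quotient.mk_smul, Submodule.Quotient.mk_eq_zero,
      Submodule.mem_smul_pointwise_iff_exists]
    obtain ⟨⟨b, s⟩, hb⟩ := IsLocalization.surj m.primeCompl y
    constructor
    · rintro ⟨z, -, hz⟩
      by_contra hy
      obtain ⟨⟨c, s'⟩, hc⟩ := IsLocalization.surj m.primeCompl z
      have hbm : b ∉ m := fun hbm => by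
        have h1 := (IsLocalization.AtPrime.to_map_mem_maximal_iff A m b).2 hbm
        rw [← hb] at h1
        exact hy (((maximalIdeal.isMaximal A).isPrime.mem_or_mem h1).resolve_right fun h2 =>
          (IsLocalRing.mem_maximalIdeal _).1 h2 (IsLocalization.map_units A s))
      rw [smul_eq_mul, smul_eq_mul] at hz
      have : ι (b * a * s') = ι (t * c * s) := by
        simp only [map_mul]
        calc ι b * ι a * ι s' = (y * ι s) * ι a * ι s' := by rw [hb]
          _ = (y * ι a) * ι s * ι s' := by ring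
          _ = (ι t * z) * ι s * ι s' := by rw [hz]
          _ = ι t * (z * ι s') * ι s := by ring
          _ = _ := by rw [hc]
      obtain ⟨s'', hs''⟩ := (IsLocalization.eq_iff_exists m.primeCompl A).1 this
      have hmem : ((s'' : T) * b * s') * a ∈ Ideal.span {t} := Ideal.mem_span_singleton'.2
        ⟨(s'' : T) * c * s, by linear_combination -hs''⟩
      rcases (inferInstance : m.IsPrime).mem_or_mem (ha _ hmem) with h | h
      · exact ((inferInstance : m.IsPrime).mem_or_mem h).elim s''.2 hbm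
      · exact s'.2 h
    · intro hy
      have hb' : b ∈ m := (IsLocalization.AtPrime.to_map_mem_maximal_iff A m b).1
        (hb ▸ Ideal.mul_mem_right _ _ hy)
      obtain ⟨c, hc⟩ := Ideal.mem_span_singleton'.1 (hma b hb')
      obtain ⟨u, hu⟩ := IsLocalization.map_units A s
      refine ⟨ι c * ↑u⁻¹, trivial, ?_⟩
      rw [smul_eq_mul, smul_eq_mul]
      calc ι t * (ι c * ↑u⁻¹) = ι (c * t) * ↑u⁻¹ := by rw [map_mul]; ring
        _ = ι b * ι a * ↑u⁻¹ := by rw [hc, map_mul]
        _ = y * ι a * (↑u * ↑u⁻¹) := by rw [← hb, ← hu]; ring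
        _ = y * ι a := by rw [Units.mul_inv, mul_one]
  have hass : maximalIdeal A ∈ associatedPrimes A (QuotSMulTop (ι t) A) := by
    refine isAssociatedPrime_iff.2 ⟨inferInstance, w, Ideal.ext fun y => ?_⟩
    rw [Submodule.mem_colon_singleton, Submodule.mem_bot, hw]
  have h1 := Groth.LocCohBase.ringKrullDim_quotient_eq_of_CM hM hass
  letI := Ideal.Quotient.field (maximalIdeal A)
  rw [ringKrullDim_eq_zero_of_field] at h1
  have h2 := Module.supportDim_quotSMulTop_succ_eq_supportDim htr htm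
  rw [← h1, Module.supportDim_self_eq_ringKrullDim, IsLocalization.AtPrime.ringKrullDim_eq_height m A]
    at h2
  rw [zero_add] at h2
  exact le_of_eq (by exact_mod_cast h2.symm)

/-- In a Gorenstein ring the socle modulo a regular element is cyclic. -/
theorem exists_smul_of_socle {T : Type u} [CommRing T] [LocCoh.IsGorensteinRing T]
    (m : Ideal T) [m.IsMaximal] {t a b : T} (ht : t ∈ m) (hreg : t ∈ nonZeroDivisors T)
    (hma : ∀ z ∈ m, z * a ∈ Ideal.span {t}) (ha : ∀ s, s * a ∈ Ideal.span {t} → s ∈ m)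
    (hmb : ∀ z ∈ m, z * b ∈ Ideal.span {t}) :
    ∃ s r : T, s ∉ m ∧ s * b - r * a ∈ Ideal.span {t} := by
  haveI := LocCoh.IsGorensteinRing.isGorensteinLocalRing_localization (A := T) m
  let A := Localization.AtPrime m
  let ι := algebraMap T A
  have htm : ι t ∈ maximalIdeal A := (IsLocalization.AtPrime.to_map_mem_maximal_iff A m t).2 ht
  have htr : IsSMulRegular A (ι t) := by
    refine isSMulRegular_iff_right_eq_zero_of_smul.2 fun y hy => ?_
    obtain ⟨⟨b, s⟩, hb⟩ := IsLocalization.surj m.primeCompl y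
    have : ι (t * b) = 0 := by rw [map_mul, ← hb, ← mul_assoc, ← smul_eq_mul (ι t) y, hy, zero_mul]
    obtain ⟨s', hs'⟩ := (IsLocalization.map_eq_zero_iff m.primeCompl A _).1 this
    have hb0 : (s' : T) * b = 0 := (mem_nonZeroDivisors_iff_right.1 hreg) _ (by
      rw [mul_assoc, mul_comm b t]; exact hs')
    have : ι b = 0 := (IsLocalization.map_eq_zero_iff m.primeCompl A _).2 ⟨s', hb0⟩
    rw [this] at hb
    exact (IsLocalization.map_units A s).mul_left_eq_zero.1 hb
  let I : Ideal A := Ideal.span {ι t}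
  haveI : Nontrivial (A ⧸ I) := Ideal.Quotient.nontrivial_iff.2 fun h =>
    (maximalIdeal.isMaximal A).ne_top (top_le_iff.1 (h ▸ (Ideal.span_singleton_le_iff_mem _).2 htm))
  haveI : IsLocalRing (A ⧸ I) :=
    IsLocalRing.of_surjective' (Ideal.Quotient.mk I) Ideal.Quotient.mk_surjective
  let q : T →+* A ⧸ I := (Ideal.Quotient.mk I).comp ι
  have hq : ∀ {x : T}, x ∈ Ideal.span {t} → q x = 0 := fun {x} hx => by
    obtain ⟨c, rfl⟩ := Ideal.mem_span_singleton'.1 hx
    exact Ideal.Quotient.eq_zero_iff_mem.2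
      (by rw [map_mul]; exact I.mul_mem_left _ (Ideal.mem_span_singleton_self _))
  have hq' : ∀ {x : T}, q x = 0 → ∃ s ∉ m, s * x ∈ Ideal.span {t} := fun {x} hx => by
    obtain ⟨z, hz⟩ := Ideal.mem_span_singleton'.1 (Ideal.Quotient.eq_zero_iff_mem.1 hx)
    obtain ⟨⟨c, s⟩, hc⟩ := IsLocalization.surj m.primeCompl z
    have : ι (x * s) = ι (c * t) := by
      rw [map_mul, map_mul, ← hz, ← hc]; ring
    obtain ⟨s', hs'⟩ := (IsLocalization.eq_iff_exists m.primeCompl A).1 this
    exact ⟨(s' : T) * s, (m.primeCompl.mul_mem s'.2 s.2),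
      Ideal.mem_span_singleton'.2 ⟨(s' : T) * c, by linear_combination -hs'⟩⟩
  have hkill : ∀ {x : T}, (∀ z ∈ m, z * x ∈ Ideal.span {t}) →
      ∀ y ∈ maximalIdeal (A ⧸ I), y * q x = 0 := by
    intro x hx y hy
    obtain ⟨y, rfl⟩ := Ideal.Quotient.mk_surjective y
    obtain ⟨⟨c, s⟩, hc⟩ := IsLocalization.surj m.primeCompl y
    have hc' : c ∈ m := by
      by_contra h
      refine (IsLocalRing.mem_maximalIdeal _).1 hy ?_
      have h1 : IsUnit (y * ι s) := hc ▸ IsLocalization.map_units A (⟨c, h⟩ : m.primeCompl)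
      exact (isUnit_of_mul_isUnit_left h1).map _
    have h1 : Ideal.Quotient.mk I y * q x * q s = 0 := by
      have e : Ideal.Quotient.mk I y * q s = q c := by
        show _ = Ideal.Quotient.mk I (ι c)
        rw [show q s = Ideal.Quotient.mk I (ι s) from rfl, ← map_mul, hc]
      rw [mul_right_comm, e, ← map_mul]
      exact hq (hx c hc')
    exact ((IsLocalization.map_units A s).map (Ideal.Quotient.mk I)).mul_left_eq_zero.1 h1
  have hne : q a ≠ 0 := fun h => by
    obtain ⟨s, hs, hsa⟩ := hq' h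
    exact hs (ha s hsa)
  obtain ⟨d, hinj⟩ := (GrothGoren.exists_injLT_quotient_iff (hxm := htm) (hx := htr)).1
    ((GrothGoren.isGorenstein_iff A).1 (inferInstanceAs (LocCoh.IsGorensteinLocalRing A)))
  have hnoreg : ∀ y ∈ maximalIdeal (A ⧸ I), ¬ IsSMulRegular (A ⧸ I) y := fun y hy hr => hne (hr (by
    show y • q a = y • (0 : A ⧸ I)
    rw [smul_zero, smul_eq_mul, hkill hma y hy]))
  have hI : Module.Injective (A ⧸ I) (A ⧸ I) := by
    exact GrothGoren.injective_self_of_injLT hnoreg d (GrothGoren.injLT_mono (Nat.le_succ d) hinj)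
  have H : ∀ c : A ⧸ I, c • q a = 0 → c • q b = 0 := fun c hc => by
    refine hkill hmb c ((IsLocalRing.mem_maximalIdeal c).2 fun hu => hne ?_)
    exact hu.mul_right_eq_zero.1 hc
  let g := LinearPMap.mkSpanSingleton' (R := A ⧸ I) (σ := RingHom.id (A ⧸ I)) (q a) (q b) H
  obtain ⟨G, hG⟩ := (Module.Baer.of_injective hI) g.domain g.toFun
  have hGa : G (q a) = q b := by
    rw [hG (q a) (Submodule.mem_span_singleton_self _)]
    exact LinearPMap.mkSpanSingleton'_apply_self _ _ H _
  obtain ⟨z, hz⟩ := Ideal.Quotient.mk_surjective (G 1)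
  obtain ⟨⟨r, s⟩, hr⟩ := IsLocalization.surj m.primeCompl z
  have : q ((s : T) * b - r * a) = 0 := by
    rw [map_sub, map_mul, map_mul, ← hGa, show q r = Ideal.Quotient.mk I z * q s by
      show Ideal.Quotient.mk I (ι r) = _ * Ideal.Quotient.mk I (ι s)
      rw [← map_mul, hr]]
    rw [show G (q a) = q a * G 1 by rw [← smul_eq_mul, ← map_smul, smul_eq_mul, mul_one], ← hz]
    ring
  obtain ⟨s', hs', h⟩ := hq' this
  exact ⟨s' * s, s' * r, fun h' => ((inferInstance : m.IsPrime).mem_or_mem h').elim hs' s.2, by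
    rwa [mul_sub, ← mul_assoc, ← mul_assoc] at h⟩

end Groth.Misc15.Socle
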