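import Mathlib
import Groth.Agent.Misc15.GrCurve
import Groth.Agent.Misc15.Socle

/-! Segre products with a one-dimensional standard graded factor. -/

set_option autoImplicit false

universe u

open scoped TensorProduct
open DirectSum

namespace Groth.Misc15.SegreDimOne

open GrCurve

variable {k : Type u} [Field k] {R : Type u} [CommRing R] [Algebra k R] (𝒜 : ℤ → Submodule k R)
  [GradedAlgebra 𝒜]
variable {S : Type u} [CommRing S] [Algebra k S] (ℬ : ℤ → Submodule k S) [GradedAlgebra ℬ]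
variable {T : Type u} [CommRing T] [Algebra k T] (𝒯 : ℤ → Submodule k T) [GradedAlgebra 𝒯]
variable (ψ : T →ₐ[k] R ⊗[k] S) (hψ : Function.Injective ψ)
  (hdeg : ∀ n : ℤ, (𝒯 n).map ψ.toLinearMap =
    Submodule.span k {x : R ⊗[k] S | ∃ a ∈ 𝒜 n, ∃ b ∈ ℬ n, x = a ⊗ₜ[k] b})

include hdeg in
theorem exists_tt {n : ℤ} {a : R} (ha : a ∈ 𝒜 n) {b : S} (hb : b ∈ ℬ n) :
    ∃ t ∈ 𝒯 n, ψ t = a ⊗ₜ b := by
  have : a ⊗ₜ[k] b ∈ (𝒯 n).map ψ.toLinearMap := by
    rw [hdeg]; exact Submodule.subset_span ⟨a, ha, b, hb, rfl⟩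
  obtain ⟨t, ht, hψt⟩ := this
  exact ⟨t, ht, hψt⟩

include hψ hdeg in
theorem t_pos (hpos : ∀ n : ℤ, n < 0 → 𝒜 n = ⊥) (n : ℤ) (hn : n < 0) : 𝒯 n = ⊥ := by
  refine (Submodule.map_injective_of_injective (f := ψ.toLinearMap) hψ) ?_
  rw [hdeg, Submodule.map_bot, Submodule.span_eq_bot]
  rintro _ ⟨a, ha, b, -, rfl⟩
  rw [eq_zero_of_mem_neg 𝒜 hpos hn ha, TensorProduct.zero_tmul]

include hψ hdeg in
theorem t_zero (h0 : 𝒜 0 = Submodule.span k {(1 : R)}) (h0' : ℬ 0 = Submodule.span k {(1 : S)}) :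
    𝒯 0 = Submodule.span k {(1 : T)} := by
  refine (Submodule.map_injective_of_injective (f := ψ.toLinearMap) hψ) ?_
  rw [hdeg, Submodule.map_span, Set.image_singleton, AlgHom.toLinearMap_apply, map_one,
    Algebra.TensorProduct.one_def]
  refine le_antisymm (Submodule.span_le.2 ?_) (Submodule.span_mono (Set.singleton_subset_iff.2
    ⟨1, SetLike.GradedOne.one_mem, 1, SetLike.GradedOne.one_mem, rfl⟩))
  rintro _ ⟨a, ha, b, hb, rfl⟩
  rw [h0, Submodule.mem_span_singleton] at ha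
  rw [h0', Submodule.mem_span_singleton] at hb
  obtain ⟨c, rfl⟩ := ha; obtain ⟨d, rfl⟩ := hb
  rw [TensorProduct.smul_tmul_smul]
  exact Submodule.smul_mem _ _ (Submodule.subset_span rfl)

omit [GradedAlgebra 𝒜] [GradedAlgebra ℬ] in
theorem tmul_mem_nonZeroDivisors {x : R} {y : S} (hx : x ∈ nonZeroDivisors R)
    (hy : y ∈ nonZeroDivisors S) : x ⊗ₜ[k] y ∈ nonZeroDivisors (R ⊗[k] S) := by
  refine mem_nonZeroDivisors_iff_right.2 fun z hz => ?_
  have hinj : Function.Injective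
      (TensorProduct.map (LinearMap.mulLeft k x) (LinearMap.mulLeft k y)) := by
    rw [← LinearMap.rTensor_comp_lTensor, LinearMap.coe_comp]
    refine (Module.Flat.rTensor_preserves_injective_linearMap _ ?_).comp
      (Module.Flat.lTensor_preserves_injective_linearMap _ ?_)
    · exact fun a b h => (mul_cancel_left_mem_nonZeroDivisors hx).1 h
    · exact fun a b h => (mul_cancel_left_mem_nonZeroDivisors hy).1 h
  refine hinj ?_
  rw [map_zero]
  refine Eq.trans ?_ hz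
  rw [mul_comm]
  clear hz
  induction z using TensorProduct.induction_on with
  | zero => simp
  | tmul a b => simp [Algebra.TensorProduct.tmul_mul_tmul]
  | add a b ha hb => simp [mul_add, ha, hb]

omit [GradedAlgebra 𝒜] [GradedAlgebra ℬ] in
/-- `u ⊗ w` is not a multiple of `x ⊗ y` when `u` is not a multiple of `x`. -/
theorem eq_zero_of_tmul_mem {x u : R} {y w : S} (hu : u ∉ Ideal.span {x})
    (h : u ⊗ₜ[k] w ∈ Ideal.span {x ⊗ₜ[k] y}) : w = 0 := by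
  obtain ⟨z, hz⟩ := Ideal.mem_span_singleton'.1 h
  let π : R ⊗[k] S →ₐ[k] (R ⧸ Ideal.span {x}) ⊗[k] S :=
    Algebra.TensorProduct.map (Ideal.Quotient.mkₐ k _) (AlgHom.id k S)
  have h1 : π (u ⊗ₜ[k] w) = 0 := by
    rw [← hz, map_mul]
    simp [π, Ideal.Quotient.eq_zero_iff_mem.2 (Ideal.mem_span_singleton_self x)]
  simp only [π, Algebra.TensorProduct.map_tmul, AlgHom.id_apply] at h1
  have hu' : Ideal.Quotient.mkₐ k (Ideal.span {x}) u ≠ 0 := fun h' =>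
    hu (Ideal.Quotient.eq_zero_iff_mem.1 h')
  obtain ⟨g, hg⟩ : ∃ g : Module.Dual k (R ⧸ Ideal.span {x}),
      g (Ideal.Quotient.mkₐ k (Ideal.span {x}) u) ≠ 0 := by
    by_contra! hall
    exact hu' ((Module.forall_dual_apply_eq_zero_iff k _).1 hall)
  have h2 := congrArg (fun z => TensorProduct.lid k S (LinearMap.rTensor S g z)) h1
  simp only [LinearMap.rTensor_tmul, TensorProduct.lid_tmul, map_zero, smul_eq_zero] at h2
  exact h2.resolve_left hg

variable (hpos : ∀ n : ℤ, n < 0 → 𝒜 n = ⊥)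

include hψ hdeg hpos in
/-- The socle elements modulo `x ⊗ y`. -/
theorem kills {e : ℕ} {x : R} (hx : x ∈ 𝒜 e) {y : S} (hy : y ∈ ℬ e) {t : T} (ht : ψ t = x ⊗ₜ y)
    {n : ℕ} {u : R} (hu : u ∈ 𝒜 n)
    (hukill : ∀ j : ℕ, n < j → ∀ a ∈ 𝒜 j, a ∈ Ideal.span {x}) {z : S} (hz : z ∈ ℬ n)
    (hzkill : ∀ (j : ℕ), 0 < j → ∀ b ∈ ℬ j, z * b ∈ Ideal.span {y}) {a : T} (ha : ψ a = u ⊗ₜ z) :
    ∀ r ∈ irr 𝒯 (t_pos 𝒜 ℬ 𝒯 ψ hψ hdeg hpos), r * a ∈ Ideal.span {t} := by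
  classical
  intro r hr
  rw [← sum_support_decompose 𝒯 r, Finset.sum_mul]
  refine Ideal.sum_mem _ fun i _ => ?_
  rcases lt_trichotomy i 0 with hi | hi | hi
  · rw [decompose_neg 𝒯 (t_pos 𝒜 ℬ 𝒯 ψ hψ hdeg hpos) hi, zero_mul]; exact zero_mem _
  · subst hi
    rw [(mem_irr 𝒯 _).1 hr, zero_mul]; exact zero_mem _
  obtain ⟨j, rfl⟩ : ∃ j : ℕ, i = j := ⟨i.toNat, (Int.toNat_of_nonneg hi.le).symm⟩
  have key : ∀ w ∈ (𝒯 (j : ℤ)).map ψ.toLinearMap, ∃ c : T, w * (u ⊗ₜ[k] z) = ψ (c * t) := by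
    intro w hw
    rw [hdeg] at hw
    induction hw using Submodule.span_induction with
    | zero => exact ⟨0, by simp⟩
    | add p q _ _ hp hq =>
      obtain ⟨c, hc⟩ := hp; obtain ⟨d, hd⟩ := hq
      exact ⟨c + d, by rw [add_mul, hc, hd, add_mul, map_add]⟩
    | smul l p _ hp =>
      obtain ⟨c, hc⟩ := hp
      exact ⟨l • c, by rw [smul_mul_assoc, hc, smul_mul_assoc, map_smul]⟩
    | mem w hw =>
      obtain ⟨p, hp, q, hq, rfl⟩ := hw
      have hpu : p * u ∈ 𝒜 ((j + n : ℕ) : ℤ) := by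
        rw [Nat.cast_add]; exact SetLike.mul_mem_graded hp hu
      obtain ⟨p', hp', hpp⟩ := exists_mem_of_mul_mem hx hpu
        (hukill (j + n) (by have : 0 < j := by exact_mod_cast hi
                            omega) _ hpu)
      obtain ⟨q', hq', hqq⟩ := exists_mem_of_mul_mem hy
        (show z * q ∈ ℬ ((j + n : ℕ) : ℤ) by
          rw [Nat.cast_add, add_comm]; exact SetLike.mul_mem_graded hz hq)
        (hzkill j (by exact_mod_cast hi) q hq)
      obtain ⟨c, -, hc⟩ := exists_tt 𝒜 ℬ 𝒯 ψ hdeg hp' hq'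
      refine ⟨c, ?_⟩
      rw [map_mul, hc, ht, Algebra.TensorProduct.tmul_mul_tmul, Algebra.TensorProduct.tmul_mul_tmul,
        hpp, mul_comm q, hqq, mul_comm p', mul_comm q']
  obtain ⟨c, hc⟩ := key _ (Submodule.mem_map_of_mem (decompose 𝒯 r j).2)
  refine Ideal.mem_span_singleton'.2 ⟨c, hψ ?_⟩
  rw [← hc, map_mul, ha]
  rfl

include hψ hdeg hpos in
theorem detect (h0 : 𝒜 0 = Submodule.span k {(1 : R)}) (h0' : ℬ 0 = Submodule.span k {(1 : S)})
    {x : R} {y : S} {t : T} (ht : ψ t = x ⊗ₜ y) {u : R}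
    (hux : u ∉ Ideal.span {x}) {z : S} (hz0 : z ≠ 0) {a : T} (ha : ψ a = u ⊗ₜ z)
    (hkill : ∀ r ∈ irr 𝒯 (t_pos 𝒜 ℬ 𝒯 ψ hψ hdeg hpos), r * a ∈ Ideal.span {t}) :
    ∀ s, s * a ∈ Ideal.span {t} → s ∈ irr 𝒯 (t_pos 𝒜 ℬ 𝒯 ψ hψ hdeg hpos) := by
  intro s hs
  obtain ⟨c, hc⟩ := exists_scalar 𝒯 _ (t_zero 𝒜 ℬ 𝒯 ψ hψ hdeg h0 h0') s
  by_contra hs'
  have hc0 : c ≠ 0 := fun h => hs' (by simpa [h] using hc)
  have h2 : algebraMap k T c * a ∈ Ideal.span {t} := by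
    have := Ideal.sub_mem _ hs (hkill _ hc)
    rwa [← sub_mul, sub_sub_cancel] at this
  have h3 : a ∈ Ideal.span {t} := by
    have := Ideal.mul_mem_left _ (algebraMap k T c⁻¹) h2
    rwa [← mul_assoc, ← map_mul, inv_mul_cancel₀ hc0, map_one, one_mul] at this
  obtain ⟨d, hd⟩ := Ideal.mem_span_singleton'.1 h3
  refine hz0 (eq_zero_of_tmul_mem (x := x) (y := y) hux
    (Ideal.mem_span_singleton'.2 ⟨ψ d, ?_⟩))
  rw [← ha, ← hd, map_mul, ht]

include hψ hdeg hpos in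
/-- If `R = k[x]` then `T = S`. -/
theorem nonempty_equiv (h0 : 𝒜 0 = Submodule.span k {(1 : R)})
    (hposS : ∀ n : ℤ, n < 0 → ℬ n = ⊥)
    (hstdR : Ideal.span (⋃ n ∈ Set.Ioi (0 : ℤ), (𝒜 n : Set R)) =
      Ideal.span ((𝒜 1 : Submodule k R) : Set R))
    (e : R ≃ₐ[k] Polynomial k) :
    Nonempty (T ≃ₐ[k] S) := by
  classical
  haveI : IsDomain R := e.toRingEquiv.toMulEquiv.isDomain
  obtain ⟨x, hx, hle⟩ := exists_span_of_equiv 𝒜 hpos hstdR e h0
  have hx0 : x ≠ 0 := by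
    rintro rfl
    have h1 : ∀ p : R, p ∈ 𝒜 0 := fun p => by
      induction p using DirectSum.Decomposition.inductionOn 𝒜 with
      | zero => exact zero_mem _
      | add a b ha hb => exact add_mem ha hb
      | @homogeneous i a =>
        rcases lt_trichotomy i 0 with hi | rfl | hi
        · rw [eq_zero_of_mem_neg 𝒜 hpos hi a.2]; exact zero_mem _
        · exact a.2
        · have : (a : R) ∈ 𝒜 ((1 * i.toNat : ℕ) : ℤ) := by
            rw [one_mul, Int.toNat_of_nonneg hi.le]; exact a.2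
          have h2 := le_span_pow 𝒜 h0 hstdR (c := 1) (z := (0 : R)) (by simpa using hle) i.toNat this
          rw [zero_pow (by omega), Submodule.span_zero_singleton, Submodule.mem_bot] at h2
          rw [h2]; exact zero_mem _
    obtain ⟨c, hc⟩ := Submodule.mem_span_singleton.1 (h0 ▸ h1 (e.symm Polynomial.X))
    have h3 := congrArg e hc
    rw [map_smul, map_one, AlgEquiv.apply_symm_apply, Algebra.smul_def, mul_one] at h3
    exact Polynomial.X_ne_C c h3.symm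
  have hb : Function.Bijective (Polynomial.aeval x : Polynomial k →ₐ[k] R) := by
    refine ⟨?_, ?_⟩
    · rw [← transcendental_iff_injective]
      intro halg
      have hx' : IsAlgebraic k (e x) := halg.algHom e.toAlgHom
      obtain ⟨c, hc⟩ : ∃ c : k, e x = Polynomial.C c :=
        ⟨_, Polynomial.eq_C_of_natDegree_eq_zero (by
          by_contra hd
          exact (Polynomial.transcendental _ hd (mem_nonZeroDivisors_of_ne_zero (Polynomial.leadingCoeff_ne_zero.2 fun h => hd (by rw [h, Polynomial.natDegree_zero])))) hx')⟩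
      have hxc : x = algebraMap k R c := by
        apply e.injective; rw [AlgEquiv.commutes, hc]; rfl
      have h2 : algebraMap k R c ∈ 𝒜 0 := by
        rw [h0, Algebra.algebraMap_eq_smul_one]; exact Submodule.smul_mem _ c (Submodule.subset_span rfl)
      have h3 := decompose_of_mem_same 𝒜 hx
      rw [hxc, decompose_of_mem_ne 𝒜 h2 (by norm_num : (0 : ℤ) ≠ 1)] at h3
      exact hx0 (hxc.trans h3.symm)
    · intro a
      induction a using DirectSum.Decomposition.inductionOn 𝒜 with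
      | zero => exact ⟨0, map_zero _⟩
      | add a b ha hb =>
        obtain ⟨p, hp⟩ := ha; obtain ⟨q, hq⟩ := hb
        exact ⟨p + q, by rw [map_add, hp, hq]⟩
      | @homogeneous i a =>
        rcases lt_or_ge i 0 with hi | hi
        · exact ⟨0, by rw [map_zero, eq_zero_of_mem_neg 𝒜 hpos hi a.2]⟩
        · have : (a : R) ∈ 𝒜 ((1 * i.toNat : ℕ) : ℤ) := by
            rw [one_mul, Int.toNat_of_nonneg hi]; exact a.2
          obtain ⟨c, hc⟩ := Submodule.mem_span_singleton.1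
            (le_span_pow 𝒜 h0 hstdR (c := 1) (z := x) (by simpa using hle) i.toNat this)
          exact ⟨Polynomial.C c * Polynomial.X ^ i.toNat, by simp [← hc, Algebra.smul_def]⟩
  let E := (AlgEquiv.ofBijective (Polynomial.aeval x : Polynomial k →ₐ[k] R) hb).symm
  let ε : R →ₐ[k] k := (Polynomial.aeval (1 : k)).comp E.toAlgHom
  have hεx : ε x = 1 := by
    have : E x = Polynomial.X := by
      rw [AlgEquiv.symm_apply_eq]
      simp
    simp [ε, this]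
  let θ : T →ₐ[k] S :=
    (Algebra.TensorProduct.lid k S).toAlgHom.comp
      ((Algebra.TensorProduct.map ε (AlgHom.id k S)).comp ψ)
  have hmon : ∀ (i : ℕ) (q : S), q ∈ ℬ i → ∀ t' : T, ψ t' = (x ^ i) ⊗ₜ q → θ t' = q := by
    intro i q _ t' ht'
    simp [θ, ht', hεx]
  have hhom : ∀ (i : ℕ) (t' : T), t' ∈ 𝒯 i → ∃ q ∈ ℬ i, ψ t' = (x ^ i) ⊗ₜ q := by
    intro i t' ht'
    have h2 : ψ t' ∈ (𝒯 (i : ℤ)).map ψ.toLinearMap := Submodule.mem_map_of_mem ht'
    rw [hdeg] at h2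
    generalize ψ t' = w at h2 ⊢
    induction h2 using Submodule.span_induction with
    | zero => exact ⟨0, zero_mem _, (TensorProduct.tmul_zero _ _).symm⟩
    | add p q _ _ hp hq =>
      obtain ⟨a, ha, rfl⟩ := hp; obtain ⟨b, hb, rfl⟩ := hq
      exact ⟨a + b, add_mem ha hb, (TensorProduct.tmul_add _ _ _).symm⟩
    | smul l p _ hp =>
      obtain ⟨a, ha, rfl⟩ := hp
      exact ⟨l • a, Submodule.smul_mem _ l ha, (TensorProduct.tmul_smul l _ _).symm⟩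
    | mem w hw =>
      obtain ⟨p, hp, q, hq, rfl⟩ := hw
      rw [show (i : ℤ) = ((1 * i : ℕ) : ℤ) by simp] at hp
      obtain ⟨c, rfl⟩ := Submodule.mem_span_singleton.1
        (le_span_pow 𝒜 h0 hstdR (c := 1) (z := x) (by simpa using hle) i hp)
      exact ⟨c • q, Submodule.smul_mem _ c hq, TensorProduct.smul_tmul c _ _⟩
  have hθdeg : ∀ (i : ℤ) (t' : T), t' ∈ 𝒯 i → θ t' ∈ ℬ i ∧ (θ t' = 0 → t' = 0) := by
    intro i t' ht'
    rcases lt_or_ge i 0 with hi | hi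
    · rw [eq_zero_of_mem_neg 𝒯 (t_pos 𝒜 ℬ 𝒯 ψ hψ hdeg hpos) hi ht', map_zero]
      exact ⟨zero_mem _, fun _ => rfl⟩
    · obtain ⟨j, rfl⟩ : ∃ j : ℕ, i = j := ⟨i.toNat, (Int.toNat_of_nonneg hi).symm⟩
      obtain ⟨q, hq, hψq⟩ := hhom j t' ht'
      rw [hmon j q hq t' hψq]
      exact ⟨hq, fun h => hψ (by rw [hψq, h, TensorProduct.tmul_zero, map_zero])⟩
  refine ⟨AlgEquiv.ofBijective θ ⟨?_, ?_⟩⟩
  · have hcomm : ∀ (t' : T) (i : ℤ), (decompose ℬ (θ t') i : S) = θ (decompose 𝒯 t' i) := by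
      intro t' i
      induction t' using DirectSum.Decomposition.inductionOn 𝒯 with
      | zero => simp
      | add a b ha hb => simp [ha, hb]
      | @homogeneous l a =>
        rcases eq_or_ne l i with rfl | hne
        · rw [decompose_of_mem_same ℬ (hθdeg l a a.2).1, decompose_of_mem_same 𝒯 a.2]
        · rw [decompose_of_mem_ne ℬ (hθdeg l a a.2).1 hne, decompose_of_mem_ne 𝒯 a.2 hne, map_zero]
    rw [injective_iff_map_eq_zero]
    intro t' ht'
    rw [← sum_support_decompose 𝒯 t']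
    refine Finset.sum_eq_zero fun i _ => (hθdeg i _ (decompose 𝒯 t' i).2).2 ?_
    rw [← hcomm, ht']; simp
  · intro q
    induction q using DirectSum.Decomposition.inductionOn ℬ with
    | zero => exact ⟨0, map_zero _⟩
    | add a b ha hb =>
      obtain ⟨p, hp⟩ := ha; obtain ⟨q, hq⟩ := hb
      exact ⟨p + q, by rw [map_add, hp, hq]⟩
    | @homogeneous i a =>
      rcases lt_or_ge i 0 with hi | hi
      · exact ⟨0, by rw [map_zero, eq_zero_of_mem_neg ℬ hposS hi a.2]⟩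
      · obtain ⟨j, rfl⟩ : ∃ j : ℕ, i = j := ⟨i.toNat, (Int.toNat_of_nonneg hi).symm⟩
        have hxj : x ^ j ∈ 𝒜 (j : ℤ) := by simpa using SetLike.pow_mem_graded j hx
        obtain ⟨t', -, ht'⟩ := exists_tt 𝒜 ℬ 𝒯 ψ hdeg hxj a.2
        exact ⟨t', hmon j a a.2 t' ht'⟩

include hψ hdeg hpos in
/-- Two standard graded curves, neither of which is a line, never have Gorenstein Segre product. -/
theorem false_of_gorenstein [Algebra.FiniteType k S] [LocCoh.IsGorensteinRing T] [Nontrivial R]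
    [Nontrivial S] (h0 : 𝒜 0 = Submodule.span k {(1 : R)})
    (hposS : ∀ n : ℤ, n < 0 → ℬ n = ⊥) (h0' : ℬ 0 = Submodule.span k {(1 : S)})
    (hstdS : Ideal.span (⋃ n ∈ Set.Ioi (0 : ℤ), (ℬ n : Set S)) =
      Ideal.span ((ℬ 1 : Submodule k S) : Set S))
    (honeS : ∀ z ∈ ℬ 1, ¬ ℬ 1 ≤ Submodule.span k {z})
    {e : ℕ} (he : 0 < e) {x : R} (hx : x ∈ 𝒜 e) (hxr : x ∈ nonZeroDivisors R)
    {y : S} (hy : y ∈ ℬ e) (hyr : y ∈ nonZeroDivisors S)
    {n : ℕ} {u : R} (hn : 0 < n) (hu : u ∈ 𝒜 n) (hux : u ∉ Ideal.span {x})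
    (hukill : ∀ j : ℕ, n < j → ∀ a ∈ 𝒜 j, a ∈ Ideal.span {x})
    (hzkill : ∀ j : ℕ, n < j → ∀ b ∈ ℬ j, b ∈ Ideal.span {y}) : False := by
  classical
  haveI : Nontrivial (R ⊗[k] S) :=
    (Algebra.TensorProduct.includeLeft_injective (S := k) (algebraMap k S).injective).nontrivial
  haveI : Nontrivial T := ψ.toRingHom.domain_nontrivial
  have h0T := t_zero 𝒜 ℬ 𝒯 ψ hψ hdeg h0 h0'
  haveI := irr_isMaximal 𝒯 (t_pos 𝒜 ℬ 𝒯 ψ hψ hdeg hpos) h0T
  obtain ⟨t, htm, ht⟩ := exists_tt 𝒜 ℬ 𝒯 ψ hdeg hx hy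
  have htreg : t ∈ nonZeroDivisors T :=
    mem_nonZeroDivisors_of_injective hψ (ht ▸ tmul_mem_nonZeroDivisors hxr hyr)
  obtain ⟨z1, hz1, hz10⟩ := exists_ne_zero ℬ hposS h0' hstdS he hy hyr n
  obtain ⟨z2, hz2, hz21⟩ := SetLike.not_le_iff_exists.1
    (not_le_span ℬ hposS h0' hstdS he hy hyr honeS n hn z1)
  have hzk : ∀ z ∈ ℬ (n : ℤ), ∀ j : ℕ, 0 < j → ∀ b ∈ ℬ (j : ℤ), z * b ∈ Ideal.span {y} :=
    fun z hz j hj b hb => hzkill (n + j) (by omega) _ (by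
      rw [Nat.cast_add]; exact SetLike.mul_mem_graded hz hb)
  obtain ⟨a1, -, ha1⟩ := exists_tt 𝒜 ℬ 𝒯 ψ hdeg hu hz1
  obtain ⟨a2, -, ha2⟩ := exists_tt 𝒜 ℬ 𝒯 ψ hdeg hu hz2
  have hk1 := kills 𝒜 ℬ 𝒯 ψ hψ hdeg hpos hx hy ht hu hukill hz1 (hzk z1 hz1) ha1
  have hk2 := kills 𝒜 ℬ 𝒯 ψ hψ hdeg hpos hx hy ht hu hukill hz2 (hzk z2 hz2) ha2
  obtain ⟨s, r, hs, hsr⟩ := Socle.exists_smul_of_socle _ (mem_irr_of_mem 𝒯 _ htm (by exact_mod_cast he))
    htreg hk1 (detect 𝒜 ℬ 𝒯 ψ hψ hdeg hpos h0 h0' ht hux hz10 ha1 hk1) hk2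
  obtain ⟨c, hc⟩ := exists_scalar 𝒯 (t_pos 𝒜 ℬ 𝒯 ψ hψ hdeg hpos) h0T s
  obtain ⟨d, hd⟩ := exists_scalar 𝒯 (t_pos 𝒜 ℬ 𝒯 ψ hψ hdeg hpos) h0T r
  have hc0 : c ≠ 0 := fun h => hs (by simpa [h] using hc)
  have h : c • a2 - d • a1 ∈ Ideal.span {t} := by
    have h' := Ideal.add_mem _ (Ideal.sub_mem _ hsr (hk2 _ hc)) (hk1 _ hd)
    rw [Algebra.smul_def, Algebra.smul_def]
    convert h' using 1
    ring
  obtain ⟨w, hw⟩ := Ideal.mem_span_singleton'.1 h
  have h2 : c • z2 - d • z1 = 0 := by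
    refine eq_zero_of_tmul_mem (x := x) (y := y) hux (Ideal.mem_span_singleton'.2 ⟨ψ w, ?_⟩)
    rw [← ht, ← map_mul, hw, map_sub, map_smul, map_smul, ha1, ha2, TensorProduct.tmul_sub,
      TensorProduct.tmul_smul, TensorProduct.tmul_smul]
  refine hz21 (Submodule.mem_span_singleton.2 ⟨c⁻¹ * d, ?_⟩)
  rw [← smul_smul, ← sub_eq_zero.1 h2, inv_smul_smul₀ hc0]

end Groth.Misc15.SegreDimOne
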