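import Mathlib
import Groth.Agent.Misc15.Segre
import Groth.Agent.Misc15.SegreDimOne
import Groth.Agent.Misc15.GrCM
import Groth.Agent.Misc15.GrRegSeq
import Groth.Agent.S18646
import Groth.Agent.S18647

/-! The Cohen–Macaulay property of Segre products with a one-dimensional factor. -/

set_option autoImplicit false

universe u

open scoped TensorProduct
open DirectSum

namespace Groth.Misc15.SegreCMOne

open GrCurve

variable {k : Type u} [Field k] {R : Type u} [CommRing R] [Algebra k R] (𝒜 : ℤ → Submodule k R)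
  [GradedAlgebra 𝒜]
variable {S : Type u} [CommRing S] [Algebra k S] (ℬ : ℤ → Submodule k S) [GradedAlgebra ℬ]
variable {T : Type u} [CommRing T] [Algebra k T] (𝒯 : ℤ → Submodule k T) [GradedAlgebra 𝒯]
variable (ψ : T →ₐ[k] R ⊗[k] S) (hψ : Function.Injective ψ)
  (hdeg : ∀ n : ℤ, (𝒯 n).map ψ.toLinearMap =
    Submodule.span k {x : R ⊗[k] S | ∃ a ∈ 𝒜 n, ∃ b ∈ ℬ n, x = a ⊗ₜ[k] b})

omit [GradedAlgebra 𝒜] [GradedAlgebra ℬ] in
/-- `X ⊗ y` is regular modulo `R ⊗ I` when `X` is regular and `y` is regular modulo `I`. -/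
theorem mem_map_of_tmul_mul_mem {X : R} (hX : X ∈ nonZeroDivisors R) (J : Ideal S) {y : S}
    (hy : IsSMulRegular (S ⧸ J) y) {z : R ⊗[k] S}
    (hz : X ⊗ₜ[k] y * z ∈ J.map (Algebra.TensorProduct.includeRight : S →ₐ[k] R ⊗[k] S)) :
    z ∈ J.map (Algebra.TensorProduct.includeRight : S →ₐ[k] R ⊗[k] S) := by
  have hker : RingHom.ker (Algebra.TensorProduct.map (AlgHom.id k R) (Ideal.Quotient.mkₐ k J)) =
      J.map (Algebra.TensorProduct.includeRight : S →ₐ[k] R ⊗[k] S) := by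
    rw [Algebra.TensorProduct.lTensor_ker _ (Ideal.Quotient.mkₐ_surjective k J)]
    congr 1
    exact Ideal.mk_ker
  rw [← hker, RingHom.mem_ker] at hz ⊢
  have hinj : Function.Injective (TensorProduct.map (LinearMap.mulLeft k X)
      (LinearMap.mulLeft k (Ideal.Quotient.mkₐ k J y))) := by
    rw [← LinearMap.rTensor_comp_lTensor, LinearMap.coe_comp]
    refine (Module.Flat.rTensor_preserves_injective_linearMap _ ?_).comp
      (Module.Flat.lTensor_preserves_injective_linearMap _ ?_)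
    · exact fun a b h => (mul_cancel_left_mem_nonZeroDivisors hX).1 h
    · intro a b h
      exact hy (by simpa [Algebra.smul_def] using h)
  refine hinj ?_
  rw [map_zero]
  refine Eq.trans ?_ hz
  clear hz
  induction z using TensorProduct.induction_on with
  | zero => simp
  | tmul a b => simp [Algebra.TensorProduct.tmul_mul_tmul]
  | add a b ha hb => simp only [mul_add, map_add, ha, hb]

include hdeg in
theorem diag_apply (a : T) : Segre.diag 𝒜 ℬ 𝒜 ℬ (ψ a) = ψ a := by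
  induction a using DirectSum.Decomposition.inductionOn 𝒯 with
  | zero => simp
  | add a b ha hb => simp [ha, hb]
  | @homogeneous g a =>
    have : ψ (a : T) ∈ (𝒯 g).map ψ.toLinearMap := Submodule.mem_map_of_mem a.2
    rw [hdeg] at this
    generalize ψ (a : T) = w at this ⊢
    induction this using Submodule.span_induction with
    | mem z hz =>
      obtain ⟨p, hp, q, hq, rfl⟩ := hz
      rw [Segre.diag_tmul 𝒜 ℬ 𝒜 ℬ hp hq, if_pos rfl]
    | zero => simp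
    | add p q _ _ hp hq => rw [map_add, hp, hq]
    | smul c p _ hp => rw [map_smul, hp]

variable {e : ℕ} {x : R}

include hdeg in
/-- The degree diagonal part of `R ⊗ (y₁, …, yⱼ)` lies in `(x ^ dⱼ ⊗ yⱼ)`. -/
theorem diag_mem (hx : x ∈ 𝒜 e)
    (hC : ∀ h : ℤ, ℬ h ≠ ⊥ → ∀ (N : ℕ) (r : R), r ∈ 𝒜 (h + ((N * e : ℕ) : ℤ)) →
      r ∈ Ideal.span {x ^ N})
    (τ : ℕ × S → T) (L : List (ℕ × S))
    (hL : ∀ p ∈ L, p.2 ∈ ℬ ((e * p.1 : ℕ) : ℤ) ∧ ψ (τ p) = (x ^ p.1) ⊗ₜ p.2)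
    {z : R ⊗[k] S} (hz : z ∈ (Ideal.ofList (L.map Prod.snd)).map
      (Algebra.TensorProduct.includeRight : S →ₐ[k] R ⊗[k] S)) :
    ∃ c ∈ Ideal.ofList (L.map τ), ψ c = Segre.diag 𝒜 ℬ 𝒜 ℬ z := by
  let K : Submodule k (R ⊗[k] S) :=
    ((Ideal.ofList (L.map τ)).restrictScalars k).map ψ.toLinearMap
  suffices H : ∀ b, Segre.diag 𝒜 ℬ 𝒜 ℬ (z * b) ∈ K by
    obtain ⟨c, hc, hcz⟩ := H 1
    exact ⟨c, hc, hcz.trans (by rw [mul_one])⟩
  rw [Ideal.map] at hz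
  induction hz using Submodule.span_induction with
  | zero => intro b; simp
  | add p q _ _ hp hq => intro b; rw [add_mul, map_add]; exact add_mem (hp b) (hq b)
  | smul c p _ hp => intro b; rw [smul_eq_mul, mul_comm c, mul_assoc]; exact hp _
  | mem w hw =>
    obtain ⟨s, hs, rfl⟩ := hw
    change s ∈ Ideal.ofList (L.map Prod.snd) at hs
    induction hs using Submodule.span_induction with
    | zero => intro b; simp
    | add p q _ _ hp hq => intro b; rw [map_add, add_mul, map_add]; exact add_mem (hp b) (hq b)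
    | smul c p _ hp =>
      intro b
      rw [smul_eq_mul, mul_comm c p,
        map_mul (Algebra.TensorProduct.includeRight : S →ₐ[k] R ⊗[k] S) p c, mul_assoc]
      exact hp _
    | mem w hw =>
      obtain ⟨p, hp, rfl⟩ := List.mem_map.1 hw
      obtain ⟨hy, hτ⟩ := hL p hp
      intro b
      induction b using Segre.induction_homogeneous 𝒜 ℬ with
      | h0 => simp
      | hadd a b ha hb => rw [mul_add, map_add]; exact add_mem ha hb
      | h g h a ha q hq =>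
        rw [Algebra.TensorProduct.includeRight_apply, Algebra.TensorProduct.tmul_mul_tmul, one_mul,
          Segre.diag_tmul 𝒜 ℬ 𝒜 ℬ ha (SetLike.mul_mem_graded hy hq)]
        split
        · next hg =>
          by_cases hq0 : q = 0
          · simp [hq0]
          have hne : ℬ h ≠ ⊥ := fun he => hq0 (by rwa [he, Submodule.mem_bot] at hq)
          have ha' : a ∈ 𝒜 (h + ((p.1 * e : ℕ) : ℤ)) := by
            rw [mul_comm p.1, add_comm]; exact hg ▸ ha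
          have hxd : x ^ p.1 ∈ 𝒜 ((p.1 * e : ℕ) : ℤ) := by
            have := SetLike.pow_mem_graded p.1 hx
            rwa [nsmul_eq_mul, ← Nat.cast_mul] at this
          obtain ⟨a', ha'm, rfl⟩ := exists_mem_of_mul_mem hxd ha' (hC h hne p.1 a ha')
          rw [add_sub_cancel_right] at ha'm
          obtain ⟨c, -, hc⟩ := SegreDimOne.exists_tt 𝒜 ℬ 𝒯 ψ hdeg ha'm hq
          refine ⟨τ p * c, Ideal.mul_mem_right _ _ (Ideal.subset_span (List.mem_map_of_mem hp)), ?_⟩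
          show ψ (τ p * c) = _
          rw [map_mul, hτ, hc, Algebra.TensorProduct.tmul_mul_tmul]
        · exact zero_mem _

omit [GradedAlgebra 𝒜] [GradedAlgebra ℬ] [GradedAlgebra 𝒯] in
theorem map_mem (τ : ℕ × S → T) (L : List (ℕ × S)) (hL : ∀ p ∈ L, ψ (τ p) = (x ^ p.1) ⊗ₜ p.2)
    {c : T} (hc : c ∈ Ideal.ofList (L.map τ)) :
    ψ c ∈ (Ideal.ofList (L.map Prod.snd)).map
      (Algebra.TensorProduct.includeRight : S →ₐ[k] R ⊗[k] S) := by
  induction hc using Submodule.span_induction with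
  | zero => simp
  | add p q _ _ hp hq => rw [map_add]; exact add_mem hp hq
  | smul a p _ hp => rw [smul_eq_mul, map_mul]; exact Ideal.mul_mem_left _ _ hp
  | mem w hw =>
    obtain ⟨p, hp, rfl⟩ := List.mem_map.1 hw
    have h1 : (1 : R) ⊗ₜ[k] p.2 ∈ (Ideal.ofList (L.map Prod.snd)).map
        (Algebra.TensorProduct.includeRight : S →ₐ[k] R ⊗[k] S) :=
      Ideal.mem_map_of_mem (Algebra.TensorProduct.includeRight : S →ₐ[k] R ⊗[k] S)
        (Ideal.subset_span (List.mem_map_of_mem hp))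
    have h2 := Ideal.mul_mem_left _ ((x ^ p.1) ⊗ₜ[k] (1 : S)) h1
    rwa [Algebra.TensorProduct.tmul_mul_tmul, mul_one, one_mul, ← hL p hp] at h2

include hψ hdeg in
/-- The regular sequence of the Segre product. -/
theorem isWeaklyRegular (hx : x ∈ 𝒜 e) (hxr : x ∈ nonZeroDivisors R)
    (hC : ∀ h : ℤ, ℬ h ≠ ⊥ → ∀ (N : ℕ) (r : R), r ∈ 𝒜 (h + ((N * e : ℕ) : ℤ)) →
      r ∈ Ideal.span {x ^ N})
    (τ : ℕ × S → T) (L : List (ℕ × S))
    (hL : ∀ p ∈ L, p.2 ∈ ℬ ((e * p.1 : ℕ) : ℤ) ∧ ψ (τ p) = (x ^ p.1) ⊗ₜ p.2)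
    (hreg : RingTheory.Sequence.IsWeaklyRegular S (L.map Prod.snd)) :
    RingTheory.Sequence.IsWeaklyRegular T (L.map τ) := by
  rw [RingTheory.Sequence.isWeaklyRegular_iff]
  intro i hi
  have hi' : i < L.length := by simpa using hi
  have hy := (RingTheory.Sequence.isWeaklyRegular_iff S _).1 hreg i (by simpa using hi')
  rw [← List.map_take, List.getElem_map] at hy ⊢
  have hI : Ideal.ofList ((L.take i).map Prod.snd) • (⊤ : Submodule S S) =
      Ideal.ofList ((L.take i).map Prod.snd) := by rw [smul_eq_mul, Ideal.mul_top]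
  rw [(Submodule.quotEquivOfEq _ _ hI).isSMulRegular_congr] at hy
  have hK : Ideal.ofList ((L.take i).map τ) • (⊤ : Submodule T T) =
      Ideal.ofList ((L.take i).map τ) := by rw [smul_eq_mul, Ideal.mul_top]
  rw [hK, isSMulRegular_quotient_iff_mem_of_smul_mem]
  intro a ha
  have hLt : ∀ p ∈ L.take i, p.2 ∈ ℬ ((e * p.1 : ℕ) : ℤ) ∧ ψ (τ p) = (x ^ p.1) ⊗ₜ p.2 :=
    fun p hp => hL p (List.mem_of_mem_take hp)
  have h1 := map_mem ψ τ (L.take i) (fun p hp => (hLt p hp).2) ha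
  rw [smul_eq_mul, map_mul, (hL _ (List.getElem_mem hi')).2] at h1
  obtain ⟨c, hc, hca⟩ := diag_mem 𝒜 ℬ 𝒯 ψ hdeg hx hC τ _ hLt
    (mem_map_of_tmul_mul_mem (pow_mem hxr _) _ hy h1)
  rw [diag_apply 𝒜 ℬ 𝒯 ψ hdeg] at hca
  rwa [← hψ hca]

variable (hpos : ∀ n : ℤ, n < 0 → 𝒜 n = ⊥) (h0 : 𝒜 0 = Submodule.span k {(1 : R)})
variable (hposS : ∀ n : ℤ, n < 0 → ℬ n = ⊥) (h0' : ℬ 0 = Submodule.span k {(1 : S)})

include hψ hdeg hpos h0 hposS h0' in
theorem finiteType [Algebra.FiniteType k R] [Algebra.FiniteType k S] : Algebra.FiniteType k T := by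
  haveI : IsNoetherianRing T :=
    Groth.Agent.S18646.result k R 𝒜 hpos h0 S ℬ hposS h0' T 𝒯 ψ hψ hdeg
  exact finiteType_of_noetherian 𝒯 (SegreDimOne.t_pos 𝒜 ℬ 𝒯 ψ hψ hdeg hpos)
    (SegreDimOne.t_zero 𝒜 ℬ 𝒯 ψ hψ hdeg h0 h0')

include hψ hdeg hpos h0 hposS h0' in
/-- The dimension of the Segre product. -/
theorem dim_eq [Algebra.FiniteType k R] [Algebra.FiniteType k S] (hr : ringKrullDim R = 1) {s : ℕ}
    (hs : ringKrullDim S = s) (h1s : 1 ≤ s) : ringKrullDim T = s := by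
  rw [Groth.Agent.S18647.result k R 𝒜 hpos h0 S ℬ hposS h0' T 𝒯 ψ hψ hdeg 1 s hr hs le_rfl h1s,
    Nat.add_sub_cancel_left]

include hψ hdeg hpos h0 hposS h0' in
/-- Sufficiency. -/
theorem isCM [Algebra.FiniteType k R] [Algebra.FiniteType k S] [LocCoh.IsCohenMacaulayRing S]
    (hr : ringKrullDim R = 1) {s : ℕ} (hs : ringKrullDim S = s) (h1s : 1 ≤ s)
    (he : 0 < e) (hx : x ∈ 𝒜 e) (hxr : x ∈ nonZeroDivisors R)
    (hC : ∀ h : ℤ, ℬ h ≠ ⊥ → ∀ (N : ℕ) (r : R), r ∈ 𝒜 (h + ((N * e : ℕ) : ℤ)) →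
      r ∈ Ideal.span {x ^ N}) :
    LocCoh.IsCohenMacaulayRing T := by
  classical
  haveI := finiteType 𝒜 ℬ 𝒯 ψ hψ hdeg hpos h0 hposS h0'
  have hd := dim_eq 𝒜 ℬ 𝒯 ψ hψ hdeg hpos h0 hposS h0' hr hs h1s
  haveI : Nontrivial T := by
    by_contra h
    rw [not_nontrivial_iff_subsingleton] at h
    rw [ringKrullDim_eq_bot_of_subsingleton] at hd
    simp at hd
  obtain ⟨L, hlen, hL, hreg⟩ := GrRegSeq.exists_regSeq ℬ hposS h0' hs he
  have ht : ∀ p : ℕ × S, ∃ t : T, p ∈ L →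
      t ∈ 𝒯 ((e * p.1 : ℕ) : ℤ) ∧ ψ t = (x ^ p.1) ⊗ₜ p.2 := by
    intro p
    by_cases hp : p ∈ L
    · obtain ⟨t, h1, h2⟩ := SegreDimOne.exists_tt 𝒜 ℬ 𝒯 ψ hdeg
        (show x ^ p.1 ∈ 𝒜 ((e * p.1 : ℕ) : ℤ) by
          have := SetLike.pow_mem_graded p.1 hx
          rwa [nsmul_eq_mul, ← Nat.cast_mul, mul_comm] at this) (hL p hp).2
      exact ⟨t, fun _ => ⟨h1, h2⟩⟩
    · exact ⟨0, fun h => absurd h hp⟩
  choose τ hτ using ht
  refine GrCM.isCM_of_le_depth 𝒯 (SegreDimOne.t_pos 𝒜 ℬ 𝒯 ψ hψ hdeg hpos)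
    (SegreDimOne.t_zero 𝒜 ℬ 𝒯 ψ hψ hdeg h0 h0') hd ⟨L.map τ, by simp [hlen], ?_, ?_⟩
  · exact isWeaklyRegular 𝒜 ℬ 𝒯 ψ hψ hdeg hx hxr hC τ L
      (fun p hp => ⟨(hL p hp).2, (hτ p hp).2⟩) hreg
  · intro t ht
    obtain ⟨p, hp, rfl⟩ := List.mem_map.1 ht
    exact mem_irr_of_mem 𝒯 _ (hτ p hp).1 (by exact_mod_cast Nat.mul_pos he (hL p hp).1)

include hψ hdeg hpos h0 hposS h0' in
/-- Two curves. -/
theorem isCM_one [Algebra.FiniteType k R] [Algebra.FiniteType k S] [LocCoh.IsCohenMacaulayRing R]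
    [LocCoh.IsCohenMacaulayRing S]
    (hr : ringKrullDim R = 1) (hs : ringKrullDim S = 1) : LocCoh.IsCohenMacaulayRing T := by
  classical
  haveI := finiteType 𝒜 ℬ 𝒯 ψ hψ hdeg hpos h0 hposS h0'
  have hd := dim_eq 𝒜 ℬ 𝒯 ψ hψ hdeg hpos h0 hposS h0' hr (s := 1) hs le_rfl
  haveI : Nontrivial T := by
    by_contra h
    rw [not_nontrivial_iff_subsingleton] at h
    rw [ringKrullDim_eq_bot_of_subsingleton] at hd
    simp at hd
  obtain ⟨a, x0, ha, hx0, hx0r⟩ := exists_regular 𝒜 hpos h0 hr.ge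
  obtain ⟨b, y0, hb, hy0, hy0r⟩ := exists_regular ℬ hposS h0' hs.ge
  have h1 : x0 ^ b ∈ 𝒜 ((a * b : ℕ) : ℤ) := by
    have := SetLike.pow_mem_graded b hx0
    rwa [nsmul_eq_mul, ← Nat.cast_mul, mul_comm] at this
  have h2 : y0 ^ a ∈ ℬ ((a * b : ℕ) : ℤ) := by
    have := SetLike.pow_mem_graded a hy0
    rwa [nsmul_eq_mul, ← Nat.cast_mul] at this
  obtain ⟨t, htm, ht⟩ := SegreDimOne.exists_tt 𝒜 ℬ 𝒯 ψ hdeg h1 h2
  refine GrCM.isCM_of_le_depth 𝒯 (SegreDimOne.t_pos 𝒜 ℬ 𝒯 ψ hψ hdeg hpos)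
    (SegreDimOne.t_zero 𝒜 ℬ 𝒯 ψ hψ hdeg h0 h0') hd ⟨[t], rfl, ?_, ?_⟩
  · rw [RingTheory.Sequence.isWeaklyRegular_singleton_iff]
    have htr : t ∈ nonZeroDivisors T := mem_nonZeroDivisors_of_injective hψ
      (ht ▸ SegreDimOne.tmul_mem_nonZeroDivisors (pow_mem hx0r b) (pow_mem hy0r a))
    exact fun u v h => (mul_cancel_left_mem_nonZeroDivisors htr).1 h
  · intro r hr'
    rw [List.mem_singleton.1 hr']
    exact mem_irr_of_mem 𝒯 _ htm (by exact_mod_cast Nat.mul_pos ha hb)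

include hψ hdeg hpos h0 hposS h0' in
/-- Necessity. -/
theorem height_le_one [Algebra.FiniteType k R] [Algebra.FiniteType k S]
    [LocCoh.IsCohenMacaulayRing S] [LocCoh.IsCohenMacaulayRing T] (hr : ringKrullDim R = 1) {s : ℕ}
    (hs : ringKrullDim S = s) (h1s : 1 ≤ s)
    (he : 0 < e) (hx : x ∈ 𝒜 e) (hxr : x ∈ nonZeroDivisors R)
    {n : ℤ} {w : S} (hw : w ∈ ℬ n) (hw0 : w ≠ 0) {N : ℕ} {r : R}
    (hrn : r ∈ 𝒜 (n + ((N * e : ℕ) : ℤ))) (hrx : r ∉ Ideal.span {x ^ N}) : s ≤ 1 := by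
  classical
  haveI := finiteType 𝒜 ℬ 𝒯 ψ hψ hdeg hpos h0 hposS h0'
  haveI : IsNoetherianRing T := Algebra.FiniteType.isNoetherianRing k T
  have hd := dim_eq 𝒜 ℬ 𝒯 ψ hψ hdeg hpos h0 hposS h0' hr hs h1s
  haveI : Nontrivial T := by
    by_contra h
    rw [not_nontrivial_iff_subsingleton] at h
    rw [ringKrullDim_eq_bot_of_subsingleton] at hd
    simp at hd
  haveI : Nontrivial R := by
    by_contra h
    rw [not_nontrivial_iff_subsingleton] at h
    rw [ringKrullDim_eq_bot_of_subsingleton] at hr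
    simp at hr
  have hN : N ≠ 0 := by
    rintro rfl
    exact hrx (by rw [pow_zero, Ideal.span_singleton_one]; exact Submodule.mem_top)
  obtain ⟨f, y, hf, hy, hyr⟩ := exists_regular ℬ hposS h0'
    (by rw [hs]; exact_mod_cast h1s)
  let D : ℕ := e * f * N
  have hX : x ^ (f * N) ∈ 𝒜 (D : ℤ) := by
    have := SetLike.pow_mem_graded (f * N) hx
    rwa [nsmul_eq_mul, ← Nat.cast_mul, mul_comm (f * N), ← mul_assoc] at this
  have hY : y ^ (e * N) ∈ ℬ (D : ℤ) := by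
    have := SetLike.pow_mem_graded (e * N) hy
    rwa [nsmul_eq_mul, ← Nat.cast_mul, show e * N * f = D by simp only [D]; ring] at this
  obtain ⟨g, hg⟩ := Nat.exists_eq_add_of_le hf
  let r' := x ^ (g * N) * r
  have hr' : r' ∈ 𝒜 ((D : ℤ) + n) := by
    have h1 := SetLike.mul_mem_graded (SetLike.pow_mem_graded (g * N) hx) hrn
    rwa [nsmul_eq_mul, show ((g * N : ℕ) : ℤ) * (e : ℤ) + (n + ((N * e : ℕ) : ℤ)) = (D : ℤ) + n by
      simp only [D, hg]; push_cast; ring] at h1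
  have hr'x : r' ∉ Ideal.span {x ^ (f * N)} := by
    intro h
    obtain ⟨c, hc⟩ := Ideal.mem_span_singleton'.1 h
    refine hrx (Ideal.mem_span_singleton'.2 ⟨c, ?_⟩)
    refine (mul_cancel_left_mem_nonZeroDivisors (pow_mem hxr (g * N))).1 ?_
    rw [show x ^ (g * N) * r = r' from rfl, ← hc, hg]
    ring
  obtain ⟨tt, httm, htt⟩ := SegreDimOne.exists_tt 𝒜 ℬ 𝒯 ψ hdeg hX hY
  obtain ⟨a, -, ha⟩ := SegreDimOne.exists_tt 𝒜 ℬ 𝒯 ψ hdeg hr' (SetLike.mul_mem_graded hY hw)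
  have hat : a ∉ Ideal.span {tt} := by
    intro h
    obtain ⟨c, hc⟩ := Ideal.mem_span_singleton'.1 h
    refine hw0 ((mul_cancel_left_mem_nonZeroDivisors (pow_mem hyr (e * N))).1 ?_)
    rw [mul_zero]
    refine SegreDimOne.eq_zero_of_tmul_mem (k := k) hr'x (y := y ^ (e * N))
      (Ideal.mem_span_singleton'.2 ⟨ψ c, ?_⟩)
    rw [← htt, ← ha, ← map_mul, hc]
  let J : Ideal T :=
    Submodule.comap (LinearMap.toSpanSingleton T T a) (Ideal.span {tt})
  have hJ : ∀ z : T, z ∈ J ↔ z * a ∈ Ideal.span {tt} := fun z => Iff.rfl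
  have hposT := SegreDimOne.t_pos 𝒜 ℬ 𝒯 ψ hψ hdeg hpos
  have h0T := SegreDimOne.t_zero 𝒜 ℬ 𝒯 ψ hψ hdeg h0 h0'
  haveI := irr_isMaximal 𝒯 hposT h0T
  have hRrad := GrRegSeq.irr_le_radical 𝒜 hpos h0 hr he hx hxr
  have hrad : irr 𝒯 hposT ≤ J.radical := by
    intro z hz
    rw [← sum_support_decompose 𝒯 z]
    refine Ideal.sum_mem _ fun i _ => ?_
    rcases lt_trichotomy i 0 with hi | rfl | hi
    · rw [decompose_neg 𝒯 hposT hi]; exact zero_mem _
    · rw [(mem_irr 𝒯 _).1 hz]; exact zero_mem _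
    have hle : (𝒯 i).map ψ.toLinearMap ≤
        (J.radical.restrictScalars k).map ψ.toLinearMap := by
      rw [hdeg, Submodule.span_le]
      rintro _ ⟨p, hp, q, hq, rfl⟩
      obtain ⟨u, -, hu⟩ := SegreDimOne.exists_tt 𝒜 ℬ 𝒯 ψ hdeg hp hq
      refine ⟨u, ?_, hu⟩
      obtain ⟨l, hl⟩ := hRrad (mem_irr_of_mem 𝒜 hpos hp hi)
      let M := l * (f * N)
      have hpM : p ^ M * r' ∈ Ideal.span {x ^ (f * N)} := by
        refine Ideal.mul_mem_right _ _ ?_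
        rw [← Ideal.span_singleton_pow, show p ^ M = (p ^ l) ^ (f * N) from pow_mul p l (f * N)]
        exact Ideal.pow_mem_pow hl _
      obtain ⟨b, hb, hpb⟩ := exists_mem_of_mul_mem hX
        (SetLike.mul_mem_graded (SetLike.pow_mem_graded M hp) hr') hpM
      rw [show M • i + ((D : ℤ) + n) - (D : ℤ) = M • i + n by ring] at hb
      obtain ⟨c, -, hc⟩ := SegreDimOne.exists_tt 𝒜 ℬ 𝒯 ψ hdeg hb
        (SetLike.mul_mem_graded (SetLike.pow_mem_graded M hq) hw)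
      refine ⟨M, (hJ _).2 (Ideal.mem_span_singleton'.2 ⟨c, hψ ?_⟩)⟩
      rw [map_mul, map_mul, map_pow, hu, ha, hc, htt, Algebra.TensorProduct.tmul_pow,
        Algebra.TensorProduct.tmul_mul_tmul, Algebra.TensorProduct.tmul_mul_tmul, hpb]
      congr 1 <;> ring
    obtain ⟨u, hu, hu'⟩ := hle (Submodule.mem_map_of_mem (decompose 𝒯 z i).2)
    rwa [← hψ hu']
  obtain ⟨l, hl⟩ : ∃ l, irr 𝒯 hposT ^ l ≤ J :=
    Ideal.exists_pow_le_of_le_radical_of_fg hrad (IsNoetherian.noetherian _)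
  have hl0 : ¬ irr 𝒯 hposT ^ 0 ≤ J := fun h =>
    hat (by simpa using (hJ 1).1 (h (by simp)))
  obtain ⟨l', hl', hl''⟩ : ∃ l', ¬ irr 𝒯 hposT ^ l' ≤ J ∧ irr 𝒯 hposT ^ (l' + 1) ≤ J := by
    by_contra! hcon
    exact absurd hl (Nat.rec hl0 (fun j hj => hcon j hj) l)
  obtain ⟨c, hc, hcJ⟩ := SetLike.not_le_iff_exists.1 hl'
  rw [hJ] at hcJ
  have hma : ∀ z ∈ irr 𝒯 hposT, z * (c * a) ∈ Ideal.span {tt} := fun z hz => by
    rw [← mul_assoc, ← hJ]
    refine hl'' ?_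
    rw [pow_succ, mul_comm z c]
    exact Ideal.mul_mem_mul hc hz
  have hdet : ∀ z, z * (c * a) ∈ Ideal.span {tt} → z ∈ irr 𝒯 hposT := by
    intro z hz
    obtain ⟨c', hc'⟩ := exists_scalar 𝒯 hposT h0T z
    by_contra hz'
    have hc0 : c' ≠ 0 := fun h => hz' (by simpa [h] using hc')
    have h2 := Ideal.sub_mem _ hz (hma _ hc')
    rw [← sub_mul, sub_sub_cancel] at h2
    have h3 := Ideal.mul_mem_left _ (algebraMap k T c'⁻¹) h2
    rw [← mul_assoc, ← map_mul, inv_mul_cancel₀ hc0, map_one, one_mul] at h3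
    exact hcJ h3
  have h1 := Socle.height_le_one_of_socle (irr 𝒯 hposT)
    (mem_irr_of_mem 𝒯 hposT httm (by
      exact_mod_cast Nat.mul_pos (Nat.mul_pos he hf) (Nat.pos_of_ne_zero hN)))
    (mem_nonZeroDivisors_of_injective hψ
      (htt ▸ SegreDimOne.tmul_mem_nonZeroDivisors (pow_mem hxr _) (pow_mem hyr _))) hma hdet
  have h2 := height_irr 𝒯 hposT h0T
  rw [hd] at h2
  rw [show (irr 𝒯 hposT).height = ((s : ℕ) : ℕ∞) from WithBot.coe_injective (h2.trans (by rfl))] at h1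
  exact_mod_cast h1

end Groth.Misc15.SegreCMOne
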