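import Mathlib
import Groth.Agent.Gorenstein.Basic
import Groth.Agent.Misc15.GorLoc

/-! Numerical semigroup algebras: Gorenstein iff symmetric. -/

set_option autoImplicit false

universe u

open Polynomial

namespace Groth.Misc15.Sym

variable (k : Type u) [Field k] (H : AddSubmonoid ℕ)

/-- Polynomials supported on `H`. -/
def semiAlg : Subalgebra k k[X] where
  carrier := {p | ∀ n, n ∉ H → p.coeff n = 0}
  mul_mem' {p q} hp hq n hn := by
    rw [coeff_mul]
    refine Finset.sum_eq_zero fun ⟨i, j⟩ hij => ?_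
    have hsum : i + j = n := Finset.HasAntidiagonal.mem_antidiagonal.mp hij
    by_cases hi : i ∈ H
    · rw [hq j (fun hj => hn (hsum ▸ H.add_mem hi hj)), mul_zero]
    · rw [hp i hi, zero_mul]
  add_mem' {p q} hp hq n hn := by rw [coeff_add, hp n hn, hq n hn, add_zero]
  algebraMap_mem' c n hn := by
    rw [Polynomial.algebraMap_apply, coeff_C, if_neg]
    exact fun h => hn (h ▸ H.zero_mem)

variable {k H}

theorem monomial_mem {n : ℕ} (hn : n ∈ H) (c : k) : monomial n c ∈ semiAlg k H := fun m hm => by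
  rw [coeff_monomial, if_neg fun h : n = m => hm (h ▸ hn)]

/-- `x ^ n` in the semigroup algebra. -/
noncomputable def xp {n : ℕ} (hn : n ∈ H) : semiAlg k H := ⟨monomial n 1, monomial_mem hn 1⟩

theorem xp_coe {n : ℕ} (hn : n ∈ H) : ((xp hn : semiAlg k H) : k[X]) = X ^ n :=
  monomial_one_right_eq_X_pow n

theorem xp_mul {a b : ℕ} (ha : a ∈ H) (hb : b ∈ H) :
    (xp ha * xp hb : semiAlg k H) = xp (H.add_mem ha hb) :=
  Subtype.ext (by simp [xp, monomial_mul_monomial])

theorem xp_eq {a b : ℕ} (ha : a ∈ H) (hb : b ∈ H) (h : a = b) :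
    (xp ha : semiAlg k H) = xp hb := by
  subst h; rfl

/-- The constant term. -/
noncomputable def cst : semiAlg k H →+* k := Polynomial.constantCoeff.comp (semiAlg k H).val.toRingHom

variable {e : ℕ} (he : e ∈ H)

/-- The Apéry set. -/
def Ap (H : AddSubmonoid ℕ) (e : ℕ) : Set ℕ := {w | w ∈ H ∧ (e ≤ w → w - e ∉ H)}

theorem dvd_iff (p : semiAlg k H) :
    p ∈ Ideal.span {xp (k := k) he} ↔ ∀ w ∈ Ap H e, p.1.coeff w = 0 := by
  rw [Ideal.mem_span_singleton]
  constructor
  · rintro ⟨q, rfl⟩ w ⟨-, hw⟩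
    rw [MulMemClass.coe_mul, xp_coe, coeff_X_pow_mul']
    split
    · next h => exact q.2 _ (hw h)
    · rfl
  · intro h
    have hlow : ∀ d < e, p.1.coeff d = 0 := fun d hd => by
      by_cases hdH : d ∈ H
      · exact h d ⟨hdH, fun h' => absurd h' (by omega)⟩
      · exact p.2 d hdH
    obtain ⟨q, hq⟩ := X_pow_dvd_iff.2 hlow
    refine ⟨⟨q, fun n hn => ?_⟩, Subtype.ext ?_⟩
    · have h2 : p.1.coeff (n + e) = q.coeff n := by rw [hq, coeff_X_pow_mul]
      rw [← h2]
      by_cases hne : n + e ∈ H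
      · exact h (n + e) ⟨hne, fun _ => (Nat.add_sub_cancel n e).symm ▸ hn⟩
      · exact p.2 _ hne
    · rw [MulMemClass.coe_mul, xp_coe]; exact hq

/-- `k[H]/(x^e)`. -/
def Quot (k : Type u) [Field k] (he : e ∈ H) : Type u :=
  semiAlg k H ⧸ Ideal.span {xp (k := k) he}

noncomputable instance : CommRing (Quot k he) :=
  inferInstanceAs (CommRing (semiAlg k H ⧸ Ideal.span {xp (k := k) he}))

noncomputable instance : Algebra k (Quot k he) :=
  inferInstanceAs (Algebra k (semiAlg k H ⧸ Ideal.span {xp (k := k) he}))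

/-- The quotient map. -/
noncomputable def mk (k : Type u) [Field k] (he : e ∈ H) : semiAlg k H →ₐ[k] Quot k he :=
  Ideal.Quotient.mkₐ k (Ideal.span {xp (k := k) he})

theorem mk_surjective : Function.Surjective (mk k he) := Ideal.Quotient.mk_surjective

theorem mk_eq_zero_iff {p : semiAlg k H} :
    mk k he p = 0 ↔ p ∈ Ideal.span {xp (k := k) he} := Ideal.Quotient.eq_zero_iff_mem

theorem ker_mk : RingHom.ker (mk k he).toRingHom = Ideal.span {xp (k := k) he} := Ideal.mk_ker

/-- Coefficient of `x^w`, `w` in the Apéry set. -/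
noncomputable def coef {w : ℕ} (hw : w ∈ Ap H e) : Quot k he →ₗ[k] k :=
  ((Ideal.span {xp (k := k) he}).restrictScalars k).liftQ
      ((lcoeff k w).comp (semiAlg k H).val.toLinearMap)
      (fun p hp => (dvd_iff he p).1 hp w hw) ∘ₗ
    (Submodule.Quotient.restrictScalarsEquiv k (Ideal.span {xp (k := k) he})).symm.toLinearMap

theorem coef_mk {w : ℕ} (hw : w ∈ Ap H e) (p : semiAlg k H) :
    coef (k := k) he hw ((mk k he) p) = p.1.coeff w := rfl

theorem eq_zero_of_coef {c : Quot k he} (h : ∀ w (hw : w ∈ Ap H e), coef (k := k) he hw c = 0) : c = 0 := by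
  obtain ⟨p, rfl⟩ := mk_surjective he c
  rw [mk_eq_zero_iff, dvd_iff he]
  intro w hw
  rw [← coef_mk he hw p]
  exact h w hw

variable {c₀ : ℕ} (hbig : ∀ n, c₀ ≤ n → n ∈ H)

include hbig in
theorem ap_lt {w : ℕ} (hw : w ∈ Ap H e) : w < c₀ + e := by
  by_contra h
  exact hw.2 (by omega) (hbig _ (by omega))

include hbig in
theorem finite_quot : Module.Finite k (Quot k he) := by
  classical
  have hfin : (Ap H e).Finite :=
    (Set.finite_lt_nat (c₀ + e)).subset fun w hw => ap_lt hbig hw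
  haveI := hfin.to_subtype
  refine Module.Finite.of_injective (LinearMap.pi fun w : Ap H e => coef (k := k) he w.2) ?_
  rw [injective_iff_map_eq_zero]
  exact fun c hc => eq_zero_of_coef he fun w hw => congrFun hc ⟨w, hw⟩

include hbig in
theorem isNilpotent_mk {p : semiAlg k H} (hp : cst p = 0) :
    IsNilpotent (mk k he p) := by
  refine ⟨c₀ + e, ?_⟩
  rw [← map_pow, mk_eq_zero_iff, dvd_iff he]
  intro w hw
  have hX : X ∣ p.1 := X_dvd_iff.2 hp
  have hpow : X ^ (c₀ + e) ∣ ((p ^ (c₀ + e) : semiAlg k H) : k[X]) := by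
    rw [SubmonoidClass.coe_pow]; exact pow_dvd_pow_of_dvd hX _
  exact X_pow_dvd_iff.1 hpow w (ap_lt hbig hw)

variable (he0 : 0 < e)
include he0

theorem cst_xp : cst (xp (k := k) he) = 0 := by
  simp [cst, xp, coeff_monomial, he0.ne']

/-- The constant term on the quotient. -/
noncomputable def cstQ : Quot k he →+* k :=
  Ideal.Quotient.lift _ cst fun p hp => by
    obtain ⟨q, rfl⟩ := Ideal.mem_span_singleton.1 hp
    rw [map_mul, cst_xp he he0, zero_mul]

theorem cstQ_mk (p : semiAlg k H) : cstQ (k := k) he he0 (mk k he p) = cst p := rfl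

include hbig in
theorem isUnit_iff (c : Quot k he) : IsUnit c ↔ cstQ he he0 c ≠ 0 := by
  refine ⟨fun hc => (hc.map _).ne_zero, fun hc => ?_⟩
  obtain ⟨p, rfl⟩ := mk_surjective he c
  rw [cstQ_mk] at hc
  have hu : IsUnit (mk k he
      (algebraMap k (semiAlg k H) (cst p))) := ((IsUnit.mk0 _ hc).map _).map _
  have hn : IsNilpotent (mk k he
      (p - algebraMap k (semiAlg k H) (cst p))) := by
    refine isNilpotent_mk he hbig ?_
    rw [map_sub, sub_eq_zero]
    simp [cst, Polynomial.algebraMap_apply]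
  have := hn.isUnit_add_left_of_commute hu (Commute.all _ _)
  simpa using this

include hbig in
theorem isLocalRing_quot : IsLocalRing (Quot k he) := by
  haveI : Nontrivial (Quot k he) := (cstQ he he0).domain_nontrivial
  refine IsLocalRing.of_nonunits_add fun a b ha hb => ?_
  simp only [mem_nonunits_iff, isUnit_iff he hbig he0, not_not] at ha hb ⊢
  rw [map_add, ha, hb, add_zero]

theorem sub_mem_ap {w0 : ℕ} (hw0 : w0 ∈ Ap H e) {w : ℕ} (hwH : w0 - w ∈ H) (hw : w ∈ H)
    (hle : w ≤ w0) : w0 - w ∈ Ap H e := by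
  refine ⟨hwH, fun h h' => hw0.2 (by omega) ?_⟩
  have : w0 - e = (w0 - w - e) + w := by omega
  rw [this]
  exact H.add_mem h' hw

include hbig in
/-- If the Apéry set has an element `w0` with `w0 - w ∈ H` for all its `w`, the quotient is
self-injective. -/
theorem injective_quot {w0 : ℕ} (hw0 : w0 ∈ Ap H e)
    (hmax : ∀ w ∈ Ap H e, w ≤ w0 ∧ w0 - w ∈ H) : Module.Injective (Quot k he) (Quot k he) := by
  haveI := finite_quot (k := k) he hbig
  let ε := coef (k := k) he hw0
  let Φ : Quot k he →ₗ[k] Module.Dual k (Quot k he) :=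
    LinearMap.mk₂ k (fun c a => ε (a * c)) (fun _ _ _ => by simp [mul_add])
      (fun _ _ _ => by simp [mul_smul_comm]) (fun _ _ _ => by simp [add_mul])
      (fun _ _ _ => by simp [smul_mul_assoc])
  have hnd : ∀ c : Quot k he, (∀ a, ε (a * c) = 0) → c = 0 := by
    intro c hc
    refine eq_zero_of_coef he fun w hw => ?_
    obtain ⟨hle, hH⟩ := hmax w hw
    obtain ⟨p, rfl⟩ := mk_surjective he c
    have := hc ((mk k he) (xp hH))
    rw [← map_mul, coef_mk] at this
    rw [coef_mk, ← this, MulMemClass.coe_mul, xp_coe, coeff_X_pow_mul',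
      if_pos (by omega), show w0 - (w0 - w) = w by omega]
  have hΦ : Function.Surjective Φ := by
    refine (LinearMap.injective_iff_surjective_of_finrank_eq_finrank
      Subspace.dual_finrank_eq.symm).1 ?_
    rw [injective_iff_map_eq_zero]
    exact fun c hc => hnd c fun a => LinearMap.congr_fun hc a
  refine Module.Baer.injective fun I g => ?_
  obtain ⟨G, hG⟩ := LinearMap.exists_extend
    (p := I.restrictScalars k) (ε.comp (g.restrictScalars k) : I.restrictScalars k →ₗ[k] k)
  obtain ⟨c, hc⟩ := hΦ G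
  refine ⟨LinearMap.toSpanSingleton _ _ c, fun x hx => ?_⟩
  rw [LinearMap.toSpanSingleton_apply, smul_eq_mul]
  refine sub_eq_zero.1 (hnd _ fun a => ?_)
  have h1 : ε (a * x * c) = ε (g ⟨a * x, I.mul_mem_left a hx⟩) :=
    (LinearMap.congr_fun hc (a * x)).trans
      (LinearMap.congr_fun hG ⟨a * x, I.mul_mem_left a hx⟩)
  have h2 : g ⟨a * x, I.mul_mem_left a hx⟩ = a * g ⟨x, hx⟩ := g.map_smul a ⟨x, hx⟩
  rw [mul_sub, map_sub, ← mul_assoc, h1, h2, sub_self]

include hbig in
/-- Self-injectivity forces at most one maximal Apéry element. -/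
theorem exists_max_of_injective (hinj : Module.Injective (Quot k he) (Quot k he)) :
    ∃ w0 ∈ Ap H e, ∀ w ∈ Ap H e, w ≤ w0 ∧ w0 - w ∈ H := by
  classical
  have hfin : (Ap H e).Finite :=
    (Set.finite_lt_nat (c₀ + e)).subset fun w hw => ap_lt hbig hw
  let M : Set ℕ := {v | v ∈ Ap H e ∧ ∀ h ∈ H, h ≠ 0 → v + h ∉ Ap H e}
  have hmax : ∀ (n : ℕ) (w : ℕ), w ∈ Ap H e → c₀ + e ≤ w + n → ∃ v ∈ M, w ≤ v ∧ v - w ∈ H := by
    intro n
    induction n with
    | zero => intro w hw hle; exact absurd (ap_lt hbig hw) (by omega)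
    | succ n ih =>
      intro w hw hle
      by_cases hwM : w ∈ M
      · exact ⟨w, hwM, le_rfl, by simpa using H.zero_mem⟩
      · simp only [M, Set.mem_ofPred_eq, not_and, not_forall, not_not] at hwM
        obtain ⟨h, hh, h0, hwh⟩ := hwM hw
        obtain ⟨v, hv, hle', hvw⟩ := ih (w + h) hwh (by omega)
        refine ⟨v, hv, by omega, ?_⟩
        have : v - w = (v - (w + h)) + h := by omega
        rw [this]; exact H.add_mem hvw hh
  have hM : ∀ v ∈ M, ∀ v' ∈ M, v = v' := by
    intro v hv v' hv'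
    by_contra hne
    set y : Quot k he := (mk k he) (xp hv.1.1)
    set y' : Quot k he := (mk k he) (xp hv'.1.1)
    have hann : ∀ z : ℕ, ∀ hz : z ∈ M, ∀ c : Quot k he, cstQ he he0 c = 0 →
        c * (mk k he) (xp (k := k) hz.1.1) = 0 := by
      intro z hz c hc
      obtain ⟨p, rfl⟩ := mk_surjective he c
      rw [← map_mul, mk_eq_zero_iff, dvd_iff he]
      intro w hw
      rw [MulMemClass.coe_mul, xp_coe, coeff_mul_X_pow']
      split
      · next hle =>
        by_cases h0 : w - z = 0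
        · rw [h0]; exact hc
        · by_contra hne0
          have hH : w - z ∈ H := by
            by_contra hH; exact hne0 (p.2 _ hH)
          exact hz.2 _ hH h0 (by rwa [show z + (w - z) = w by omega])
      · rfl
    have hker : LinearMap.ker (LinearMap.toSpanSingleton (Quot k he) (Quot k he) y) ≤
        LinearMap.ker (LinearMap.toSpanSingleton (Quot k he) (Quot k he) y') := by
      intro c hc
      rw [LinearMap.mem_ker, LinearMap.toSpanSingleton_apply, smul_eq_mul] at hc ⊢
      refine hann v' hv' c ?_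
      by_contra hc0
      have hu := (isUnit_iff he hbig he0 c).2 hc0
      rw [hu.mul_right_eq_zero] at hc
      have := congrArg (coef (k := k) he hv.1) hc
      rw [coef_mk, map_zero] at this
      simp [xp, coeff_monomial] at this
    let f := Submodule.liftQ (LinearMap.ker (LinearMap.toSpanSingleton (Quot k he) (Quot k he) y))
      (LinearMap.toSpanSingleton _ _ y) le_rfl
    let g := Submodule.liftQ (LinearMap.ker (LinearMap.toSpanSingleton (Quot k he) (Quot k he) y))
      (LinearMap.toSpanSingleton _ _ y') hker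
    obtain ⟨E, hE⟩ := hinj.out f
      (LinearMap.ker_eq_bot.1 (Submodule.ker_liftQ_eq_bot _ _ le_rfl le_rfl)) g
    have h1 : E y = y' := by
      have h := hE (Submodule.Quotient.mk 1)
      rwa [Submodule.liftQ_apply, Submodule.liftQ_apply, LinearMap.toSpanSingleton_apply,
        LinearMap.toSpanSingleton_apply, one_smul, one_smul] at h
    have h2 : E y = y * E 1 := by
      rw [show E y = E (y • 1) by rw [smul_eq_mul, mul_one], map_smul, smul_eq_mul]
    obtain ⟨q, hq⟩ := mk_surjective he (E 1)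
    have h3 := congrArg (coef (k := k) he hv'.1) (h1.symm.trans h2)
    rw [← hq, ← map_mul, coef_mk, coef_mk, MulMemClass.coe_mul] at h3
    simp only [xp, monomial_one_right_eq_X_pow, coeff_X_pow_mul', coeff_X_pow, if_true] at h3
    split at h3
    · next hle =>
      have hH : v' - v ∈ H := by
        by_contra hH; rw [q.2 _ hH] at h3; exact one_ne_zero h3
      exact hv.2 _ hH (by omega) (by rw [show v + (v' - v) = v' by omega]; exact hv'.1)
    · exact one_ne_zero h3
  have h0 : 0 ∈ Ap H e := ⟨H.zero_mem, fun h => absurd h (by omega)⟩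
  obtain ⟨w0, hw0, -, -⟩ := hmax (c₀ + e) 0 h0 (by omega)
  refine ⟨w0, hw0.1, fun w hw => ?_⟩
  obtain ⟨v, hv, hle, hvw⟩ := hmax (c₀ + e) w hw (by omega)
  rw [hM w0 hw0 v hv]
  exact ⟨hle, hvw⟩

include he hbig in
/-- The Apéry criterion for symmetry. -/
theorem symm_iff : (∃ w0 ∈ Ap H e, ∀ w ∈ Ap H e, w ≤ w0 ∧ w0 - w ∈ H) ↔
    ∃ d : ℤ, ∀ n : ℤ, (∃ h ∈ H, (h : ℤ) = n) ↔ ¬ ∃ h ∈ H, (h : ℤ) = d - n := by
  constructor
  · rintro ⟨w0, hw0, hmax⟩
    have hd : ¬ ∃ h ∈ H, (h : ℤ) = (w0 : ℤ) - e := by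
      rintro ⟨h, hh, he'⟩
      refine hw0.2 (by omega) ?_
      rwa [show w0 - e = h by omega]
    refine ⟨(w0 : ℤ) - e, fun n => ⟨?_, fun hn => ?_⟩⟩
    · rintro ⟨a, ha, rfl⟩ ⟨b, hb, hb'⟩
      exact hd ⟨a + b, H.add_mem ha hb, by omega⟩
    · by_contra hc
      classical
      have hje : ∀ i, i * e ∈ H := fun i => by simpa [smul_eq_mul] using H.nsmul_mem he i
      have hex : ∃ j : ℕ, ∃ h ∈ H, (h : ℤ) = n + (j : ℤ) * e := by
        set J := (-n).toNat + c₀
        refine ⟨J, (n + (J : ℤ) * e).toNat, hbig _ ?_, ?_⟩ <;>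
        · have : (J : ℤ) * 1 ≤ (J : ℤ) * e := mul_le_mul_of_nonneg_left (by omega) (by omega)
          omega
      obtain ⟨h, hh, hhn⟩ := Nat.find_spec hex
      set j := Nat.find hex with hj
      have hj0 : j ≠ 0 := fun h0 => hc ⟨h, hh, by rw [h0] at hhn; simpa using hhn⟩
      obtain ⟨i, hi⟩ : ∃ i, j = i + 1 := ⟨j - 1, by omega⟩
      have hAp : h ∈ Ap H e := by
        refine ⟨hh, fun hle h' => Nat.find_min hex (show i < j by omega) ⟨h - e, h', ?_⟩⟩
        rw [hi] at hhn
        push_cast at hhn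
        rw [Nat.cast_sub hle, hhn]; ring
      obtain ⟨hle, hsub⟩ := hmax h hAp
      refine hn ⟨w0 - h + i * e, H.add_mem hsub (hje i), ?_⟩
      rw [hi] at hhn
      push_cast at hhn ⊢
      rw [Nat.cast_sub hle, hhn]; ring
  · rintro ⟨d, hd⟩
    have hA : ∀ w ∈ Ap H e, ∃ h ∈ H, (h : ℤ) = d + e - w := fun w hw => by
      have hn : ¬ ∃ h ∈ H, (h : ℤ) = (w : ℤ) - e := by
        rintro ⟨h, hh, he'⟩
        refine hw.2 (by omega) ?_
        rwa [show w - e = h by omega]
      rw [hd, not_not] at hn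
      obtain ⟨h, hh, he'⟩ := hn
      exact ⟨h, hh, by omega⟩
    obtain ⟨w0, hw0H, hw0⟩ := hA 0 ⟨H.zero_mem, fun h => absurd h (by omega)⟩
    refine ⟨w0, ⟨hw0H, fun hle h' => ?_⟩, fun w hw => ?_⟩
    · have h0 : ∃ h ∈ H, (h : ℤ) = 0 := ⟨0, H.zero_mem, rfl⟩
      exact ((hd 0).1 h0) ⟨w0 - e, h', by omega⟩
    · obtain ⟨h, hh, he'⟩ := hA w hw
      refine ⟨by omega, ?_⟩
      rwa [show w0 - w = h by omega]

omit he0 in
theorem xp_ne_zero : (xp (k := k) he) ≠ 0 := fun h => by
  have := congrArg (fun p : semiAlg k H => (p : k[X]).coeff e) h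
  simp [xp, coeff_monomial] at this

omit he0 in
include hbig in
theorem gor_of_notMem [IsNoetherianRing (semiAlg k H)] (p : Ideal (semiAlg k H)) [p.IsPrime]
    (h : xp (k := k) he ∉ p) (he0 : 0 < e) :
    LocCoh.IsGorensteinLocalRing (Localization.AtPrime p) := by
  refine GorLoc.gor_of_birational (semiAlg k H).val.toRingHom Subtype.val_injective (xp he)
    (fun s => ⟨c₀, ⟨_, ?_⟩, rfl⟩) p h
  intro n hn
  show ((monomial e (1 : k)) ^ c₀ * s).coeff n = 0
  rw [monomial_pow, one_pow, monomial_one_right_eq_X_pow, coeff_X_pow_mul', if_neg]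
  intro hle
  have := Nat.le_mul_of_pos_left c₀ he0
  exact hn (hbig n (by omega))

include hbig in
/-- `k[H]` is Gorenstein at the origin iff `H` is symmetric. -/
theorem gor_at_origin_iff [IsNoetherianRing (semiAlg k H)] (q0 : Ideal (semiAlg k H)) [q0.IsPrime]
    (hq0 : xp (k := k) he ∈ q0) :
    LocCoh.IsGorensteinLocalRing (Localization.AtPrime q0) ↔
      ∃ d : ℤ, ∀ n : ℤ, (∃ h ∈ H, (h : ℤ) = n) ↔ ¬ ∃ h ∈ H, (h : ℤ) = d - n := by
  haveI := isLocalRing_quot (k := k) he hbig he0
  haveI := finite_quot (k := k) he hbig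
  haveI : IsArtinianRing (Quot k he) := IsArtinianRing.of_finite k _
  set π := (mk k he).toRingHom
  set n := IsLocalRing.maximalIdeal (Quot k he)
  have hcomap : q0 = n.comap π := by
    have hmem : ∀ p, p ∈ n.comap π ↔ cst p = 0 := fun p => by
      rw [Ideal.mem_comap, IsLocalRing.mem_maximalIdeal, mem_nonunits_iff, isUnit_iff he hbig he0,
        not_not]
      rfl
    have hle : n.comap π ≤ q0 := by
      intro p hp
      obtain ⟨N, hN⟩ := isNilpotent_mk he hbig ((hmem p).1 hp)
      rw [← map_pow, mk_eq_zero_iff] at hN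
      exact Ideal.IsPrime.mem_of_pow_mem ‹_› N
        ((Ideal.span_singleton_le_iff_mem _).2 hq0 hN)
    haveI : (n.comap π).IsMaximal :=
      Ideal.comap_isMaximal_of_surjective π (mk_surjective he)
    exact ((Ideal.IsMaximal.eq_of_le ‹_› Ideal.IsPrime.ne_top' hle)).symm
  subst hcomap
  rw [GorLoc.gor_quotient_iff π (mk_surjective he) (xp he) (xp_ne_zero he)
    (ker_mk he) n]
  let eC : Quot k he ≃+* Localization.AtPrime n :=
    (IsLocalization.atUnits (Quot k he) n.primeCompl (S := Localization.AtPrime n) fun x hx => by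
      simpa [n, IsUnit.mem_submonoid_iff] using hx).toRingEquiv
  rw [GrothGoren.isGorenstein_iff, ← GrothGoren.exists_injLT_iff_of_ringEquiv eC,
    ← symm_iff he hbig he0]
  constructor
  · intro h
    obtain ⟨d, hd, hd1, -⟩ := GrothGoren.exists_dim (Quot k he) h
    have h0 : ringKrullDim (Quot k he) = 0 := ringKrullDimZero_iff_ringKrullDim_eq_zero.1 inferInstance
    rw [h0] at hd
    have : d = 0 := by exact_mod_cast hd.symm
    subst this
    exact exists_max_of_injective he hbig he0 (GrothGoren.injLT_one_iff.1 hd1)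
  · rintro ⟨w0, hw0, hmax⟩
    exact ⟨1, GrothGoren.injLT_one_iff.2 (injective_quot he hbig he0 hw0 hmax)⟩

include hbig in
/-- The prime of `k[H]` at the origin. -/
theorem exists_origin : ∃ q0 : Ideal (semiAlg k H), q0.IsPrime ∧ xp (k := k) he ∈ q0 :=
  ⟨RingHom.ker cst, RingHom.ker_isPrime _, cst_xp he he0⟩

end Groth.Misc15.Sym
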