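import Mathlib

/-! Quadratic form of a Toeplitz matrix as an integral against its symbol. -/

set_option autoImplicit false
open Complex MeasureTheory
open scoped ComplexConjugate

namespace Groth.Misc15

noncomputable def symb (t : ℤ → ℂ) (s : Finset ℤ) (y : ℝ) : ℂ :=
  ∑ k ∈ s, t k * Complex.exp (Complex.I * (k : ℂ) * (y : ℂ))

lemma continuous_symb (t : ℤ → ℂ) (s : Finset ℤ) : Continuous (symb t s) := by
  unfold symb; fun_prop

noncomputable def trigP {m : ℕ} (x : Fin m → ℂ) (y : ℝ) : ℂ :=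
  ∑ j : Fin m, x j * Complex.exp (-(Complex.I * (j : ℂ) * (y : ℂ)))

lemma continuous_trigP {m : ℕ} (x : Fin m → ℂ) : Continuous (trigP x) := by
  unfold trigP; fun_prop

lemma integral_exp_int (n : ℤ) :
    ∫ y in (0:ℝ)..(2 * Real.pi), Complex.exp (Complex.I * (n : ℂ) * (y : ℂ)) =
      if n = 0 then ((2 * Real.pi : ℝ) : ℂ) else 0 := by
  split_ifs with h
  · simp [h]
  · rw [integral_exp_mul_complex (by simp [h])]
    have : Complex.I * (n : ℂ) * ((2 * Real.pi : ℝ) : ℂ) = (n : ℂ) * (2 * Real.pi * Complex.I) := by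
      push_cast; ring
    rw [this, Complex.exp_int_mul_two_pi_mul_I]
    simp

lemma integral_symb_mul (m : ℕ) (t : ℤ → ℂ) (s : Finset ℤ) (hs : ∀ k, k ∉ s → t k = 0) (x : Fin m → ℂ) :
    ∫ y in (0:ℝ)..(2 * Real.pi), symb t s y * (conj (trigP x y) * trigP x y) =
      ((2 * Real.pi : ℝ) : ℂ) * ∑ i : Fin m, ∑ j : Fin m, conj (x i) * t ((j : ℤ) - (i : ℤ)) * x j := by
  have h : ∀ y : ℝ, symb t s y * (conj (trigP x y) * trigP x y) =
      ∑ i, ∑ j, ∑ k ∈ s, (conj (x i) * t k * x j) *
        Complex.exp (Complex.I * ((k + (i : ℤ) - (j : ℤ) : ℤ) : ℂ) * (y : ℂ)) := by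
    intro y
    simp only [symb, trigP, map_sum, map_mul, ← Complex.exp_conj, Finset.mul_sum, Finset.sum_mul]
    conv_lhs => rw [Finset.sum_comm]
    rw [Finset.sum_comm]
    conv_rhs => rw [Finset.sum_comm]
    refine Finset.sum_congr rfl fun j _ => Finset.sum_congr rfl fun i _ => Finset.sum_congr rfl fun k _ => ?_
    have e : Complex.exp (Complex.I * ((k + (i : ℤ) - (j : ℤ) : ℤ) : ℂ) * (y : ℂ)) =
        Complex.exp (Complex.I * (k : ℂ) * (y : ℂ)) * Complex.exp (Complex.I * (i : ℂ) * (y : ℂ)) *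
          Complex.exp (-(Complex.I * (j : ℂ) * (y : ℂ))) := by
      rw [← Complex.exp_add, ← Complex.exp_add]; congr 1; push_cast; ring
    rw [e]
    simp only [map_neg, map_mul, Complex.conj_I, Complex.conj_ofReal, map_natCast, neg_mul, neg_neg]
    ring
  simp only [h]
  rw [intervalIntegral.integral_finsetSum fun i _ => Continuous.intervalIntegrable (by fun_prop) _ _, Finset.mul_sum]
  refine Finset.sum_congr rfl fun i _ => ?_
  rw [intervalIntegral.integral_finsetSum fun i _ => Continuous.intervalIntegrable (by fun_prop) _ _, Finset.mul_sum]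
  refine Finset.sum_congr rfl fun j _ => ?_
  rw [intervalIntegral.integral_finsetSum fun i _ => Continuous.intervalIntegrable (by fun_prop) _ _]
  simp only [intervalIntegral.integral_const_mul, integral_exp_int, mul_ite, mul_zero]
  have hk : ∀ k : ℤ, k + (i : ℤ) - (j : ℤ) = 0 ↔ (j : ℤ) - (i : ℤ) = k := fun k => by omega
  simp only [hk, Finset.sum_ite_eq]
  split_ifs with h'
  · ring
  · rw [hs _ h']; ring

lemma countable_trigP_zero {m : ℕ} (x : Fin m → ℂ) (hx : x ≠ 0) :
    {y : ℝ | trigP x y = 0}.Countable := by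
  let p : Polynomial ℂ := ∑ j : Fin m, Polynomial.C (x j) * Polynomial.X ^ (j : ℕ)
  have hp : p ≠ 0 := by
    obtain ⟨j, hj⟩ := Function.ne_iff.mp hx
    intro h0
    have := congrArg (fun q => Polynomial.coeff q (j : ℕ)) h0
    simp [p, Fin.val_inj] at this
    exact hj this
  have hsub : {y : ℝ | trigP x y = 0} ⊆
      ⋃ z ∈ p.roots.toFinset, {y : ℝ | Complex.exp (-(Complex.I * (y : ℂ))) = z} := by
    intro y hy
    simp only [Set.mem_iUnion, Set.mem_ofPred_eq, exists_prop, exists_eq_right', Multiset.mem_toFinset,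
      Polynomial.mem_roots hp, Polynomial.IsRoot.def]
    rw [← (show trigP x y = 0 from hy)]
    simp only [p, trigP, Polynomial.eval_finsetSum, Polynomial.eval_mul, Polynomial.eval_C, Polynomial.eval_pow,
      Polynomial.eval_X, ← Complex.exp_nat_mul]
    refine Finset.sum_congr rfl fun j _ => ?_
    congr 2; ring
  refine Set.Countable.mono hsub (Set.Countable.biUnion (Finset.countable_toSet _) fun z _ => ?_)
  rcases ({y : ℝ | Complex.exp (-(Complex.I * (y : ℂ))) = z}).eq_empty_or_nonempty with h | ⟨y₀, hy₀⟩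
  · rw [h]; exact Set.countable_empty
  refine Set.Countable.mono ?_ (Set.countable_range fun n : ℤ => y₀ + n * (2 * Real.pi))
  intro y hy
  have : Complex.exp (-(Complex.I * (y₀ : ℂ))) = Complex.exp (-(Complex.I * (y : ℂ))) := hy₀.trans hy.symm
  obtain ⟨n, hn⟩ := Complex.exp_eq_exp_iff_exists_int.mp this
  refine ⟨n, ?_⟩
  have := congrArg Complex.im hn
  simp at this
  linarith

theorem quad_re_pos (m : ℕ) (t : ℤ → ℂ) (s : Finset ℤ) (hs : ∀ k, k ∉ s → t k = 0)
    (hpos : Set.Countable {y : ℝ | ¬ 0 < (symb t s y).re}) (x : Fin m → ℂ) (hx : x ≠ 0) :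
    0 < (∑ i : Fin m, ∑ j : Fin m, conj (x i) * t ((j : ℤ) - (i : ℤ)) * x j).re := by
  set g : ℝ → ℝ := fun y => (symb t s y).re * Complex.normSq (trigP x y)
  have hg : Continuous g := (Complex.continuous_re.comp (continuous_symb t s)).mul
    (Complex.continuous_normSq.comp (continuous_trigP x))
  have hnn : ∀ y, 0 ≤ g y := by
    intro y
    refine mul_nonneg ?_ (Complex.normSq_nonneg _)
    have hd : Dense {y : ℝ | ¬ 0 < (symb t s y).re}ᶜ := hpos.dense_compl ℝ
    have hc : IsClosed {y : ℝ | 0 ≤ (symb t s y).re} :=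
      isClosed_le continuous_const (Complex.continuous_re.comp (continuous_symb t s))
    exact hc.closure_subset_iff.mpr (fun z hz => le_of_lt (not_not.mp hz)) (hd y)
  have hex : ∃ c ∈ Set.Icc 0 (2 * Real.pi), 0 < g c := by
    have hu : ¬ (Set.Ioo 0 (2 * Real.pi)).Countable := by
      rw [← Cardinal.le_aleph0_iff_set_countable, not_le, Cardinal.mk_Ioo_real (by positivity)]
      exact Cardinal.aleph0_lt_continuum
    obtain ⟨c, hc, hc'⟩ := Set.not_subset.mp fun h => hu ((hpos.union (countable_trigP_zero x hx)).mono h)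
    simp only [Set.mem_union, Set.mem_ofPred_eq, not_or, not_not] at hc'
    exact ⟨c, Set.Ioo_subset_Icc_self hc, mul_pos hc'.1 (Complex.normSq_pos.mpr hc'.2)⟩
  have hint : 0 < ∫ y in (0:ℝ)..(2 * Real.pi), g y :=
    intervalIntegral.integral_pos (by positivity) hg.continuousOn (fun y _ => hnn y) hex
  have h := congrArg Complex.re (integral_symb_mul m t s hs x)
  have hF : IntervalIntegrable (fun y => symb t s y * (conj (trigP x y) * trigP x y)) volume 0 (2 * Real.pi) := by
    refine Continuous.intervalIntegrable ?_ _ _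
    have := continuous_symb t s
    have := continuous_trigP x
    fun_prop
  rw [← Complex.reCLM_apply, ← ContinuousLinearMap.intervalIntegral_comp_comm _ hF] at h
  rw [Complex.re_ofReal_mul] at h
  have e : (fun y => Complex.reCLM (symb t s y * (conj (trigP x y) * trigP x y))) = g := by
    funext y
    rw [← Complex.normSq_eq_conj_mul_self, Complex.reCLM_apply, Complex.mul_re]
    simp [g]
  rw [e] at h
  rw [h] at hint
  exact pos_of_mul_pos_right hint (by positivity)

lemma one_sub_exp (y : ℝ) : 1 - Complex.exp (Complex.I * (y : ℂ)) =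
    Complex.exp (Complex.I * ((y / 2 : ℝ) : ℂ)) * (-2 * Complex.I * ((Real.sin (y / 2) : ℝ) : ℂ)) := by
  have h1 : Complex.exp (Complex.I * (y : ℂ)) =
      Complex.exp (Complex.I * ((y / 2 : ℝ) : ℂ)) * Complex.exp (Complex.I * ((y / 2 : ℝ) : ℂ)) := by
    rw [← Complex.exp_add]; congr 1; push_cast; ring
  rw [h1, Complex.ofReal_sin]
  simp only [mul_comm Complex.I ((y / 2 : ℝ) : ℂ), Complex.exp_mul_I]
  linear_combination -(Complex.sin_sq_add_cos_sq ((y / 2 : ℝ) : ℂ)) +
    (Complex.sin ((y / 2 : ℝ) : ℂ)) ^ 2 * Complex.I_sq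

lemma countable_sin_half_zero : {y : ℝ | Real.sin (y / 2) = 0}.Countable := by
  refine Set.Countable.mono ?_ (Set.countable_range fun n : ℤ => 2 * (n * Real.pi))
  intro y hy
  obtain ⟨n, hn⟩ := Real.sin_eq_zero_iff.mp hy
  exact ⟨n, by simp only; linarith⟩

/-- support of the signed binomial sequence -/
def binSupp (N a : ℕ) : Finset ℤ :=
  (Finset.range (N + 1)).map ⟨fun j : ℕ => (j : ℤ) - a, fun p q (h : (p : ℤ) - a = q - a) => by omega⟩

/-- signed binomial sequence `(-1)^k C(N, a+k)` -/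
noncomputable def sbin (N a : ℕ) (k : ℤ) : ℂ :=
  if -(a : ℤ) ≤ k then (-1 : ℂ) ^ k * (Nat.choose N ((a : ℤ) + k).toNat : ℂ) else 0

lemma sbin_supp (N a : ℕ) (k : ℤ)
    (hk : k ∉ binSupp N a) :
    sbin N a k = 0 := by
  unfold sbin
  split_ifs with h
  · rw [Nat.choose_eq_zero_of_lt]
    · simp
    · by_contra hc
      apply hk
      exact Finset.mem_map.mpr ⟨((a : ℤ) + k).toNat, Finset.mem_range.mpr (by omega),
        by show (((a : ℤ) + k).toNat : ℤ) - a = k; omega⟩
  · rfl

lemma symb_sbin (N a : ℕ) (y : ℝ) :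
    symb (sbin N a) (binSupp N a) y =
      (-1 : ℂ) ^ a * Complex.exp (Complex.I * ((y / 2 : ℝ) : ℂ)) ^ ((N : ℤ) - 2 * a) *
        (-2 * Complex.I * ((Real.sin (y / 2) : ℝ) : ℂ)) ^ N := by
  set z := Complex.exp (Complex.I * (y : ℂ)) with hz
  have h1 : (1 - z) ^ N = ∑ j ∈ Finset.range (N + 1), (-z) ^ j * (N.choose j : ℂ) := by
    rw [show 1 - z = -z + 1 by ring, add_pow]; simp
  have h2 : symb (sbin N a) (binSupp N a) y =
      (-1 : ℂ) ^ a * (z ^ a)⁻¹ * (1 - z) ^ N := by
    rw [h1, Finset.mul_sum, symb, binSupp, Finset.sum_map]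
    refine Finset.sum_congr rfl fun j _ => ?_
    show sbin N a ((j : ℤ) - a) * Complex.exp (Complex.I * (((j : ℤ) - a : ℤ) : ℂ) * (y : ℂ)) = _
    simp only [sbin]
    rw [if_pos (by omega), show ((a : ℤ) + ((j : ℤ) - a)).toNat = j by omega,
      show Complex.exp (Complex.I * (((j : ℤ) - a : ℤ) : ℂ) * (y : ℂ)) = z ^ ((j : ℤ) - a) by
        rw [hz, ← Complex.exp_int_mul]; congr 1; push_cast; ring,
      zpow_sub₀ (Complex.exp_ne_zero _), zpow_sub₀ (by norm_num : (-1 : ℂ) ≠ 0)]
    simp only [zpow_natCast, neg_pow z]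
    have hz0 : z ≠ 0 := Complex.exp_ne_zero _
    rw [← hz]
    clear_value z
    clear hz h1
    rcases neg_one_pow_eq_or ℂ a with h | h <;> rw [h] <;> field_simp
  rw [h2, hz, one_sub_exp, mul_pow]
  set w := Complex.exp (Complex.I * ((y / 2 : ℝ) : ℂ)) with hw
  have hzw : z = w ^ 2 := by rw [hz, hw, ← Complex.exp_nat_mul]; congr 1; push_cast; ring
  rw [← hz, hzw, zpow_sub₀ (by rw [hw]; exact Complex.exp_ne_zero _), zpow_natCast,
    show (2 * (a : ℤ)) = ((2 * a : ℕ) : ℤ) by push_cast; ring, zpow_natCast, ← pow_mul]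
  ring

end Groth.Misc15
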