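import Groth.Prelude.Def_W4c6gradedringsgwSect
import Groth.Agent.FunFld1.Gaps
import Mathlib

/-! The section ring of a point on a curve and its Weierstrass semigroup. -/

set_option autoImplicit false
open WithZero FunFld Polynomial Groth.FunFld1 W4c6gradedringsgw
open scoped Multiplicative

namespace Groth.Misc15.Weier

lemma mul_lt_one' {a b : ℤᵐ⁰} (ha : a ≤ 1) (hb : b < 1) : a * b < 1 :=
  (mul_le_mul' ha le_rfl).trans_lt (by rwa [one_mul])

universe u
variable {k K : Type u} [Field k] [Field K] [Algebra k K]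

/-- `n` is a non-gap -/
def NG (P : Place k K) (n : ℕ) : Prop :=
  L (Finsupp.single P (n : ℤ)) ≠ L (Finsupp.single P ((n : ℤ) - 1))

variable {P : Place k K}

lemma smul_single_one (n : ℤ) : n • (Finsupp.single P 1 : Divisor k K) = Finsupp.single P n := by
  simp [Finsupp.smul_single]

lemma mem_R {p : K[X]} :
    p ∈ sectRing (Finsupp.single P 1 : Divisor k K) ↔ ∀ n : ℕ, p.coeff n ∈ L (Finsupp.single P (n : ℤ)) := by
  show (∀ n : ℕ, p.coeff n ∈ L ((n : ℤ) • Finsupp.single P 1)) ↔ _
  simp only [smul_single_one]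

lemma mono_R {n : ℕ} {x : K} (hx : x ∈ L (Finsupp.single P (n : ℤ))) :
    monomial n x ∈ sectRing (Finsupp.single P 1 : Divisor k K) := by
  rw [mem_R]
  intro m
  rw [coeff_monomial]
  split_ifs with h
  · exact h ▸ hx
  · exact zero_mem _

lemma L_single_mono (m n : ℤ) (h : m ≤ n) : L (Finsupp.single P m) ≤ L (Finsupp.single P n) :=
  L_mono (Finsupp.single_le_single.mpr h)

/-- leading constant -/
noncomputable def lc (P : Place k K) (x : K) : k :=
  open Classical in if h : ∃ c : k, P.1 (x - algebraMap k K c) < 1 then h.choose else 0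

lemma lc_eq {x : K} {c : k} (h : P.1 (x - algebraMap k K c) < 1) : lc P x = c := by
  classical
  have hex : ∃ c : k, P.1 (x - algebraMap k K c) < 1 := ⟨c, h⟩
  rw [lc, dif_pos hex]
  by_contra hne
  have h2 := hex.choose_spec
  have h3 : P.1 (algebraMap k K (hex.choose - c)) < 1 := by
    rw [map_sub, show algebraMap k K hex.choose - algebraMap k K c =
      (x - algebraMap k K c) - (x - algebraMap k K hex.choose) by ring]
    exact (P.1.map_sub _ _).trans_lt (max_lt h h2)
  rw [val_algebraMap P (sub_ne_zero.mpr hne)] at h3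
  exact lt_irrefl _ h3

lemma lc_const (c : k) : lc P (algebraMap k K c) = c := lc_eq (by simp)

lemma lc_of_lt {x : K} (h : P.1 x < 1) : lc P x = 0 := lc_eq (by simpa using h)

lemma lc_zero : lc P (0 : K) = 0 := lc_of_lt (by simp)

section Deg
variable (hP : P.deg = 1)
include hP

lemma sub_lc_lt {x : K} (hx : P.1 x ≤ 1) : P.1 (x - algebraMap k K (lc P x)) < 1 := by
  obtain ⟨c, hc⟩ := exists_const_sub_lt_one hP hx
  rwa [lc_eq hc]

lemma lt_of_lc_eq_zero {x : K} (hx : P.1 x ≤ 1) (h : lc P x = 0) : P.1 x < 1 := by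
  simpa [h] using sub_lc_lt hP hx

lemma lc_add {x y : K} (hx : P.1 x ≤ 1) (hy : P.1 y ≤ 1) : lc P (x + y) = lc P x + lc P y :=
  lc_eq (by
    rw [map_add, add_sub_add_comm]
    exact (P.1.map_add _ _).trans_lt (max_lt (sub_lc_lt hP hx) (sub_lc_lt hP hy)))

lemma lc_mul {x y : K} (hx : P.1 x ≤ 1) (hy : P.1 y ≤ 1) : lc P (x * y) = lc P x * lc P y :=
  lc_eq (by
    rw [map_mul, show x * y - algebraMap k K (lc P x) * algebraMap k K (lc P y) =
      x * (y - algebraMap k K (lc P y)) + algebraMap k K (lc P y) * (x - algebraMap k K (lc P x)) by ring]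
    refine (P.1.map_add _ _).trans_lt (max_lt ?_ ?_)
    · rw [map_mul]; exact mul_lt_one'  hx (sub_lc_lt hP hy)
    · rw [map_mul]; exact mul_lt_one'  (val_algebraMap_le P _) (sub_lc_lt hP hx))

lemma lc_sum {ι : Type*} (s : Finset ι) (f : ι → K) (hf : ∀ i ∈ s, P.1 (f i) ≤ 1) :
    lc P (∑ i ∈ s, f i) = ∑ i ∈ s, lc P (f i) := by
  classical
  induction s using Finset.induction with
  | empty => simp [lc_zero]
  | insert a s ha ih =>
    have h := fun i hi => hf i (Finset.mem_insert_of_mem hi)
    rw [Finset.sum_insert ha, Finset.sum_insert ha, lc_add hP (hf a (Finset.mem_insert_self a s))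
      (P.1.map_sum_le h), ih h]

end Deg

/-- a uniformizer -/
noncomputable def unif (P : Place k K) : K := (exists_uniformizer P).choose

lemma val_unif : P.1 (unif P) = exp (-1) := (exists_uniformizer P).choose_spec.2

lemma val_unif_pow (n : ℕ) : P.1 (unif P ^ n) = exp (-(n : ℤ)) := by
  rw [map_pow, val_unif, ← WithZero.exp_nsmul]; simp

lemma val_mul_unif_pow (x : K) (n : ℕ) : P.1 (x * unif P ^ n) = P.1 x * exp (-(n : ℤ)) := by
  rw [map_mul, val_unif_pow]

lemma int_of_mem {n : ℕ} {x : K} (hx : x ∈ L (Finsupp.single P (n : ℤ))) : P.1 (x * unif P ^ n) ≤ 1 := by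
  have h := hx P
  rw [Finsupp.single_eq_same] at h
  rw [val_mul_unif_pow]
  refine (mul_le_mul_left h _).trans ?_
  rw [← exp_add, Groth.FunFld1.exp_le_one]; omega

lemma small_of_mem {n : ℕ} {x : K} (hx : x ∈ L (Finsupp.single P ((n : ℤ) - 1))) :
    P.1 (x * unif P ^ n) < 1 := by
  have h := hx P
  rw [Finsupp.single_eq_same] at h
  rw [val_mul_unif_pow]
  refine (mul_le_mul_left h _).trans_lt ?_
  rw [← exp_add, Groth.FunFld1.exp_lt_one]; omega

lemma mem_pred_of_small {n : ℕ} {x : K} (hx : x ∈ L (Finsupp.single P (n : ℤ)))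
    (h : P.1 (x * unif P ^ n) < 1) : x ∈ L (Finsupp.single P ((n : ℤ) - 1)) := by
  intro Q
  by_cases hQ : Q = P
  · subst hQ
    rcases eq_or_ne x 0 with rfl | hx0
    · simp
    · rw [Finsupp.single_eq_same]
      rw [val_mul_unif_pow, val_eq_exp_neg_ord Q hx0, ← exp_add, Groth.FunFld1.exp_lt_one] at h
      rw [val_eq_exp_neg_ord Q hx0, exp_le_exp]; omega
  · have := hx Q
    simpa [Finsupp.single_eq_of_ne hQ] using this

/-- leading coefficient in degree `n` -/
noncomputable def lam (P : Place k K) (n : ℕ) (x : K) : k := lc P (x * unif P ^ n)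

/-- leading coefficients of a polynomial -/
noncomputable def pi0 (P : Place k K) (p : K[X]) : k[X] :=
  ∑ n ∈ p.support, monomial n (lam P n (p.coeff n))

lemma pi0_coeff (p : K[X]) (n : ℕ) : (pi0 P p).coeff n = lam P n (p.coeff n) := by
  classical
  simp only [pi0, finsetSum_coeff, coeff_monomial, Finset.sum_ite_eq', mem_support_iff]
  split_ifs with h
  · rfl
  · rw [not_not] at h; simp [h, lam, lc_zero]

section Main
variable [IsAlgClosed k] (hK : IsFunctionField k K)
include hK

lemma deg_P : P.deg = 1 := deg_eq_one_of_isAlgClosed (IsFF.of_isFunctionField hK) P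

lemma ell_succ_le (n : ℕ) :
    (ell (Finsupp.single P (n : ℤ)) : ℤ) ≤ ell (Finsupp.single P ((n : ℤ) - 1)) + 1 := by
  have h := (IsFF.of_isFunctionField hK).ell_sub_le
    (Finsupp.single_le_single.mpr (show (n : ℤ) - 1 ≤ n by omega) : Finsupp.single P ((n : ℤ) - 1) ≤ Finsupp.single P (n : ℤ))
  rw [deg_single, deg_single, deg_P hK] at h
  omega

lemma ng_iff_ell (n : ℕ) : NG P n ↔
    ell (Finsupp.single P (n : ℤ)) = ell (Finsupp.single P ((n : ℤ) - 1)) + 1 := by
  have hle := L_single_mono (P := P) ((n : ℤ) - 1) n (by omega)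
  have := (IsFF.of_isFunctionField hK).finiteDimensional_L (Finsupp.single P (n : ℤ))
  constructor
  · intro h
    have h1 := ell_succ_le (P := P) hK n
    have h2 : ell (Finsupp.single P ((n : ℤ) - 1)) < ell (Finsupp.single P (n : ℤ)) :=
      Submodule.finrank_lt_finrank_of_lt (lt_of_le_of_ne hle (Ne.symm h))
    omega
  · intro h he
    unfold ell at h
    rw [he] at h
    omega

lemma poleOrders_eq : poleOrders P = {n | NG P n} := by
  ext n
  simp only [poleOrders, Set.mem_ofPred_eq, smul_single_one, ng_iff_ell hK n]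

lemma ng_zero : NG P 0 := by
  rw [ng_iff_ell hK, Nat.cast_zero, Finsupp.single_zero, ell_zero_eq hK]
  have : ell (Finsupp.single P ((0 : ℤ) - 1)) = 0 := by
    unfold ell
    rw [(IsFF.of_isFunctionField hK).L_eq_bot_of_deg_neg (by rw [deg_single, deg_P hK]; omega)]
    exact finrank_bot k K
  omega

/-- the semigroup of non-gaps -/
def H (P : Place k K) : AddSubmonoid ℕ where
  carrier := {n | NG P n}
  add_mem' := fun ha hb => not_gap_add ha hb
  zero_mem' := ng_zero hK

lemma closure_eq : AddSubmonoid.closure (poleOrders P) = H hK P := by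
  rw [poleOrders_eq hK]
  exact AddSubmonoid.closure_eq (H hK P)

lemma ng_large {n : ℕ} (h0 : 1 ≤ n) (h : 2 * genus k K ≤ n) : NG P n := by
  rw [ng_iff_ell hK]
  have h1 := ell_eq_of_deg_ge hK (D := Finsupp.single P (n : ℤ)) (by rw [deg_single, deg_P hK]; omega)
  have h2 := ell_eq_of_deg_ge hK (D := Finsupp.single P ((n : ℤ) - 1)) (by rw [deg_single, deg_P hK]; omega)
  rw [deg_single, deg_P hK] at h1 h2
  omega

lemma not_ng_one (hg : 1 ≤ genus k K) : ¬ NG P 1 := by
  intro h
  have hall : ∀ n, NG P n := fun n => by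
    induction n with
    | zero => exact ng_zero hK
    | succ n ih => exact not_gap_add ih h
  have h1 := ncard_gapSet_eq_genus hK (deg_P (P := P) hK) (n := 2 * genus k K) (by omega)
  have h2 : gapSet P (2 * genus k K) = ∅ := Set.eq_empty_of_forall_notMem fun m hm => hall m hm.2.2
  rw [h2, Set.ncard_empty] at h1
  omega

lemma exists_lam_eq_one {n : ℕ} (h : NG P n) :
    ∃ x ∈ L (Finsupp.single P (n : ℤ)), lam P n x = 1 := by
  obtain ⟨x, hx, hxP⟩ := exists_of_not_gap h
  have hne : lam P n x ≠ 0 := fun h0 => by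
    have := lt_of_lc_eq_zero (deg_P hK) (int_of_mem hx) h0
    rw [val_mul_unif_pow, hxP, ← exp_add, Groth.FunFld1.exp_lt_one] at this
    omega
  refine ⟨algebraMap k K (lam P n x)⁻¹ * x, ?_, ?_⟩
  · rw [← Algebra.smul_def]; exact Submodule.smul_mem _ _ hx
  · rw [lam, mul_assoc, lc_mul (deg_P hK) (val_algebraMap_le P _) (int_of_mem hx), lc_const]
    exact inv_mul_cancel₀ hne

/-- the map to the semigroup algebra -/
noncomputable def piR (P : Place k K) : sectRing (Finsupp.single P 1 : Divisor k K) →ₐ[k] k[X] where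
  toFun p := pi0 P p.1
  map_one' := by
    ext n
    rw [pi0_coeff, OneMemClass.coe_one, coeff_one, coeff_one]
    split_ifs with h
    · subst h; rw [lam, pow_zero, one_mul]; simpa using lc_const (P := P) (1 : k)
    · simp [lam, lc_zero]
  map_mul' p q := by
    ext n
    rw [pi0_coeff, MulMemClass.coe_mul, coeff_mul, coeff_mul]
    have hi : ∀ x ∈ Finset.HasAntidiagonal.antidiagonal n, p.1.coeff x.1 * q.1.coeff x.2 * unif P ^ n =
        (p.1.coeff x.1 * unif P ^ x.1) * (q.1.coeff x.2 * unif P ^ x.2) := fun x hx => by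
      rw [← Finset.HasAntidiagonal.mem_antidiagonal.mp hx, pow_add]; ring
    have hint : ∀ x : ℕ × ℕ, P.1 (p.1.coeff x.1 * unif P ^ x.1) ≤ 1 ∧ P.1 (q.1.coeff x.2 * unif P ^ x.2) ≤ 1 :=
      fun x => ⟨int_of_mem (mem_R.mp p.2 _), int_of_mem (mem_R.mp q.2 _)⟩
    rw [lam, Finset.sum_mul, Finset.sum_congr rfl hi, lc_sum (deg_P hK) _ _
      (fun x _ => by rw [map_mul]; exact mul_le_one' (hint x).1 (hint x).2)]
    refine Finset.sum_congr rfl fun x _ => ?_
    rw [lc_mul (deg_P hK) (hint x).1 (hint x).2, pi0_coeff, pi0_coeff, lam, lam]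
  map_zero' := by
    ext n
    simp [pi0_coeff, lam, lc_zero]
  map_add' p q := by
    ext n
    rw [coeff_add, pi0_coeff, pi0_coeff, pi0_coeff, AddMemClass.coe_add, coeff_add, lam, lam, lam, add_mul,
      lc_add (deg_P hK) (int_of_mem (mem_R.mp p.2 n)) (int_of_mem (mem_R.mp q.2 n))]
  commutes' c := by
    ext n
    show (pi0 P (algebraMap k K[X] c)).coeff n = _
    rw [pi0_coeff, Polynomial.algebraMap_apply, Polynomial.algebraMap_apply, coeff_C, coeff_C]
    split_ifs with h
    · subst h; rw [lam, pow_zero, mul_one]; exact lc_const c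
    · simp [lam, lc_zero]

lemma piR_coeff (p : sectRing (Finsupp.single P 1 : Divisor k K)) (n : ℕ) :
    (piR hK P p).coeff n = lam P n (p.1.coeff n) := pi0_coeff _ _

lemma piR_coeff_gap (p : sectRing (Finsupp.single P 1 : Divisor k K)) {n : ℕ} (h : ¬ NG P n) :
    (piR hK P p).coeff n = 0 := by
  rw [piR_coeff]
  refine lc_of_lt (small_of_mem ?_)
  rw [← (not_not.mp h : L (Finsupp.single P (n : ℤ)) = L (Finsupp.single P ((n : ℤ) - 1)))]
  exact mem_R.mp p.2 n

lemma range_piR :
    (piR hK P).range = ((Polynomial.toFinsuppIsoAlg k).symm.toAlgHom.comp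
      (AddMonoidAlgebra.mapDomainAlgHom k k (H hK P).subtype)).range := by
  set φ := (Polynomial.toFinsuppIsoAlg k).symm.toAlgHom.comp
    (AddMonoidAlgebra.mapDomainAlgHom k k (H hK P).subtype)
  have hφ : ∀ (h : H hK P) (c : k), φ (AddMonoidAlgebra.single h c) = monomial (h : ℕ) c := fun h c => by
    refine ((Polynomial.toFinsuppIsoAlg k).symm_apply_eq.mpr ?_)
    simp [Polynomial.toFinsuppIsoAlg, Polynomial.toFinsupp_monomial]
  apply le_antisymm
  · rintro _ ⟨p, rfl⟩
    show piR hK P p ∈ φ.range
    rw [as_sum_support (piR hK P p)]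
    refine sum_mem fun n hn => ?_
    have hng : NG P n := by
      by_contra h
      exact mem_support_iff.mp hn (piR_coeff_gap hK p h)
    exact ⟨_, hφ ⟨n, hng⟩ _⟩
  · rintro _ ⟨f, rfl⟩
    show φ f ∈ (piR hK P).range
    induction f using AddMonoidAlgebra.induction_linear with
    | zero => simp
    | add f g hf hg => rw [map_add]; exact add_mem hf hg
    | single h c =>
      rw [hφ]
      obtain ⟨x, hx, hx1⟩ := exists_lam_eq_one hK h.2
      have : monomial (h : ℕ) c = c • monomial (h : ℕ) (1 : k) := by rw [smul_monomial, smul_eq_mul, mul_one]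
      rw [this]
      refine Subalgebra.smul_mem _ (show monomial (h : ℕ) (1 : k) ∈ (piR hK P).range from ⟨⟨_, mono_R hx⟩, ?_⟩) c
      ext m
      show (pi0 P _).coeff m = _
      rw [pi0_coeff, coeff_monomial, coeff_monomial]
      split_ifs with e
      · subst e; exact hx1
      · simp [lam, lc_zero]

lemma piR_eq_zero_iff (p : sectRing (Finsupp.single P 1 : Divisor k K)) :
    piR hK P p = 0 ↔ ∃ q ∈ sectRing (Finsupp.single P 1 : Divisor k K), p.1 = X * q := by
  constructor
  · intro h
    have hm : ∀ n : ℕ, p.1.coeff n ∈ L (Finsupp.single P ((n : ℤ) - 1)) := fun n =>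
      mem_pred_of_small (mem_R.mp p.2 n) (lt_of_lc_eq_zero (deg_P hK) (int_of_mem (mem_R.mp p.2 n))
        (by rw [← lam, ← piR_coeff hK, h, coeff_zero]))
    refine ⟨p.1.divX, mem_R.mpr fun n => ?_, ?_⟩
    · rw [coeff_divX]
      simpa using hm (n + 1)
    · have h0 : p.1.coeff 0 = 0 := by
        have := hm 0
        rw [(IsFF.of_isFunctionField hK).L_eq_bot_of_deg_neg (by rw [deg_single, deg_P hK]; omega)] at this
        simpa using this
      conv_lhs => rw [← X_mul_divX_add p.1, h0, map_zero, add_zero]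
  · rintro ⟨q, hq, e⟩
    ext n
    rw [piR_coeff, coeff_zero, e]
    cases n with
    | zero => simp [lam, lc_zero]
    | succ n =>
      rw [coeff_X_mul]
      refine lc_of_lt (small_of_mem ?_)
      simpa using mem_R.mp hq n

lemma L_one_eq (hg : 1 ≤ genus k K) : L (Finsupp.single P ((1 : ℕ) : ℤ)) = 1 := by
  rw [not_not.mp (not_ng_one (P := P) hK hg : ¬ NG P 1)]
  simpa using L_zero_eq hK

theorem main68 (hg : 1 ≤ genus k K) (t : sectRing (Finsupp.single P 1 : Divisor k K)) (a : K) (ha : a ≠ 0)
    (ht : (t : K[X]) = C a * X) :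
    Prime t ∧ Nonempty ((sectRing (Finsupp.single P 1 : Divisor k K) ⧸ Ideal.span {t}) ≃ₐ[k]
      AddMonoidAlgebra k (AddSubmonoid.closure (poleOrders P))) := by
  have haL : a ∈ L (Finsupp.single P ((1 : ℕ) : ℤ)) := by
    have := mem_R.mp t.2 1
    rwa [ht, coeff_C_mul, coeff_X_one, mul_one] at this
  rw [L_one_eq hK hg, Submodule.mem_one] at haL
  obtain ⟨c, rfl⟩ := haL
  have hc : c ≠ 0 := fun h => ha (by rw [h, map_zero])
  have hker : RingHom.ker (piR hK P) = Ideal.span {t} := by
    ext p
    rw [RingHom.mem_ker, piR_eq_zero_iff hK, Ideal.mem_span_singleton]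
    constructor
    · rintro ⟨q, hq, e⟩
      refine ⟨c⁻¹ • ⟨q, hq⟩, Subtype.ext ?_⟩
      rw [MulMemClass.coe_mul, SetLike.val_smul, ht, e, Algebra.smul_def, Polynomial.algebraMap_apply,
        mul_mul_mul_comm, ← map_mul, ← map_mul, mul_inv_cancel₀ hc]
      simp [mul_comm X]
    · rintro ⟨q, rfl⟩
      refine ⟨(c • q : sectRing (Finsupp.single P 1 : Divisor k K)).1, SetLike.coe_mem _, ?_⟩
      rw [MulMemClass.coe_mul, SetLike.val_smul, ht, Algebra.smul_def, Polynomial.algebraMap_apply]
      ring
  have ht0 : t ≠ 0 := fun h => by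
    have := congrArg (fun p : sectRing (Finsupp.single P 1 : Divisor k K) => p.1.coeff 1) h
    simp [ht, hc] at this
  refine ⟨(Ideal.span_singleton_prime ht0).mp (hker ▸ RingHom.ker_isPrime _), ⟨?_⟩⟩
  let φ := (Polynomial.toFinsuppIsoAlg k).symm.toAlgHom.comp
    (AddMonoidAlgebra.mapDomainAlgHom k k (H hK P).subtype)
  have hφ : Function.Injective φ :=
    (Polynomial.toFinsuppIsoAlg k).symm.injective.comp (AddMonoidAlgebra.mapDomain_injective Subtype.val_injective)
  exact (Ideal.quotientEquivAlgOfEq k hker.symm).trans ((Ideal.quotientKerEquivRange (piR hK P)).trans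
    ((Subalgebra.equivOfEq _ _ (range_piR hK)).trans ((AlgEquiv.ofInjective φ hφ).symm.trans
      ((closure_eq (P := P) hK).symm ▸ AlgEquiv.refl))))

lemma minGens_eq : minGens (poleOrders P) = {h | NG P h ∧ h ≠ 0 ∧ ∀ a, NG P a → ∀ b, NG P b → a ≠ 0 → b ≠ 0 → a + b ≠ h} := by
  rw [poleOrders_eq hK]; rfl

lemma finite_minGens : (minGens (poleOrders P)).Finite := by
  refine (Set.finite_le_nat (4 * genus k K + 2)).subset fun h hh => ?_
  rw [minGens_eq hK] at hh
  obtain ⟨-, -, hsum⟩ := hh
  by_contra hlt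
  rw [Set.mem_ofPred_eq, not_le] at hlt
  exact hsum (2 * genus k K + 1) (ng_large hK (by omega) (by omega)) (h - (2 * genus k K + 1))
    (ng_large hK (by omega) (by omega)) (by omega) (by omega) (by omega)

theorem main70 (hg : 1 ≤ genus k K) :
    (RingHom.ker (Polynomial.constantCoeff.comp
      (sectRing (Finsupp.single P 1 : Divisor k K)).val.toRingHom)).spanFinrank =
        Set.ncard (minGens (poleOrders P)) + 1 := by
  classical
  set R := sectRing (Finsupp.single P 1 : Divisor k K)
  set m := RingHom.ker (Polynomial.constantCoeff.comp R.val.toRingHom)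
  have hmem : ∀ p : R, p ∈ m ↔ p.1.coeff 0 = 0 := fun p => RingHom.mem_ker
  set G := (finite_minGens (P := P) hK).toFinset with hG
  have hGmem : ∀ n, n ∈ G → NG P n ∧ n ≠ 0 ∧ ∀ a, NG P a → ∀ b, NG P b → a ≠ 0 → b ≠ 0 → a + b ≠ n := fun n hn => by
    rw [hG, Set.Finite.mem_toFinset, minGens_eq hK] at hn
    exact hn
  have h1G : 1 ∉ G := fun h => not_ng_one hK hg (hGmem 1 h).1
  have hcard : (insert 1 G).card = Set.ncard (minGens (poleOrders P)) + 1 := by
    rw [Finset.card_insert_of_notMem h1G, hG, Set.ncard_eq_toFinset_card _ (finite_minGens hK)]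
  rw [← hcard]
  have h1R : (1 : K) ∈ L (Finsupp.single P ((1 : ℕ) : ℤ)) := by
    rw [L_one_eq hK hg]; exact Submodule.mem_one.mpr ⟨1, map_one _⟩
  have hx : ∀ n : ℕ, ∃ x ∈ L (Finsupp.single P (n : ℤ)), (n = 1 → x = 1) ∧ (n ∈ G → lam P n x = 1) := fun n => by
    by_cases h1 : n = 1
    · subst h1; exact ⟨1, h1R, fun _ => rfl, fun h => absurd h h1G⟩
    · by_cases h : n ∈ G
      · obtain ⟨x, hx, hx1⟩ := exists_lam_eq_one hK (hGmem n h).1
        exact ⟨x, hx, fun e => absurd e h1, fun _ => hx1⟩
      · exact ⟨0, zero_mem _, fun e => absurd e h1, fun e => absurd e h⟩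
  choose x hxL hx1 hxG using hx
  let e : ℕ → R := fun n => ⟨monomial n (x n), mono_R (hxL n)⟩
  have hne0 : ∀ n ∈ insert 1 G, n ≠ 0 := fun n hn => by
    rcases Finset.mem_insert.mp hn with rfl | h
    · exact one_ne_zero
    · exact (hGmem n h).2.1
  have hspan : m = Ideal.span (((insert 1 G).image e : Finset R) : Set R) := by
    apply le_antisymm
    · set I := Ideal.span (((insert 1 G).image e : Finset R) : Set R)
      have hgen : ∀ n ∈ insert 1 G, e n ∈ I := fun n hn =>
        Ideal.subset_span (Finset.mem_coe.mpr (Finset.mem_image_of_mem e hn))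
      have hstep : ∀ (n : ℕ) (y : K), y ∈ L (Finsupp.single P ((n : ℤ) - 1)) → 1 ≤ n →
          ∀ hy : monomial n y ∈ R, (⟨_, hy⟩ : R) ∈ I := by
        intro n y hy hn hyR
        obtain ⟨j, rfl⟩ : ∃ j, n = j + 1 := ⟨n - 1, by omega⟩
        have hy' : y ∈ L (Finsupp.single P (j : ℤ)) := by simpa using hy
        have : (⟨_, hyR⟩ : R) = e 1 * ⟨monomial j y, mono_R hy'⟩ := Subtype.ext (by
          show monomial (j + 1) y = monomial 1 (x 1) * monomial j y
          rw [hx1 1 rfl, monomial_mul_monomial, one_mul, add_comm])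
        rw [this]
        exact Ideal.mul_mem_right _ _ (hgen 1 (Finset.mem_insert_self 1 G))
      have hng : ∀ n, NG P n → 1 ≤ n → ∃ y, ∃ hy : y ∈ L (Finsupp.single P (n : ℤ)),
          lam P n y = 1 ∧ (⟨monomial n y, mono_R hy⟩ : R) ∈ I := by
        intro n
        induction n using Nat.strong_induction_on with
        | _ n ih =>
          intro hn h1
          by_cases hGn : n ∈ G
          · exact ⟨x n, hxL n, hxG n hGn, hgen n (Finset.mem_insert_of_mem hGn)⟩
          · rw [hG, Set.Finite.mem_toFinset, minGens_eq hK, Set.mem_ofPred_eq] at hGn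
            simp only [not_and, not_forall, not_not] at hGn
            obtain ⟨a, ha, b, hb, ha0, hb0, hab⟩ := hGn hn (by omega)
            subst hab
            obtain ⟨y, hy, hy1, hyI⟩ := ih a (by omega) ha (by omega)
            obtain ⟨z, hz, hz1, -⟩ := ih b (by omega) hb (by omega)
            have hyz : y * z ∈ L (Finsupp.single P ((a + b : ℕ) : ℤ)) := by
              have := mul_mem_L hy hz
              rwa [← Finsupp.single_add, ← Nat.cast_add] at this
            refine ⟨y * z, hyz, ?_, ?_⟩
            · rw [lam, pow_add, show y * z * (unif P ^ a * unif P ^ b) = (y * unif P ^ a) * (z * unif P ^ b) by ring,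
                lc_mul (deg_P hK) (int_of_mem hy) (int_of_mem hz)]
              rw [lam] at hy1 hz1
              rw [hy1, hz1, one_mul]
            · have : (⟨monomial (a + b) (y * z), mono_R hyz⟩ : R) = ⟨_, mono_R hy⟩ * ⟨_, mono_R hz⟩ :=
                Subtype.ext (monomial_mul_monomial a b y z).symm
              rw [this]
              exact Ideal.mul_mem_right _ _ hyI
      have hmon : ∀ (n : ℕ) (y : K) (hy : y ∈ L (Finsupp.single P (n : ℤ))), 1 ≤ n →
          (⟨monomial n y, mono_R hy⟩ : R) ∈ I := by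
        intro n y hy hn
        by_cases hgap : NG P n
        · obtain ⟨z, hz, hz1, hzI⟩ := hng n hgap hn
          set c := lam P n y
          have hd : y - algebraMap k K c * z ∈ L (Finsupp.single P (n : ℤ)) :=
            sub_mem hy (by rw [← Algebra.smul_def]; exact Submodule.smul_mem _ _ hz)
          have hd' : y - algebraMap k K c * z ∈ L (Finsupp.single P ((n : ℤ) - 1)) := by
            refine mem_pred_of_small hd ?_
            have h1 := sub_lc_lt (deg_P (P := P) hK) (int_of_mem hy)
            have h2 := sub_lc_lt (deg_P (P := P) hK) (int_of_mem hz)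
            rw [lam] at hz1
            rw [hz1, map_one] at h2
            rw [show (y - algebraMap k K c * z) * unif P ^ n =
              (y * unif P ^ n - algebraMap k K c) - algebraMap k K c * (z * unif P ^ n - 1) by ring]
            exact (P.1.map_sub _ _).trans_lt (max_lt h1 (by
              rw [map_mul]; exact mul_lt_one'  (val_algebraMap_le P _) h2))
          have : (⟨monomial n y, mono_R hy⟩ : R) = ⟨monomial n (y - algebraMap k K c * z), mono_R hd⟩ +
              c • ⟨monomial n z, mono_R hz⟩ := Subtype.ext (by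
            show monomial n y = monomial n (y - algebraMap k K c * z) + c • monomial n z
            rw [Algebra.smul_def, Polynomial.algebraMap_apply, C_mul_monomial, ← map_add, sub_add_cancel])
          rw [this]
          exact add_mem (hstep n _ hd' hn _) (Submodule.smul_of_tower_mem I c hzI)
        · refine hstep n y ?_ hn _
          rw [← (not_not.mp hgap : L (Finsupp.single P (n : ℤ)) = L (Finsupp.single P ((n : ℤ) - 1)))]
          exact hy
      intro p hp
      have : p = ∑ n ∈ p.1.support, (⟨monomial n (p.1.coeff n), mono_R (mem_R.mp p.2 n)⟩ : R) :=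
        Subtype.ext (by rw [AddSubmonoidClass.coe_finsetSum]; exact as_sum_support p.1)
      rw [this]
      refine sum_mem fun n hn => hmon n _ (mem_R.mp p.2 n) ?_
      by_contra h
      obtain rfl : n = 0 := by omega
      exact mem_support_iff.mp hn ((hmem p).mp hp)
    · rw [Ideal.span_le]
      intro p hp
      rw [Finset.mem_coe, Finset.mem_image] at hp
      obtain ⟨n, hn, rfl⟩ := hp
      exact (hmem _).mpr (by simp [e, coeff_monomial, hne0 n hn])
  have hfg : m.FG := ⟨_, hspan.symm⟩
  apply le_antisymm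
  · rw [hspan]
    exact ((Submodule.spanFinrank_span_le_ncard_of_finite (Finset.finite_toSet _)).trans
      (by rw [Set.ncard_coe_finset])).trans Finset.card_image_le
  · -- lower bound through the linear forms on `m` killing `m ^ 2`
    obtain ⟨s, hs, hsm⟩ := Submodule.FG.exists_span_finset_card_eq_spanFinrank hfg
    rw [← hs]
    let Ψ : R → ((insert 1 G : Finset ℕ) → k) := fun p n =>
      if (n : ℕ) = 1 then lc P (p.1.coeff 1) else (piR hK P p).coeff n
    have hint0 : ∀ p : R, P.1 (p.1.coeff 0) ≤ 1 := fun p => by simpa using int_of_mem (mem_R.mp p.2 0)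
    have hint1 : ∀ p : R, P.1 (p.1.coeff 1) ≤ 1 := fun p => by
      have h := mem_R.mp p.2 1
      rw [L_one_eq hK hg, Submodule.mem_one] at h
      obtain ⟨c, hc⟩ := h
      rw [← hc]; exact val_algebraMap_le P c
    have hadd : ∀ p q, Ψ (p + q) = Ψ p + Ψ q := fun p q => by
      funext n
      simp only [Ψ, Pi.add_apply]
      split_ifs
      · rw [AddMemClass.coe_add, coeff_add, lc_add (deg_P hK) (hint1 p) (hint1 q)]
      · rw [map_add, coeff_add]
    have hmul : ∀ r p : R, p ∈ m → Ψ (r * p) = lc P (r.1.coeff 0) • Ψ p := fun r p hp => by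
      funext n
      simp only [Ψ, Pi.smul_apply, smul_eq_mul]
      split_ifs with h1
      · rw [MulMemClass.coe_mul, coeff_mul, Finset.Nat.antidiagonal_succ]
        simp [(hmem p).mp hp, lc_mul (deg_P hK) (hint0 r) (hint1 p)]
      · rw [map_mul, coeff_mul, Finset.sum_eq_single (0, (n : ℕ))]
        · rw [piR_coeff hK, lam, pow_zero, mul_one]
        · rintro ⟨i, j⟩ hij hne
          have hsum : i + j = n := Finset.HasAntidiagonal.mem_antidiagonal.mp hij
          have hn : (n : ℕ) ∈ G := (Finset.mem_insert.mp n.2).resolve_left h1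
          by_cases hj : j = 0
          · subst hj
            rw [piR_coeff hK p, (hmem p).mp hp]; simp [lam, lc_zero]
          · by_cases hi : i = 0
            · exact absurd (by simp [hi, ← hsum]) hne
            · by_cases ha : NG P i
              · have hb : ¬ NG P j := fun hb => (hGmem _ hn).2.2 i ha j hb hi hj hsum
                rw [piR_coeff_gap hK p hb, mul_zero]
              · rw [piR_coeff_gap hK r ha, zero_mul]
        · intro h; exact absurd (Finset.HasAntidiagonal.mem_antidiagonal.mpr (zero_add _)) h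
    have hΨ0 : Ψ 0 = 0 := funext fun n => by simp [Ψ, lc_zero]
    have hmW : ∀ p ∈ m, Ψ p ∈ Submodule.span k (Set.range fun q : s => Ψ q) := by
      intro p hp
      have hp' : p ∈ Submodule.span R (s : Set R) := by rw [hsm]; exact hp
      clear hp
      induction hp' using Submodule.span_induction with
      | mem q hq => exact Submodule.subset_span ⟨⟨q, hq⟩, rfl⟩
      | zero => rw [hΨ0]; exact zero_mem _
      | add q q' _ _ h h' => rw [hadd]; exact add_mem h h'
      | smul r q hq h => rw [smul_eq_mul, hmul r q (hsm ▸ hq)]; exact Submodule.smul_mem _ _ h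
    have htop : Submodule.span k (Set.range fun q : s => Ψ q) = ⊤ := by
      rw [eq_top_iff, ← (Pi.basisFun k (insert 1 G : Finset ℕ)).span_eq, Submodule.span_le]
      rintro _ ⟨n, rfl⟩
      have : Pi.basisFun k _ n = Ψ (e n) := by
        funext n'
        simp only [Ψ, piR_coeff hK, e, coeff_monomial, Pi.basisFun_apply, Pi.single_apply]
        by_cases h : n' = n
        · subst h
          by_cases h1 : (n' : ℕ) = 1
          · simp only [h1, ↓reduceIte, hx1 1 rfl]
            exact (by simpa using (lc_const (P := P) (1 : k)).symm)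
          · simp [h1, hxG _ ((Finset.mem_insert.mp n'.2).resolve_left h1)]
        · have h' : (n : ℕ) ≠ (n' : ℕ) := fun e => h (Subtype.ext e.symm)
          split_ifs with h1 <;> simp_all [lam, lc_zero]
      rw [this]
      exact hmW _ ((hmem _).mpr (by simp [e, coeff_monomial, hne0 n n.2]))
    have := finrank_range_le_card (R := k) (fun q : s => Ψ q)
    rw [Set.finrank, htop, finrank_top, Module.finrank_pi, Fintype.card_coe, Fintype.card_coe] at this
    exact this

end Main

end Groth.Misc15.Weier
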