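import Mathlib
import Groth.Agent.Misc15.WeierSemi
import Groth.Agent.Misc15.SymIff
import Groth.Agent.EGA43Valuative.DominatingDVR

/-! The section ring of a point is Gorenstein iff its Weierstrass semigroup is symmetric. -/

set_option autoImplicit false

universe u

open WithZero FunFld Polynomial Groth.FunFld1 W4c6gradedringsgw
open scoped Multiplicative IntermediateField.algebraAdjoinAdjoin

namespace Groth.Misc15.WeierGor

open Groth.Misc15.Weier

variable {k K : Type u} [Field k] [IsAlgClosed k] [Field K] [Algebra k K]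
  (hK : IsFunctionField k K) (hg : 1 ≤ genus k K) (P : Place k K)

local notation "RR" => sectRing (Finsupp.single P 1 : Divisor k K)

theorem one_mem_L_one : (1 : K) ∈ L (Finsupp.single P ((1 : ℕ) : ℤ)) :=
  fun Q => by
    classical
    rw [map_one, ← exp_zero, exp_le_exp, Finsupp.single_apply]
    split <;> simp

/-- The element `T`. -/
noncomputable def tt : RR := ⟨monomial 1 1, mono_R (one_mem_L_one P)⟩

theorem tt_coe : ((tt P : RR) : K[X]) = X := monomial_one_one_eq_X

theorem tt_pow (N : ℕ) : ((tt P ^ N : RR) : K[X]) = X ^ N := by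
  rw [SubmonoidClass.coe_pow, tt_coe]

include hK in
theorem mem_pred {n : ℕ} {y z : K} (hy : y ∈ L (Finsupp.single P (n : ℤ)))
    (hz : z ∈ L (Finsupp.single P (n : ℤ))) (hz1 : lam P n z = 1) :
    y - algebraMap k K (lam P n y) * z ∈ L (Finsupp.single P ((n : ℤ) - 1)) := by
  have hd : y - algebraMap k K (lam P n y) * z ∈ L (Finsupp.single P (n : ℤ)) :=
    sub_mem hy (by rw [← Algebra.smul_def]; exact Submodule.smul_mem _ _ hz)
  refine mem_pred_of_small hd ?_
  have h1 := sub_lc_lt (deg_P (P := P) hK) (int_of_mem hy)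
  have h2 := sub_lc_lt (deg_P (P := P) hK) (int_of_mem hz)
  rw [lam] at hz1
  rw [hz1, map_one] at h2
  rw [show (y - algebraMap k K (lam P n y) * z) * unif P ^ n =
    (y * unif P ^ n - algebraMap k K (lam P n y)) -
      algebraMap k K (lam P n y) * (z * unif P ^ n - 1) by ring]
  exact (P.1.map_sub _ _).trans_lt (max_lt h1 (by
    rw [map_mul]; exact mul_lt_one' (val_algebraMap_le P _) h2))

include hK hg in
/-- The section ring is a finitely generated algebra. -/
theorem finiteType : Algebra.FiniteType k RR := by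
  classical
  set N := 4 * genus k K + 2 with hN
  have hx : ∀ n : ℕ, ∃ x, ∃ hx : x ∈ L (Finsupp.single P (n : ℤ)), (NG P n → lam P n x = 1) ∧
      (¬ NG P n → x = 0) := fun n => by
    by_cases h : NG P n
    · obtain ⟨x, hx, hx1⟩ := exists_lam_eq_one hK h
      exact ⟨x, hx, fun _ => hx1, fun h' => absurd h h'⟩
    · exact ⟨0, zero_mem _, fun h' => absurd h' h, fun _ => rfl⟩
  choose x hx hx1 _ using hx
  let e : ℕ → RR := fun n => ⟨monomial n (x n), mono_R (hx n)⟩
  set G : Finset RR := insert (tt P) ((Finset.range (N + 1)).image e)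
  refine ⟨⟨G, ?_⟩⟩
  rw [eq_top_iff]
  set A := Algebra.adjoin k (G : Set RR)
  have hT : tt P ∈ A := Algebra.subset_adjoin (Finset.mem_coe.2 (Finset.mem_insert_self _ _))
  have hgood : ∀ n, NG P n → ∃ z, ∃ hz : z ∈ L (Finsupp.single P (n : ℤ)), lam P n z = 1 ∧
      (⟨monomial n z, mono_R hz⟩ : RR) ∈ A := by
    intro n
    induction n using Nat.strong_induction_on with
    | _ n ih =>
      intro hn
      by_cases hnN : n ≤ N
      · exact ⟨x n, hx n, hx1 n hn, Algebra.subset_adjoin (Finset.mem_coe.2
          (Finset.mem_insert_of_mem (Finset.mem_image_of_mem e (Finset.mem_range.2 (by omega)))))⟩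
      · obtain ⟨a, b, rfl, ha, hb, hlta, hltb⟩ : ∃ a b, a + b = n ∧ NG P a ∧ NG P b ∧ a < n ∧ b < n :=
          ⟨2 * genus k K + 1, n - (2 * genus k K + 1), by omega, ng_large hK (by omega) (by omega),
            ng_large hK (by omega) (by omega), by omega, by omega⟩
        obtain ⟨y, hy, hy1, hyA⟩ := ih a hlta ha
        obtain ⟨z, hz, hz1, hzA⟩ := ih b hltb hb
        have hyz : y * z ∈ L (Finsupp.single P ((a + b : ℕ) : ℤ)) := by
          have := mul_mem_L hy hz
          rwa [← Finsupp.single_add, ← Nat.cast_add] at this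
        refine ⟨y * z, hyz, ?_, ?_⟩
        · rw [lam, pow_add, show y * z * (unif P ^ a * unif P ^ b) =
            (y * unif P ^ a) * (z * unif P ^ b) by ring,
            lc_mul (deg_P hK) (int_of_mem hy) (int_of_mem hz)]
          rw [lam] at hy1 hz1
          rw [hy1, hz1, one_mul]
        · have : (⟨monomial (a + b) (y * z), mono_R hyz⟩ : RR) =
              ⟨_, mono_R hy⟩ * ⟨_, mono_R hz⟩ :=
            Subtype.ext (monomial_mul_monomial a b y z).symm
          rw [this]
          exact mul_mem hyA hzA
  have hmon : ∀ (n : ℕ) (y : K) (hy : y ∈ L (Finsupp.single P (n : ℤ))),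
      (⟨monomial n y, mono_R hy⟩ : RR) ∈ A := by
    intro n
    induction n with
    | zero =>
      intro y hy
      have hy' := hy
      rw [Nat.cast_zero, Finsupp.single_zero, L_zero_eq hK, Submodule.mem_one] at hy'
      obtain ⟨c, rfl⟩ := hy'
      have : (⟨monomial 0 (algebraMap k K c), mono_R hy⟩ : RR) = algebraMap k RR c :=
        Subtype.ext (by simp [Polynomial.algebraMap_apply])
      rw [this]; exact Subalgebra.algebraMap_mem _ _
    | succ n ih =>
      intro y hy
      have hstep : ∀ w, ∀ hw : w ∈ L (Finsupp.single P ((n + 1 : ℕ) : ℤ)),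
          w ∈ L (Finsupp.single P (n : ℤ)) → (⟨monomial (n + 1) w, mono_R hw⟩ : RR) ∈ A := by
        intro w hw hw'
        have : (⟨monomial (n + 1) w, mono_R hw⟩ : RR) = tt P * ⟨monomial n w, mono_R hw'⟩ :=
          Subtype.ext (by
            show monomial (n + 1) w = monomial 1 1 * monomial n w
            rw [monomial_mul_monomial, one_mul, add_comm])
        rw [this]
        exact mul_mem hT (ih w hw')
      by_cases hng : NG P (n + 1)
      · obtain ⟨z, hz, hz1, hzA⟩ := hgood (n + 1) hng
        set c := lam P (n + 1) y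
        have hd' : y - algebraMap k K c * z ∈ L (Finsupp.single P (n : ℤ)) := by
          simpa using mem_pred hK P hy hz hz1
        have hd : y - algebraMap k K c * z ∈ L (Finsupp.single P ((n + 1 : ℕ) : ℤ)) :=
          L_single_mono _ _ (by omega) hd'
        have : (⟨monomial (n + 1) y, mono_R hy⟩ : RR) =
            ⟨monomial (n + 1) (y - algebraMap k K c * z), mono_R hd⟩ +
              c • ⟨monomial (n + 1) z, mono_R hz⟩ := Subtype.ext (by
          show monomial (n + 1) y =
            monomial (n + 1) (y - algebraMap k K c * z) + c • monomial (n + 1) z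
          rw [Algebra.smul_def, Polynomial.algebraMap_apply, C_mul_monomial, ← map_add,
            sub_add_cancel])
        rw [this]
        exact add_mem (hstep _ hd hd') (Subalgebra.smul_mem _ hzA c)
      · refine hstep y hy ?_
        have := hy
        rw [(not_not.mp hng : L (Finsupp.single P ((n + 1 : ℕ) : ℤ)) = _)] at this
        simpa using this
  intro p _
  have : p = ∑ n ∈ p.1.support, (⟨monomial n (p.1.coeff n), mono_R (mem_R.mp p.2 n)⟩ : RR) :=
    Subtype.ext (by rw [AddSubmonoidClass.coe_finsetSum]; exact as_sum_support p.1)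
  rw [this]
  exact sum_mem fun n _ => hmon n _ (mem_R.mp p.2 n)

/-- The reduction onto `k[H]`. -/
noncomputable def red : RR →ₐ[k] Sym.semiAlg k (H hK P) :=
  (piR hK P).codRestrict _ fun p _ hn => piR_coeff_gap hK p hn

theorem red_surjective : Function.Surjective (red hK P) := by
  intro b
  suffices (b : k[X]) ∈ (piR hK P).range by
    obtain ⟨p, hp⟩ := this
    exact ⟨p, Subtype.ext hp⟩
  rw [as_sum_support b.1]
  refine sum_mem fun n hn => ?_
  have hng : NG P n := by
    by_contra h; exact mem_support_iff.mp hn (b.2 n h)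
  obtain ⟨x, hx, hx1⟩ := exists_lam_eq_one hK hng
  have : monomial n (b.1.coeff n) = b.1.coeff n • monomial n (1 : k) := by
    rw [smul_monomial, smul_eq_mul, mul_one]
  rw [this]
  refine Subalgebra.smul_mem _
    (show monomial n (1 : k) ∈ (piR hK P).range from ⟨⟨_, mono_R hx⟩, ?_⟩) _
  ext m
  show (pi0 P _).coeff m = _
  rw [pi0_coeff, coeff_monomial, coeff_monomial]
  split_ifs with e
  · subst e; exact hx1
  · simp [lam, lc_zero]

theorem ker_red : RingHom.ker (red hK P).toRingHom = Ideal.span {tt P} := by
  ext p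
  rw [RingHom.mem_ker, Ideal.mem_span_singleton]
  show red hK P p = 0 ↔ _
  rw [← Subtype.coe_inj]
  show piR hK P p = 0 ↔ _
  rw [piR_eq_zero_iff hK]
  constructor
  · rintro ⟨q, hq, e⟩
    exact ⟨⟨q, hq⟩, Subtype.ext (by rw [e, MulMemClass.coe_mul, tt_coe])⟩
  · rintro ⟨q, rfl⟩
    exact ⟨q.1, q.2, by rw [MulMemClass.coe_mul, tt_coe]⟩

include hK hg in
/-- The affine coordinate ring of `X ∖ P`. -/
theorem exists_affine : ∃ A : Subring K, IsDedekindDomain A ∧
    (∀ (n : ℕ), ∀ x ∈ L (Finsupp.single P (n : ℤ)), x ∈ A) ∧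
    (∀ a ∈ A, ∃ n : ℕ, a ∈ L (Finsupp.single P (n : ℤ))) := by
  set n0 := 2 * genus k K
  obtain ⟨u, hu, huP⟩ := exists_of_not_gap (ng_large (P := P) hK (n := n0) (by omega) le_rfl)
  have hu1 : 1 < P.1 u := by
    rw [huP, ← exp_zero, exp_lt_exp]; omega
  have hut : Transcendental k u := transcendental_of_one_lt_val P hu1
  set A0 := Algebra.adjoin k ({u} : Set K)
  let e0 : k[X] ≃ₐ[k] A0 :=
    (AlgEquiv.ofInjective (aeval u) (transcendental_iff_injective.1 hut)).trans
      (Subalgebra.equivOfEq _ _ (Algebra.adjoin_singleton_eq_range_aeval k u).symm)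
  haveI : IsNoetherianRing A0 := isNoetherianRing_of_ringEquiv k[X] e0.toRingEquiv
  haveI : Ring.KrullDimLE 1 A0 := by
    rw [Ring.krullDimLE_iff, ← ringKrullDim_eq_of_ringEquiv e0.toRingEquiv]
    exact Ring.krullDimLE_iff.1 inferInstance
  set F := IntermediateField.adjoin k ({u} : Set K)
  haveI := (IsFF.of_isFunctionField hK).finiteDimensional hut
  haveI := Groth.EGA43Val.isDedekindDomain_integralClosure A0 F K
  have hmem : ∀ z : K, z ∈ integralClosure A0 K ↔ ∀ Q : Place k K, Q ≠ P → Q.1 z ≤ 1 := by
    intro z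
    constructor
    · intro hz Q hQ
      have hA0 : A0.toSubring ≤ Q.O.toSubring := by
        intro a ha
        change Q.1 a ≤ 1
        induction ha using Algebra.adjoin_induction with
        | mem x hx =>
          rw [Set.mem_singleton_iff] at hx
          subst hx
          have := hu Q
          rwa [Finsupp.single_eq_of_ne hQ, exp_zero] at this
        | algebraMap c => exact Q.2.1 c
        | add a b _ _ ha hb => exact Valuation.map_add_le _ ha hb
        | mul a b _ _ ha hb => rw [map_mul]; exact mul_le_one' ha hb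
      letI : Algebra A0 Q.O := (Subring.inclusion hA0).toAlgebra
      haveI : IsScalarTower A0 Q.O K := IsScalarTower.of_algebraMap_eq fun _ => rfl
      obtain ⟨a, ha⟩ := IsIntegrallyClosed.isIntegral_iff.mp (IsIntegral.tower_top (A := Q.O) hz)
      exact ha ▸ a.2
    · intro h
      by_contra hz
      haveI : IsIntegrallyClosedIn (integralClosure A0 K).toSubring K := by
        refine Subring.isIntegrallyClosedIn_iff.mpr fun {x} hx => ?_
        exact isIntegral_trans (A := integralClosure A0 K) x hx
      obtain ⟨V, hV, hzV⟩ := Subring.exists_le_valuationSubring_of_isIntegrallyClosedIn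
        (R := (integralClosure A0 K).toSubring) hz
      have hA0 : ∀ a ∈ A0, a ∈ V := fun a ha =>
        hV ((integralClosure A0 K).algebraMap_mem (⟨a, ha⟩ : A0))
      obtain ⟨Q, hQ⟩ := (IsFF.of_isFunctionField hK).exists_place_O_eq V
        (fun c => hA0 _ (A0.algebraMap_mem c)) (fun htop => hzV (htop ▸ ValuationSubring.mem_top _))
      have huQ : Q.1 u ≤ 1 := by
        have : u ∈ Q.O := hQ ▸ hA0 u (Algebra.subset_adjoin rfl)
        exact this
      have hQP : Q ≠ P := fun e => absurd huQ (not_le.mpr (e ▸ hu1))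
      exact hzV (hQ ▸ (h Q hQP : z ∈ Q.O))
  refine ⟨(integralClosure A0 K).toSubring, ?_, ?_, ?_⟩
  · exact inferInstanceAs (IsDedekindDomain (integralClosure A0 K))
  · intro n x hx
    refine (hmem x).2 fun Q hQ => ?_
    have := hx Q
    rwa [Finsupp.single_eq_of_ne hQ, exp_zero] at this
  · intro a ha
    obtain ⟨n, hn⟩ : ∃ n : ℕ, P.1 a ≤ exp (n : ℤ) := by
      by_cases h0 : a = 0
      · exact ⟨0, by simp [h0]⟩
      · refine ⟨(-P.ord a).toNat, ?_⟩
        rw [val_eq_exp_neg_ord P h0, exp_le_exp]
        omega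
    refine ⟨n, fun Q => ?_⟩
    by_cases hQ : Q = P
    · subst hQ; rwa [Finsupp.single_eq_same]
    · rw [Finsupp.single_eq_of_ne hQ, exp_zero]
      exact (hmem a).1 ha Q hQ

theorem gor_congr {A : Type u} [CommRing A] {p p' : Ideal A} [p.IsPrime] [p'.IsPrime] (h : p = p')
    (hp : LocCoh.IsGorensteinLocalRing (Localization.AtPrime p')) :
    LocCoh.IsGorensteinLocalRing (Localization.AtPrime p) := by
  subst h; exact hp

include hK hg in
theorem main69 : LocCoh.IsGorensteinRing RR ↔ IsSymmetric (poleOrders P) := by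
  haveI := finiteType hK hg P
  haveI : IsNoetherianRing RR := Algebra.FiniteType.isNoetherianRing k _
  haveI : IsNoetherianRing (Sym.semiAlg k (H hK P)) :=
    isNoetherianRing_of_surjective RR _ (red hK P).toRingHom (red_surjective hK P)
  set n0 := 2 * genus k K
  have he : n0 ∈ H hK P := ng_large hK (by omega) le_rfl
  have hbig : ∀ n, n0 ≤ n → n ∈ H hK P := fun n hn => ng_large hK (by omega) hn
  have he0 : 0 < n0 := by omega
  have hsymm : IsSymmetric (poleOrders P) ↔
      ∃ d : ℤ, ∀ n : ℤ, (∃ h ∈ H hK P, (h : ℤ) = n) ↔ ¬ ∃ h ∈ H hK P, (h : ℤ) = d - n := by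
    rw [poleOrders_eq hK]; rfl
  have ht0 : tt P ≠ 0 := fun h => by
    have := congrArg (fun p : RR => p.1.coeff 1) h
    simp [tt] at this
  have hq := fun (q : Ideal (Sym.semiAlg k (H hK P))) [q.IsPrime] =>
    GorLoc.gor_quotient_iff (red hK P).toRingHom (red_surjective hK P) (tt P) ht0 (ker_red hK P) q
  obtain ⟨q0, hq0p, hq0⟩ := Sym.exists_origin (k := k) he hbig he0
  constructor
  · intro hR
    rw [hsymm, ← Sym.gor_at_origin_iff he hbig he0 q0 hq0, ← hq q0]
    exact hR.isGorensteinLocalRing_localization _
  · intro hs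
    refine { isGorensteinLocalRing_localization := fun p hp => ?_ }
    by_cases ht : tt P ∈ p
    · have hle : RingHom.ker (red hK P).toRingHom ≤ p := by
        rw [ker_red]; exact (Ideal.span_singleton_le_iff_mem _).2 ht
      set q := p.map (red hK P).toRingHom
      haveI : q.IsPrime := Ideal.map_isPrime_of_surjective (red_surjective hK P) hle
      have hpq : p = q.comap (red hK P).toRingHom :=
        ((Ideal.comap_map_of_surjective (red hK P).toRingHom (red_surjective hK P) p).trans
          (sup_eq_left.2 (by rwa [← RingHom.ker_eq_comap_bot]))).symm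
      have key : LocCoh.IsGorensteinLocalRing
          (Localization.AtPrime (q.comap (red hK P).toRingHom)) := by
        rw [hq]
        by_cases hx : Sym.xp (k := k) he ∈ q
        · exact (Sym.gor_at_origin_iff he hbig he0 _ hx).2 (hsymm.1 hs)
        · exact Sym.gor_of_notMem he hbig _ hx he0
      exact gor_congr hpq key
    · obtain ⟨A, hA, hLA, hAL⟩ := exists_affine hK hg P
      haveI := hA
      set S := (Polynomial.mapRingHom A.subtype).range
      have hinjm : Function.Injective (Polynomial.mapRingHom A.subtype) :=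
        Polynomial.map_injective _ Subtype.val_injective
      haveI : IsRegularRing S := IsRegularRing.of_ringEquiv
        (RingEquiv.ofBijective (Polynomial.mapRingHom A.subtype).rangeRestrict
          ⟨fun a b h => hinjm (congrArg Subtype.val h),
            RingHom.rangeRestrict_surjective _⟩)
      have hmemS : ∀ q : K[X], q ∈ S ↔ ∀ n, q.coeff n ∈ A := fun q => by
        rw [Polynomial.mem_map_range]
        exact forall_congr' fun n => ⟨fun ⟨a, ha⟩ => ha ▸ a.2, fun h => ⟨⟨_, h⟩, rfl⟩⟩
      let ι : RR →+* S := (RR).val.toRingHom.codRestrict S fun q =>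
        (hmemS _).2 fun n => hLA n _ (mem_R.1 q.2 n)
      refine GorLoc.gor_of_birational ι (fun a b h => Subtype.ext (congrArg (Subtype.val) h :))
        (tt P) (fun s => ?_) p ht
      choose N hN using fun n => hAL _ ((hmemS s.1).1 s.2 n)
      let M := s.1.support.sup N
      have hXs : X ^ M * s.1 ∈ RR := by
        rw [mem_R]
        intro m
        rw [coeff_X_pow_mul']
        split
        · next hle =>
          by_cases hm : m - M ∈ s.1.support
          · refine L_single_mono _ _ ?_ (hN (m - M))
            have := Finset.le_sup (f := N) hm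
            omega
          · rw [notMem_support_iff.1 hm]; exact zero_mem _
        · exact zero_mem _
      refine ⟨M, ⟨_, hXs⟩, Subtype.ext ?_⟩
      show ((tt P : RR) : K[X]) ^ M * s.1 = X ^ M * s.1
      rw [← SubmonoidClass.coe_pow, tt_pow]

end Groth.Misc15.WeierGor
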